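/-
`Sp(U) ⊗ O(W)` inside `Sp(U ⊗ W)`, odd characteristic: forms, contractions and elements of the stabiliser.
-/
import Cfsg.Agent.Geo.TensorOrthBasic

set_option autoImplicit false
set_option linter.unusedSectionVars false

namespace CfsgLib.Geo.TensorSp

open Matrix CfsgLib.Geo CfsgLib.Geo.Tensor CfsgLib.Geo.TensorO
open scoped Kronecker

variable {α β : Type} [Fintype α] [DecidableEq α] [Fintype β] [DecidableEq β] {F : Type*} [Field F]

/-- A product of an alternating form and a symmetric one. -/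
structure IsTS (B : LinearMap.BilinForm F (α × β → F)) (b : LinearMap.BilinForm F (α → F))
    (s : LinearMap.BilinForm F (β → F)) : Prop where
  bnd : b.Nondegenerate
  balt : b.IsAlt
  snd : s.Nondegenerate
  ssym : ∀ f f', s f f' = s f' f
  two : (2 : F) ≠ 0
  pol : ∀ u f u' f', B (ten u f) (ten u' f') = b u u' * s f f'

/-- Contraction against `u` in the first factor. -/
def cu (b : LinearMap.BilinForm F (α → F)) (u : α → F) : (α × β → F) →ₗ[F] (β → F) := cR (TensorO.vec b u)

/-- Contraction against `f` in the second factor. -/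
def cw (s : LinearMap.BilinForm F (β → F)) (f : β → F) : (α × β → F) →ₗ[F] (α → F) := cL (TensorO.vec s f)

/-- The isometries. -/
def iso (B : LinearMap.BilinForm F (α × β → F)) : Subgroup (GL (α × β) F) where
  carrier := {g | ∀ x y, B ((g : Matrix _ _ F) *ᵥ x) ((g : Matrix _ _ F) *ᵥ y) = B x y}
  one_mem' := fun x y => by simp
  mul_mem' := fun {g h} hg hh x y => by rw [mul_mulVec, mul_mulVec, hg, hh]
  inv_mem' := fun {g} hg x y => by
    conv_rhs => rw [← mulVec_inv_mulVec g x, ← mulVec_inv_mulVec g y, hg]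

/-- No totally singular plane: orthogonal null vectors are proportional. -/
def NoPlane (s : LinearMap.BilinForm F (β → F)) : Prop :=
  ∀ x y, s x x = 0 → s y y = 0 → s x y = 0 → x ≠ 0 → ∃ c : F, y = c • x

/-- The Kronecker products. -/
def krs : Subgroup (GL (α × β) F) where
  carrier := {g | ∃ (a : GL α F) (c : GL β F), g = kr a c}
  one_mem' := ⟨1, 1, kr_one.symm⟩
  mul_mem' := fun {g h} ⟨a, c, hg⟩ ⟨a', c', hh⟩ => ⟨a * a', c * c', by rw [hg, hh, kr_mul]⟩
  inv_mem' := fun {g} ⟨a, c, hg⟩ => ⟨a⁻¹, c⁻¹, by rw [hg, kr_inv]⟩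

variable {B : LinearMap.BilinForm F (α × β → F)} {b : LinearMap.BilinForm F (α → F)}
  {s : LinearMap.BilinForm F (β → F)}

@[simp] theorem cu_ten (u u' : α → F) (f : β → F) : cu b u (ten u' f) = b u u' • f := by
  rw [cu, cR_ten, vec_dot]

@[simp] theorem cw_ten (u : α → F) (f f' : β → F) : cw s f (ten u f') = s f f' • u := by
  rw [cw, cL_ten, vec_dot]

theorem cu_add (u u' : α → F) (x : α × β → F) : cu b (u + u') x = cu b u x + cu b u' x := by
  funext j
  simp [cu, cR_apply, add_mul, Finset.sum_add_distrib]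

theorem cu_smul (c : F) (u : α → F) (x : α × β → F) : cu b (c • u) x = c • cu b u x := by
  funext j
  simp [cu, cR_apply, Finset.mul_sum, mul_assoc]

theorem cw_add (f f' : β → F) (x : α × β → F) : cw s (f + f') x = cw s f x + cw s f' x := by
  simp only [cw, map_add, cL_add]

theorem cw_smul (c : F) (f : β → F) (x : α × β → F) : cw s (c • f) x = c • cw s f x := by
  simp only [cw, map_smul, cL_smul]

variable (hT : IsTS B b s)
include hT

theorem IsTS.b_swap (u v : α → F) : b v u = -b u v := alt_swap hT.balt u v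

theorem IsTS.ten_left (u : α → F) (f : β → F) (x : α × β → F) : B (ten u f) x = s f (cu b u x) := by
  have := Tensor.map_ext (S := B (ten u f)) (T := (s f) ∘ₗ cu b u) fun u' f' => by
    show B (ten u f) (ten u' f') = _
    rw [hT.pol, LinearMap.comp_apply, cu_ten, map_smul, smul_eq_mul]
  exact LinearMap.congr_fun this x

theorem IsTS.ten_left' (u : α → F) (f : β → F) (x : α × β → F) : B (ten u f) x = b u (cw s f x) := by
  have := Tensor.map_ext (S := B (ten u f)) (T := (b u) ∘ₗ cw s f) fun u' f' => by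
    show B (ten u f) (ten u' f') = _
    rw [hT.pol, LinearMap.comp_apply, cw_ten, map_smul, smul_eq_mul, mul_comm]
  exact LinearMap.congr_fun this x

theorem IsTS.swap (x y : α × β → F) : B y x = -B x y := by
  have h1 : ∀ u f y, B y (ten u f) = -B (ten u f) y := fun u f y => by
    have := Tensor.map_ext (S := B.flip (ten u f)) (T := -(B (ten u f))) fun u' f' => by
      show B (ten u' f') (ten u f) = -B (ten u f) (ten u' f')
      rw [hT.pol, hT.pol, hT.b_swap u u', hT.ssym f' f]; ring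
    exact LinearMap.congr_fun this y
  have := Tensor.map_ext (S := B y) (T := -(B.flip y)) fun u f => by
    show B y (ten u f) = -B (ten u f) y
    exact h1 u f y
  exact LinearMap.congr_fun this x

theorem IsTS.ten_right (u : α → F) (f : β → F) (x : α × β → F) : B x (ten u f) = -s f (cu b u x) := by
  rw [hT.swap, hT.ten_left]

theorem IsTS.eq_zero_right {x : α × β → F} (h : ∀ u f, B (ten u f) x = 0) : x = 0 := by
  funext ⟨i, j⟩
  obtain ⟨u, hu⟩ := exists_vec hT.bnd (Pi.single i 1)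
  have h0 : cu b u x = 0 := eq_of_forall hT.snd fun z => by
    rw [hT.ssym, ← hT.ten_left, h, map_zero, LinearMap.zero_apply]
  have := congrFun h0 j
  simpa [cu, hu, cR_apply, Pi.single_apply] using this

theorem IsTS.nondeg {x : α × β → F} (h : ∀ y, B x y = 0) : x = 0 :=
  hT.eq_zero_right fun u f => by rw [hT.swap, h, neg_zero]

theorem IsTS.ext {x y : α × β → F} (h : ∀ u, cu b u x = cu b u y) : x = y :=
  sub_eq_zero.1 (hT.eq_zero_right fun u f => by rw [map_sub, hT.ten_left, hT.ten_left, h, sub_self])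

theorem IsTS.s_smul_right (f f' : β → F) (c : F) : s f (c • f') = c * s f f' := by
  rw [map_smul, smul_eq_mul]

theorem IsTS.eq_of_s {f f' : β → F} (h : ∀ z, s z f = s z f') : f = f' :=
  eq_of_forall hT.snd fun z => by rw [hT.ssym, h, ← hT.ssym]

theorem IsTS.eq_of_b {u u' : α → F} (h : ∀ z, b z u = b z u') : u = u' :=
  eq_of_forall_left hT.bnd hT.balt h

theorem IsTS.exists_b_one {z : α → F} (hz : z ≠ 0) : ∃ u, b z u = 1 := by
  obtain ⟨u, hu⟩ := exists_left_one hT.bnd hz
  exact ⟨-u, by rw [map_neg, ← hT.b_swap, hu]⟩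

theorem IsTS.exists_s_one {f : β → F} (hf : f ≠ 0) : ∃ k, s f k = 1 := by
  obtain ⟨k, hk⟩ := exists_left_one hT.snd hf
  exact ⟨k, by rw [hT.ssym, hk]⟩

theorem IsTS.iso_eq {g : GL (α × β) F}
    (h : ∀ u f u' f', B ((g : Matrix _ _ F) *ᵥ ten u f) ((g : Matrix _ _ F) *ᵥ ten u' f') = b u u' * s f f') :
    g ∈ iso B := by
  let G := Matrix.mulVecLin (g : Matrix (α × β) (α × β) F)
  have h1 : ∀ u f y, B (G (ten u f)) (G y) = B (ten u f) y := fun u f y => by
    have := Tensor.map_ext (S := B (G (ten u f)) ∘ₗ G) (T := B (ten u f)) fun u' f' => by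
      show B (G (ten u f)) (G (ten u' f')) = _
      rw [hT.pol]; exact h u f u' f'
    exact LinearMap.congr_fun this y
  intro x y
  have := Tensor.map_ext (S := (B.flip (G y)) ∘ₗ G) (T := B.flip y) fun u f => h1 u f y
  exact LinearMap.congr_fun this x

/-- A product of similitudes with inverse multipliers lies in the stabiliser. -/
theorem IsTS.exists_pair (f₁ : (α → F) →ₗ[F] (α → F)) (f₂ : (β → F) →ₗ[F] (β → F)) {μ : F} (hμ : μ ≠ 0)
    (h₁ : ∀ u u', b (f₁ u) (f₁ u') = μ * b u u') (h₂ : ∀ f f', s (f₂ f) (f₂ f') = μ⁻¹ * s f f') :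
    ∃ g ∈ krs ⊓ iso B, ∀ u f, (g : Matrix (α × β) (α × β) F) *ᵥ ten u f = ten (f₁ u) (f₂ f) := by
  have hi₁ : Function.Injective f₁ := (injective_iff_map_eq_zero f₁).2 fun u hu =>
    eq_of_forall hT.bnd fun z => mul_left_cancel₀ hμ (by rw [← h₁, hu]; simp)
  have hi₂ : Function.Injective f₂ := (injective_iff_map_eq_zero f₂).2 fun u hu =>
    eq_of_forall hT.snd fun z => mul_left_cancel₀ (inv_ne_zero hμ) (by rw [← h₂, hu]; simp)
  obtain ⟨a, ha⟩ := exists_gl f₁ hi₁
  obtain ⟨c, hc⟩ := exists_gl f₂ hi₂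
  refine ⟨kr a c, ⟨⟨a, c, rfl⟩, hT.iso_eq fun u f u' f' => ?_⟩, fun u f => by rw [kr_ten, ha, hc]⟩
  rw [kr_ten, kr_ten, ha, ha, hc, hc, hT.pol, h₁, h₂, mul_mul_mul_comm, mul_inv_cancel₀ hμ, one_mul]

/-- `f₁ ⊗ 1`. -/
theorem IsTS.exists_left (f₁ : (α → F) →ₗ[F] (α → F)) (h₁ : ∀ u u', b (f₁ u) (f₁ u') = b u u') :
    ∃ g ∈ krs ⊓ iso B, ∀ u f, (g : Matrix (α × β) (α × β) F) *ᵥ ten u f = ten (f₁ u) f :=
  hT.exists_pair f₁ LinearMap.id one_ne_zero (fun u u' => by rw [h₁, one_mul]) fun f f' => by simp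

/-- `1 ⊗ f₂`. -/
theorem IsTS.exists_right (f₂ : (β → F) →ₗ[F] (β → F)) (h₂ : ∀ f f', s (f₂ f) (f₂ f') = s f f') :
    ∃ g ∈ krs ⊓ iso B, ∀ u f, (g : Matrix (α × β) (α × β) F) *ᵥ ten u f = ten u (f₂ f) :=
  hT.exists_pair LinearMap.id f₂ one_ne_zero (fun u u' => by simp) fun f f' => by rw [h₂, inv_one, one_mul]

/-- `t ⊗ 1` for a transvection `t`. -/
theorem IsTS.exists_T (z : α → F) (c : F) : ∃ g ∈ krs ⊓ iso B, ∀ x,
    (g : Matrix (α × β) (α × β) F) *ᵥ x = x + c • ten z (cu b z x) := by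
  obtain ⟨g, hg, hgt⟩ := hT.exists_left (LinearMap.id + (b z).smulRight (c • z)) fun u u' => by
    simp [hT.balt z, hT.b_swap z u]
    ring
  refine ⟨g, hg, fun x => ?_⟩
  have := Tensor.map_ext (S := Matrix.mulVecLin (g : Matrix (α × β) (α × β) F))
    (T := LinearMap.id + c • (tenL z ∘ₗ cu b z)) fun u f => by
      simp [hgt, ten_add_left, ten_smul_left, ten_smul_right, smul_smul, mul_comm]
  simpa using LinearMap.congr_fun this x

/-- The element `x ↦ x + z ⊗ cu u x + u ⊗ cu z x`, for `u` orthogonal to `z`. -/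
theorem IsTS.exists_E {z u : α → F} (h : b z u = 0) : ∃ g ∈ krs ⊓ iso B, ∀ x,
    (g : Matrix (α × β) (α × β) F) *ᵥ x = x + ten z (cu b u x) + ten u (cu b z x) := by
  obtain ⟨g, hg, hgt⟩ := hT.exists_left (LinearMap.id + (b u).smulRight z + (b z).smulRight u) fun v v' => by
    simp [hT.balt z, hT.balt u, h, alt_zero_swap hT.balt h, hT.b_swap z v, hT.b_swap u v]
    ring
  refine ⟨g, hg, fun x => ?_⟩
  have := Tensor.map_ext (S := Matrix.mulVecLin (g : Matrix (α × β) (α × β) F))
    (T := LinearMap.id + tenL z ∘ₗ cu b u + tenL u ∘ₗ cu b z) fun v f => by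
      simp [hgt, ten_add_left, ten_smul_left, ten_smul_right]
  simpa using LinearMap.congr_fun this x

/-- The reflection of the second factor in an anisotropic vector. -/
theorem IsTS.exists_refl {v : β → F} (hv : s v v ≠ 0) : ∃ g ∈ krs ⊓ iso B, ∀ x,
    (g : Matrix (α × β) (α × β) F) *ᵥ x = x - (2 / s v v) • ten (cw s v x) v := by
  obtain ⟨g, hg, hgt⟩ := hT.exists_right (LinearMap.id - (s v).smulRight ((2 / s v v) • v)) fun f f' => by
    simp [hT.ssym f v]
    field_simp
    ring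
  refine ⟨g, hg, fun x => ?_⟩
  have := Tensor.map_ext (S := Matrix.mulVecLin (g : Matrix (α × β) (α × β) F))
    (T := LinearMap.id - (2 / s v v) • (tenR v ∘ₗ cw s v)) fun u f => by
      simp [hgt, ten_sub_right, ten_smul_left, ten_smul_right, smul_smul, mul_comm]
  simpa using LinearMap.congr_fun this x

end CfsgLib.Geo.TensorSp
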