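/-
Overgroups of `Sp(U) ⊗ O(W)`: a non-scalar member of a root group gives every transvection.
-/
import Cfsg.Agent.Geo.TensorSym.Basic

set_option autoImplicit false
set_option linter.unusedSectionVars false

namespace CfsgLib.Geo.TensorSp

open Matrix CfsgLib.Geo CfsgLib.Geo.Tensor CfsgLib.Geo.TensorO

variable {α β : Type} [Fintype α] [DecidableEq α] [Fintype β] [DecidableEq β] {F : Type*} [Field F]
variable {B : LinearMap.BilinForm F (α × β → F)} {b : LinearMap.BilinForm F (α → F)}
  {s : LinearMap.BilinForm F (β → F)} {M : Subgroup (GL (α × β) F)}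

/-- An overgroup of the stabiliser among the isometries. -/
structure Over (B : LinearMap.BilinForm F (α × β → F)) (M : Subgroup (GL (α × β) F)) : Prop where
  le : krs ⊓ iso B ≤ M
  sub : M ≤ iso B

/-- `M` contains `x ↦ x + z ⊗ Γ (cu z x)`. -/
def InR (b : LinearMap.BilinForm F (α → F)) (M : Subgroup (GL (α × β) F)) (z : α → F)
    (Γ : (β → F) →ₗ[F] (β → F)) : Prop :=
  ∃ g ∈ M, ∀ x, (g : Matrix (α × β) (α × β) F) *ᵥ x = x + ten z (Γ (cu b z x))

/-- The root groups contain only scalars. -/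
def OnlyScalar (b : LinearMap.BilinForm F (α → F)) (M : Subgroup (GL (α × β) F)) : Prop :=
  ∀ z, z ≠ 0 → ∀ Γ, InR b M z Γ → ∃ c : F, ∀ f, Γ f = c • f

/-- Every transvection at `v` lies in `M`. -/
def Full (B : LinearMap.BilinForm F (α × β → F)) (M : Subgroup (GL (α × β) F)) (v : α × β → F) : Prop :=
  ∀ c : F, ∃ g ∈ M, ∀ x, (g : Matrix (α × β) (α × β) F) *ᵥ x = x + (c * B v x) • v

/-- A vector outside three proper subspaces. -/
theorem exists_notMem_three {V : Type*} [AddCommGroup V] [Module F V] (h2 : (2 : F) ≠ 0) {A C D : Submodule F V}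
    (hA : A ≠ ⊤) (hC : C ≠ ⊤) (hD : D ≠ ⊤) : ∃ x, x ∉ A ∧ x ∉ C ∧ x ∉ D := by
  have out : ∀ {S : Submodule F V}, S ≠ ⊤ → ∃ x, x ∉ S := fun hS => by
    by_contra h
    push Not at h
    exact hS (Submodule.eq_top_iff'.2 h)
  obtain ⟨a, haA, haC⟩ : ∃ a, a ∉ A ∧ a ∉ C := by
    obtain ⟨a, ha⟩ := out hA
    obtain ⟨c, hc⟩ := out hC
    by_cases haC : a ∈ C
    · by_cases hcA : c ∈ A
      · exact ⟨a + c, fun h => ha ((A.add_mem_iff_left hcA).1 h), fun h => hc ((C.add_mem_iff_right haC).1 h)⟩
      · exact ⟨c, hcA, hc⟩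
    · exact ⟨a, ha, haC⟩
  by_cases haD : a ∈ D
  swap
  · exact ⟨a, haA, haC, haD⟩
  obtain ⟨d, hd⟩ := out hD
  have hDt : ∀ t : F, d + t • a ∉ D := fun t h => hd ((D.add_mem_iff_left (D.smul_mem t haD)).1 h)
  have one : ∀ {S : Submodule F V}, a ∉ S → ∀ t t' : F, d + t • a ∈ S → d + t' • a ∈ S → t = t' :=
    fun haS t t' h h' => by
      by_contra hne
      have := Submodule.sub_mem _ h h'
      rw [show d + t • a - (d + t' • a) = (t - t') • a by module] at this
      exact haS ((Submodule.smul_mem_iff _ (sub_ne_zero.2 hne)).1 this)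
  by_contra hcon
  push Not at hcon
  have hor : ∀ t : F, d + t • a ∈ A ∨ d + t • a ∈ C := fun t => by
    by_contra h
    push Not at h
    exact hDt t (hcon _ h.1 h.2)
  have n01 : (0 : F) ≠ 1 := zero_ne_one
  have n12 : (1 : F) ≠ 2 := fun h => one_ne_zero (show (1 : F) = 0 by linear_combination -h)
  have n02 : (0 : F) ≠ 2 := Ne.symm h2
  rcases hor 0 with h0 | h0 <;> rcases hor 1 with h1 | h1 <;> rcases hor 2 with h2' | h2'
  · exact n01 (one haA _ _ h0 h1)
  · exact n01 (one haA _ _ h0 h1)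
  · exact n02 (one haA _ _ h0 h2')
  · exact n12 (one haC _ _ h1 h2')
  · exact n12 (one haA _ _ h1 h2')
  · exact n02 (one haC _ _ h0 h2')
  · exact n01 (one haC _ _ h0 h1)
  · exact n01 (one haC _ _ h0 h1)

variable (hT : IsTS B b s) (hM : Over B M)
include hT hM

theorem Full.smul {v : α × β → F} (h : Full B M v) (a : F) : Full B M (a • v) := fun c => by
  obtain ⟨g, hg, hgx⟩ := h (c * a * a)
  exact ⟨g, hg, fun x => by rw [hgx, map_smul, LinearMap.smul_apply, smul_smul, smul_eq_mul]; congr 2; ring⟩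

theorem Full.conj {v : α × β → F} (h : Full B M v) {g : GL (α × β) F} (hg : g ∈ M) :
    Full B M ((g : Matrix (α × β) (α × β) F) *ᵥ v) := fun c => by
  obtain ⟨t, ht, htx⟩ := h c
  refine ⟨g * t * g⁻¹, M.mul_mem (M.mul_mem hg ht) (M.inv_mem hg), fun x => ?_⟩
  rw [mul_mulVec, mul_mulVec, htx, Matrix.mulVec_add, Matrix.mulVec_smul, mulVec_inv_mulVec,
    ← hM.sub hg v, mulVec_inv_mulVec]

theorem Full.add {v w : α × β → F} (hv : Full B M v) (hw : Full B M w) (h : B w v ≠ 0) (a : F) :
    Full B M (v + a • w) := by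
  obtain ⟨t, ht, htx⟩ := hw (a / B w v)
  have := Full.conj hT hM hv ht
  rwa [htx, div_mul_cancel₀ a h] at this

theorem Full.add' {v w : α × β → F} (hv : Full B M v) (hw : Full B M w) (h : B w v ≠ 0) :
    Full B M (v + w) := by simpa using Full.add hT hM hv hw h 1

/-- Full pure tensors suffice. -/
theorem full_all (h : ∀ u f, Full B M (ten u f)) : ∀ x, Full B M x := by
  have self : ∀ x, B x x = 0 := fun x => by
    have := hT.swap x x
    exact (mul_eq_zero.1 (show (2 : F) * B x x = 0 by linear_combination this)).resolve_left hT.two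
  have hins : ∀ x, Full B M x → ∀ u f, Full B M (x + ten u f) := by
    intro x hx u f
    rcases eq_or_ne x 0 with rfl | hx0
    · rw [zero_add]; exact h u f
    rcases eq_or_ne (ten u f) 0 with e | hp0
    · rwa [e, add_zero]
    rcases eq_or_ne (x + ten u f) 0 with e | hy0
    · rw [e, show (0 : α × β → F) = (0 : F) • x by rw [zero_smul]]; exact hx.smul hT hM 0
    by_cases hb : B (ten u f) x = 0
    swap
    · exact hx.add' hT hM (h u f) hb
    set p := ten u f
    set y := x + p with hy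
    let K : (α × β → F) → Submodule F (β → F) := fun z =>
      { carrier := {f' | cw s f' z = 0}
        zero_mem' := by simp [cw, cL_apply, funext_iff]
        add_mem' := fun {c d} hc hd => by
          show cw s (c + d) z = 0
          rw [cw_add, show cw s c z = 0 from hc, show cw s d z = 0 from hd, add_zero]
        smul_mem' := fun c f' hf => by
          show cw s (c • f') z = 0
          rw [cw_smul, show cw s f' z = 0 from hf, smul_zero] }
    have hK : ∀ z, z ≠ 0 → K z ≠ ⊤ := fun z hz e => hz (hT.eq_zero_right fun u' f' => by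
      rw [hT.ten_left', show cw s f' z = 0 from (Submodule.eq_top_iff'.1 e) f', map_zero])
    obtain ⟨f', hf1, hf2, hf3⟩ := exists_notMem_three hT.two (hK x hx0) (hK p hp0) (hK y hy0)
    have hker : ∀ z : α → F, z ≠ 0 → LinearMap.ker (b.flip z) ≠ ⊤ := fun z hz e => hz (eq_of_forall_left
      hT.bnd hT.balt fun u' => by
        rw [map_zero]
        exact LinearMap.mem_ker.1 (show u' ∈ LinearMap.ker (b.flip z) by rw [e]; trivial))
    obtain ⟨u', hu1, hu2, hu3⟩ := exists_notMem_three hT.two (hker _ hf1) (hker _ hf2) (hker _ hf3)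
    set p' := ten u' f'
    have k1 : B p' x ≠ 0 := fun e => hu1 (by rw [LinearMap.mem_ker]; exact (hT.ten_left' u' f' x).symm.trans e)
    have k2 : B p' p ≠ 0 := fun e => hu2 (by rw [LinearMap.mem_ker]; exact (hT.ten_left' u' f' p).symm.trans e)
    have k3 : B p' y ≠ 0 := fun e => hu3 (by rw [LinearMap.mem_ker]; exact (hT.ten_left' u' f' y).symm.trans e)
    have h1 := hx.add' hT hM (h u' f') k1
    have h2 := h1.add' hT hM (h u f) (by
      rw [map_add, hb, zero_add, hT.swap p' p]
      exact neg_ne_zero.2 k2)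
    have h3 := h2.add hT hM (h u' f') (by
      rw [add_right_comm, map_add (B p') (x + p) p', ← hy, self p', add_zero]
      exact k3) (-1)
    rwa [show x + p' + p + (-1 : F) • p' = y by rw [hy]; module] at h3
  intro x
  have hx : ∀ S : Finset (α × β), Full B M (∑ i ∈ S, x i • Pi.single i (1 : F)) := fun S => by
    induction S using Finset.induction with
    | empty =>
      rw [Finset.sum_empty, show (0 : α × β → F) = (0 : F) • ten (0 : α → F) (0 : β → F) by rw [zero_smul]]
      exact (h 0 0).smul hT hM 0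
    | @insert i S hi ih =>
      rw [Finset.sum_insert hi, add_comm]
      obtain ⟨i, j⟩ := i
      rw [← ten_single, ← ten_smul_left]
      exact hins _ ih _ _
  convert hx Finset.univ
  exact pi_eq_sum_univ' x

/-- Elements of `Sp(U) ⊗ 1` carry any non-zero vector to any other. -/
theorem exists_move {z z' : α → F} (hz : z ≠ 0) (hz' : z' ≠ 0) :
    ∃ g ∈ krs ⊓ iso B, ∀ f, (g : Matrix (α × β) (α × β) F) *ᵥ ten z f = ten z' f := by
  have step : ∀ p q : α → F, b p q ≠ 0 →
      ∃ g ∈ krs ⊓ iso B, ∀ f, (g : Matrix (α × β) (α × β) F) *ᵥ ten p f = ten q f := by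
    intro p q hpq
    have hqp : b (q - p) p ≠ 0 := by
      rw [map_sub, LinearMap.sub_apply, hT.balt p, sub_zero, hT.b_swap p q, neg_ne_zero]
      exact hpq
    obtain ⟨g, hg, hgx⟩ := hT.exists_T (q - p) (b (q - p) p)⁻¹
    refine ⟨g, hg, fun f => ?_⟩
    rw [hgx, cu_ten, ten_smul_right, smul_smul, inv_mul_cancel₀ hqp, one_smul, ← ten_add_left,
      add_sub_cancel]
  by_cases hb : b z z' = 0
  swap
  · exact step z z' hb
  have hk : ∀ p : α → F, p ≠ 0 → LinearMap.ker (b p) ≠ ⊤ := fun p hp e => hp (eq_of_forall hT.bnd fun q => by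
    rw [map_zero, LinearMap.zero_apply]
    exact LinearMap.mem_ker.1 (show q ∈ LinearMap.ker (b p) by rw [e]; trivial))
  obtain ⟨w, h1, h2, -⟩ := exists_notMem_three hT.two (hk z hz) (hk z' hz') (hk z hz)
  obtain ⟨g, hg, hgx⟩ := step z w h1
  obtain ⟨g', hg', hgx'⟩ := step w z' (fun e => h2 (LinearMap.mem_ker.2 (alt_zero_swap hT.balt e)))
  exact ⟨g' * g, mul_mem hg' hg, fun f => by rw [mul_mulVec, hgx, hgx']⟩

/-- One full null pure tensor makes all tensors full. -/
theorem full_of_null {z : α → F} (hz : z ≠ 0) {ν : β → F} (hν0 : ν ≠ 0) (hν : s ν ν = 0)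
    (h : Full B M (ten z ν)) : ∀ x, Full B M x := by
  have hall : ∀ f, Full B M (ten z f) → ∀ u, Full B M (ten u f) := fun f hf u => by
    rcases eq_or_ne u 0 with rfl | hu
    · rw [show ten (0 : α → F) f = (0 : F) • ten z f by rw [zero_smul, ten_zero_left]]
      exact hf.smul hT hM 0
    obtain ⟨g, hg, hgx⟩ := exists_move hT hM hz hu
    have := hf.conj hT hM (hM.le hg)
    rwa [hgx] at this
  have hrefl : ∀ f p w, s w w ≠ 0 → (∀ u, Full B M (ten u f)) → f - (2 * s w f / s w w) • w = p →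
      ∀ u, Full B M (ten u p) := by
    intro f p w hw hf e u
    obtain ⟨g, hg, hgx⟩ := hT.exists_refl hw
    have := (hf u).conj hT hM (hM.le hg)
    rwa [hgx, cw_ten, ten_smul_left, smul_smul, ← ten_smul_right, ← ten_sub_right,
      show f - (2 / s w w * s w f) • w = p by rw [← e]; congr 2; ring] at this
  -- from a null vector to every null vector not orthogonal to it
  have hnull : ∀ f p, s f f = 0 → s p p = 0 → s f p ≠ 0 → (∀ u, Full B M (ten u f)) →
      ∀ u, Full B M (ten u p) := by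
    intro f p hf hp hfp hF
    have hw : s (f - p) (f - p) = -2 * s f p := by
      simp only [map_sub, LinearMap.sub_apply, hf, hp, hT.ssym p f]; ring
    have h2 : s (f - p) (f - p) ≠ 0 := by rw [hw]; exact mul_ne_zero (neg_ne_zero.2 hT.two) hfp
    refine hrefl f p (f - p) h2 hF ?_
    rw [show 2 * s (f - p) f / s (f - p) (f - p) = 1 by
      rw [div_eq_one_iff_eq h2, hw, map_sub, LinearMap.sub_apply, hf, hT.ssym p f]; ring, one_smul,
      sub_sub_cancel]
  obtain ⟨k0, hk0⟩ := hT.exists_s_one hν0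
  have h2 := hT.two
  set μ := k0 - (s k0 k0 / 2) • ν with hμ
  have hνμ : s ν μ = 1 := by simp [hμ, hν, hk0]
  have hμν : s μ ν = 1 := by rw [hT.ssym, hνμ]
  have hμμ : s μ μ = 0 := by
    simp [hμ, hν, hk0, hT.ssym k0 ν]
    field_simp
    ring
  have hFν := hall ν h
  have hFμ := hnull ν μ hν hμμ (by rw [hνμ]; exact one_ne_zero) hFν
  -- the hyperbolic plane
  have hP : ∀ c d : F, ∀ u, Full B M (ten u (c • ν + d • μ)) := by
    intro c d u
    rcases eq_or_ne u 0 with rfl | hu
    · rw [show ten (0 : α → F) (c • ν + d • μ) = (0 : F) • ten z ν by rw [zero_smul, ten_zero_left]]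
      exact h.smul hT hM 0
    obtain ⟨u', hu'⟩ := hT.exists_b_one hu
    have h1 := Full.add hT hM ((hFν u).smul hT hM c) (hFμ u') (w := ten u' μ)
    have h3 : Full B M (c • ten u ν + ten u' μ) := by
      rcases eq_or_ne c 0 with rfl | hc
      · rw [zero_smul, zero_add]; exact hFμ u'
      · have := h1 (by
          rw [map_smul, hT.pol, hT.b_swap u u', hu', hμν, smul_eq_mul]
          simpa using hc) 1
        rwa [one_smul] at this
    rcases eq_or_ne c 0 with rfl | hc
    · rw [zero_smul, zero_add, ten_smul_right]; exact (hFμ u).smul hT hM d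
    have h4 := h3.add' hT hM (hFμ (d • u - u')) (by
      rw [map_add, map_smul, hT.pol, hT.pol, hμν, hμμ, mul_zero, add_zero]
      simp [hT.balt u, hT.b_swap u u', hu', hc])
    rwa [add_assoc, ← ten_add_left, add_sub_cancel, ten_smul_left, ← ten_smul_right, ← ten_smul_right,
      ← ten_add_right] at h4
  refine full_all hT hM fun u f => ?_
  by_cases hff : s f f = 0
  · rcases eq_or_ne f 0 with rfl | hf0
    · rw [ten_zero_right, show (0 : α × β → F) = (0 : F) • ten z ν by rw [zero_smul]]; exact h.smul hT hM 0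
    by_cases h1 : s ν f = 0
    swap
    · exact hnull ν f hν hff h1 hFν u
    by_cases h2' : s μ f = 0
    swap
    · exact hnull μ f hμμ hff h2' hFμ u
    obtain ⟨k1, hk1⟩ := hT.exists_s_one hf0
    set k2 := k1 - (s μ k1) • ν - (s ν k1) • μ with hk2
    set k := k2 - (s k2 k2 / 2) • f with hk
    have a1 : s ν k2 = 0 := by simp [hk2, hν, hνμ]
    have a2 : s μ k2 = 0 := by simp [hk2, hμν, hμμ]
    have a3 : s f k2 = 1 := by simp [hk2, hk1, hT.ssym f ν, hT.ssym f μ, h1, h2']
    have b1 : s ν k = 0 := by simp [hk, a1, h1]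
    have b2 : s μ k = 0 := by simp [hk, a2, h2']
    have b3 : s f k = 1 := by simp [hk, a3, hff]
    have b4 : s k k = 0 := by
      simp [hk, a3, hff, hT.ssym k2 f]
      field_simp
      ring
    set w := ν + μ + k with hw
    have hww : s w w = 2 := by
      simp [hw, hν, hνμ, hμμ, hμν, b1, b2, b4, hT.ssym k ν, hT.ssym k μ]
      ring
    have hwf : s w f = 1 := by simp [hw, h1, h2', hT.ssym k f, b3]
    -- the reflection in `w` moves `f` off the orthogonal of `ν`
    have hmove : ∀ u, Full B M (ten u (f - w)) := fun u => by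
      refine hnull ν (f - w) hν ?_ ?_ hFν u
      · simp only [map_sub, LinearMap.sub_apply, hff, hT.ssym f w, hwf, hww]; ring
      · simp [hw, h1, hν, hνμ, b1]
    refine hrefl (f - w) f w (by rw [hww]; exact h2) hmove ?_ u
    rw [hww, map_sub, hwf, hww, show 2 * ((1 : F) - 2) / 2 = -1 by field_simp; ring]
    module
  · set p := ν + (s f f / 2) • μ with hp
    have hpp : s p p = s f f := by simp [hp, hν, hνμ, hμμ, hμν]; field_simp; ring
    have hFp : ∀ u, Full B M (ten u p) := fun u => by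
      have := hP 1 (s f f / 2) u
      rwa [one_smul] at this
    have hsum : s (p - f) (p - f) + s (p + f) (p + f) = 4 * s f f := by
      simp only [map_sub, map_add, LinearMap.sub_apply, LinearMap.add_apply, hpp]; ring
    by_cases hd : s (p - f) (p - f) = 0
    · have hs : s (p + f) (p + f) ≠ 0 := fun e => hff (by
        rw [hd, e, add_zero] at hsum
        exact (mul_eq_zero.1 hsum.symm).resolve_left (by
          rw [show (4 : F) = 2 * 2 by norm_num]; exact mul_ne_zero h2 h2))
      have := (hrefl p (-f) (p + f) hs hFp (by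
        rw [show 2 * s (p + f) p / s (p + f) (p + f) = 1 by
          rw [div_eq_one_iff_eq hs]
          simp only [map_add, LinearMap.add_apply, hpp, hT.ssym f p]; ring, one_smul]
        abel) u).smul hT hM (-1)
      rwa [← ten_smul_right, neg_one_smul, neg_neg] at this
    · refine hrefl p f (p - f) hd hFp ?_ u
      rw [show 2 * s (p - f) p / s (p - f) (p - f) = 1 by
        rw [div_eq_one_iff_eq hd]
        simp only [map_sub, LinearMap.sub_apply, hpp, hT.ssym f p]; ring, one_smul, sub_sub_cancel]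

section root

variable {z : α → F} (hz : z ≠ 0)
include hz

theorem inR_scalar (c : F) : InR b M z (c • LinearMap.id) := by
  obtain ⟨g, hg, hgx⟩ := hT.exists_T z c
  exact ⟨g, hM.le hg, fun x => by rw [hgx]; simp [ten_smul_right]⟩

theorem InR.add {Γ Γ' : (β → F) →ₗ[F] (β → F)} (h : InR b M z Γ) (h' : InR b M z Γ') : InR b M z (Γ + Γ') := by
  obtain ⟨g, hg, hgx⟩ := h
  obtain ⟨g', hg', hgx'⟩ := h'
  refine ⟨g * g', M.mul_mem hg hg', fun x => ?_⟩
  rw [mul_mulVec, hgx', hgx, map_add, cu_ten, hT.balt z, zero_smul, add_zero, LinearMap.add_apply, ten_add_right]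
  abel

theorem InR.neg {Γ : (β → F) →ₗ[F] (β → F)} (h : InR b M z Γ) : InR b M z (-Γ) := by
  obtain ⟨g, hg, hgx⟩ := h
  refine ⟨g⁻¹, M.inv_mem hg, fun x => ?_⟩
  have h1 : (g : Matrix (α × β) (α × β) F) *ᵥ (x + ten z ((-Γ) (cu b z x))) = x := by
    rw [hgx, map_add, cu_ten, hT.balt z, zero_smul, add_zero, LinearMap.neg_apply, add_assoc,
      ← ten_add_right, neg_add_cancel, ten_zero_right, add_zero]
  conv_lhs => rw [← h1]
  rw [inv_mulVec_mulVec]

theorem InR.sub {Γ Γ' : (β → F) →ₗ[F] (β → F)} (h : InR b M z Γ) (h' : InR b M z Γ') : InR b M z (Γ - Γ') := by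
  rw [sub_eq_add_neg]; exact h.add hT hM hz (h'.neg hT hM hz)

theorem InR.selfAdj {Γ : (β → F) →ₗ[F] (β → F)} (h : InR b M z Γ) (f f' : β → F) : s (Γ f) f' = s f (Γ f') := by
  obtain ⟨g, hg, hgx⟩ := h
  obtain ⟨y, hy⟩ := hT.exists_b_one hz
  have e := hM.sub hg (ten y f) (ten y f')
  simp only [hgx, cu_ten, hy, one_smul, map_add, LinearMap.add_apply, hT.pol, hT.b_swap z y, hT.balt z] at e
  linear_combination e

/-- Conjugation by an isometry of the second factor. -/
theorem InR.orth {Γ : (β → F) →ₗ[F] (β → F)} (h : InR b M z Γ) (A A' : (β → F) →ₗ[F] (β → F))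
    (hA : ∀ f f', s (A f) (A f') = s f f') (hA' : ∀ f f', s (A f) f' = s f (A' f')) :
    InR b M z (A ∘ₗ Γ ∘ₗ A') := by
  obtain ⟨g, hg, hgx⟩ := h
  obtain ⟨k, hk, hkt⟩ := hT.exists_right A hA
  refine ⟨k * g * k⁻¹, M.mul_mem (M.mul_mem (hM.le hk) hg) (M.inv_mem (hM.le hk)), fun x => ?_⟩
  have hcu : cu b z (((k⁻¹ : GL (α × β) F) : Matrix (α × β) (α × β) F) *ᵥ x) = A' (cu b z x) :=
    hT.eq_of_s fun f => by
      rw [← hT.ten_left, ← hk.2, mulVec_inv_mulVec, hkt, hT.ten_left, hA']
  rw [mul_mulVec, mul_mulVec, hgx, hcu, Matrix.mulVec_add, mulVec_inv_mulVec, hkt]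
  rfl

theorem InR.smul {Γ : (β → F) →ₗ[F] (β → F)} (h : InR b M z Γ) (c : F) : InR b M z (c • Γ) := by
  obtain ⟨y, hy⟩ := hT.exists_b_one hz
  have hyz : b y z = -1 := by rw [hT.b_swap z y, hy]
  have sq : ∀ μ : F, μ ≠ 0 → InR b M z ((μ * μ) • Γ) := by
    intro μ hμ
    obtain ⟨g, hg, hgx⟩ := h
    obtain ⟨k, hk, hkt⟩ := hT.exists_left
      (LinearMap.id + (b y).smulRight ((1 - μ) • z) + (b z).smulRight ((μ⁻¹ - 1) • y)) fun u u' => by
        simp [hT.balt z, hT.balt y, hy, hyz, hT.b_swap z u, hT.b_swap y u]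
        field_simp
        ring
    have hkz : ∀ f, (k : Matrix (α × β) (α × β) F) *ᵥ ten z f = μ • ten z f := fun f => by
      rw [hkt, ← ten_smul_left]
      congr 1
      simp [hT.balt z, hyz]
      module
    refine ⟨k * g * k⁻¹, M.mul_mem (M.mul_mem (hM.le hk) hg) (M.inv_mem (hM.le hk)), fun x => ?_⟩
    have hcu : cu b z (((k⁻¹ : GL (α × β) F) : Matrix (α × β) (α × β) F) *ᵥ x) = μ • cu b z x :=
      hT.eq_of_s fun f => by
        rw [← hT.ten_left, ← hk.2, mulVec_inv_mulVec, hkz, map_smul, LinearMap.smul_apply, hT.ten_left,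
          map_smul]
    rw [mul_mulVec, mul_mulVec, hgx, hcu, Matrix.mulVec_add, mulVec_inv_mulVec, hkz, map_smul,
      LinearMap.smul_apply, ten_smul_right, smul_smul, ten_smul_right]
  have sq' : ∀ μ : F, InR b M z ((μ * μ) • Γ) := fun μ => by
    rcases eq_or_ne μ 0 with rfl | hμ
    · rw [mul_zero, zero_smul, ← zero_smul F (LinearMap.id : (β → F) →ₗ[F] (β → F))]
      exact inR_scalar hT hM hz 0
    · exact sq μ hμ
  have := (sq' ((c + 1) / 2)).sub hT hM hz (sq' ((c - 1) / 2))
  have h2 := hT.two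
  convert this using 1
  match_scalars
  field_simp
  ring

end root

end CfsgLib.Geo.TensorSp
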