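/-
Overgroups of `Sp(U) ⊗ O(W)`: a root group with a non-scalar member gives every transvection.
-/
import Cfsg.Agent.Geo.TensorSym.Roots

set_option autoImplicit false
set_option linter.unusedSectionVars false

namespace CfsgLib.Geo.TensorSp

open Matrix CfsgLib.Geo CfsgLib.Geo.Tensor CfsgLib.Geo.TensorO

variable {α β : Type} [Fintype α] [DecidableEq α] [Fintype β] [DecidableEq β] {F : Type*} [Field F]
variable {B : LinearMap.BilinForm F (α × β → F)} {b : LinearMap.BilinForm F (α → F)}
  {s : LinearMap.BilinForm F (β → F)} {M : Subgroup (GL (α × β) F)}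

/-- The reflection in `w`. -/
noncomputable def rfl' (s : LinearMap.BilinForm F (β → F)) (w : β → F) : (β → F) →ₗ[F] (β → F) :=
  LinearMap.id - (2 / s w w) • (s w).smulRight w

/-- The symmetrised product of `v` and `γ`. -/
def dd (s : LinearMap.BilinForm F (β → F)) (v γ : β → F) : (β → F) →ₗ[F] (β → F) :=
  (s γ).smulRight v + (s v).smulRight γ

theorem dd_apply (v γ f : β → F) : dd s v γ f = s γ f • v + s v f • γ := rfl

theorem dd_add (v γ γ' : β → F) : dd s v (γ + γ') = dd s v γ + dd s v γ' := by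
  refine LinearMap.ext fun f => ?_
  simp [dd_apply]
  module

theorem dd_smul (v γ : β → F) (c : F) : dd s v (c • γ) = c • dd s v γ := by
  refine LinearMap.ext fun f => ?_
  simp [dd_apply]
  module

theorem rfl'_apply (w f : β → F) : rfl' s w f = f - (2 / s w w * s w f) • w := by
  simp [rfl', smul_smul]

variable (hT : IsTS B b s) (hM : Over B M)
include hT

theorem rfl'_symm (w f f' : β → F) : s (rfl' s w f) f' = s f (rfl' s w f') := by
  simp [rfl'_apply, hT.ssym f w]
  ring

theorem rfl'_iso {w : β → F} (hw : s w w ≠ 0) (f f' : β → F) : s (rfl' s w f) (rfl' s w f') = s f f' := by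
  simp [rfl'_apply, hT.ssym f w]
  field_simp
  ring

theorem exists_aniso_in {P : (β → F) →ₗ[F] (β → F)} (hP : ∀ f f', s (P f) f' = s (P f) (P f'))
    {f₀ : β → F} (h0 : P f₀ ≠ 0) : ∃ f, s (P f) (P f) ≠ 0 := by
  by_contra hcon
  push Not at hcon
  obtain ⟨k, hk⟩ := hT.exists_s_one h0
  have := hcon (f₀ + k)
  simp only [map_add, LinearMap.add_apply, hcon, hT.ssym (P k) (P f₀), ← hP, hk, zero_add, add_zero] at this
  exact hT.two (by linear_combination this)

include hM

section root

variable {z : α → F} (hz : z ≠ 0)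
include hz

theorem InR.diff_refl {Γ : (β → F) →ₗ[F] (β → F)} (h : InR b M z Γ) {v : β → F} (hv : s v v ≠ 0) :
    InR b M z (dd s v (Γ v - (s v (Γ v) / s v v) • v)) := by
  have := ((h.sub hT hM hz (h.orth hT hM hz (rfl' s v) (rfl' s v) (rfl'_iso hT hv)
    (rfl'_symm hT v))).smul hT hM hz (s v v / 2))
  convert this using 1
  refine LinearMap.ext fun f => ?_
  have e := h.selfAdj hT hM hz v f
  have h2 := hT.two
  simp [dd_apply, rfl'_apply, e, hT.ssym (Γ v) f, hT.ssym (Γ v) v]
  match_scalars <;> field_simp <;> linear_combination (0 : F) * h2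

/-- The vectors `γ ⊥ v` for which `dd v γ` lies in the root group. -/
def InS (b : LinearMap.BilinForm F (α → F)) (s : LinearMap.BilinForm F (β → F)) (M : Subgroup (GL (α × β) F))
    (z : α → F) (v γ : β → F) : Prop :=
  s v γ = 0 ∧ InR b M z (dd s v γ)

theorem InS.add {v γ γ' : β → F} (h : InS b s M z v γ) (h' : InS b s M z v γ') : InS b s M z v (γ + γ') :=
  ⟨by rw [map_add, h.1, h'.1, add_zero], by rw [dd_add]; exact h.2.add hT hM hz h'.2⟩

theorem InS.smul {v γ : β → F} (h : InS b s M z v γ) (c : F) : InS b s M z v (c • γ) :=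
  ⟨by rw [map_smul, h.1, smul_zero], by rw [dd_smul]; exact h.2.smul hT hM hz c⟩

theorem InS.reach {v γ w : β → F} (h : InS b s M z v γ) (hvw : s v w = 0) (hw : s w w ≠ 0) (hwγ : s w γ ≠ 0) :
    InS b s M z v w := by
  have h1 : InS b s M z v (rfl' s w γ) := by
    refine ⟨?_, ?_⟩
    · rw [rfl'_apply, map_sub, map_smul, h.1, hvw, smul_zero, sub_zero]
    · convert h.2.orth hT hM hz (rfl' s w) (rfl' s w) (rfl'_iso hT hw) (rfl'_symm hT w) using 1
      refine LinearMap.ext fun f => ?_
      simp [dd_apply, rfl'_apply, hT.ssym w v, hvw, hT.ssym γ w, hT.ssym f w]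
      match_scalars <;> ring
  have := (h.add hT hM hz (h1.smul hT hM hz (-1))).smul hT hM hz (s w w / (2 * s w γ))
  convert this using 1
  have h2 := hT.two
  rw [rfl'_apply]
  match_scalars <;> field_simp <;> ring

/-- A null vector in the set gives the rank-one member. -/
theorem InS.rank_one {v ν : β → F} (h : InS b s M z v ν) (hv : s v v ≠ 0) (hν : s ν ν = 0) :
    InR b M z ((s ν).smulRight ν) := by
  have h2 := hT.two
  have hνv : s ν v = 0 := by rw [hT.ssym, h.1]
  set E : (β → F) →ₗ[F] (β → F) := LinearMap.id + (s ν).smulRight (v - (s v v / 2) • ν) - (s v).smulRight ν with hE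
  set E' : (β → F) →ₗ[F] (β → F) := LinearMap.id - (s ν).smulRight (v + (s v v / 2) • ν) + (s v).smulRight ν with hE'
  have hEi : ∀ f f', s (E f) (E f') = s f f' := fun f f' => by
    simp [hE, hν, hνv, h.1, hT.ssym f ν, hT.ssym f v]
    field_simp
    ring
  have hEa : ∀ f f', s (E f) f' = s f (E' f') := fun f f' => by
    simp [hE, hE', hT.ssym f ν, hT.ssym f v]
    field_simp
    ring
  have := ((h.2.sub hT hM hz (h.2.orth hT hM hz E E' hEi hEa)).smul hT hM hz (1 / (2 * s v v)))
  convert this using 1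
  refine LinearMap.ext fun f => ?_
  simp [dd_apply, hE, hE', hν, hνv, h.1]
  match_scalars <;> field_simp <;> ring

/-- A non-scalar member of a root group makes every transvection lie in `M`. -/
theorem root_full {Γ : (β → F) →ₗ[F] (β → F)} (h : InR b M z Γ) (hns : ¬ ∃ c : F, ∀ f, Γ f = c • f)
    (hnull : ∃ ν : β → F, ν ≠ 0 ∧ s ν ν = 0) (h3 : 3 ≤ Fintype.card β)
    (h4 : 4 ≤ Fintype.card β ∨ ∃ e : F, e ≠ 0 ∧ e ≠ 1 ∧ e ≠ -1) : ∀ x, Full B M x := by
  have h2 := hT.two
  obtain ⟨ν, hν0, hν⟩ := hnull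
  obtain ⟨k, hk⟩ := hT.exists_s_one hν0
  set μ := k - (s k k / 2) • ν with hμdef
  have hνμ : s ν μ = 1 := by simp [hμdef, hν, hk]
  have hμν : s μ ν = 1 := by rw [hT.ssym, hνμ]
  have hμμ : s μ μ = 0 := by simp [hμdef, hν, hk, hT.ssym k ν]; field_simp; ring
  -- an anisotropic vector, orthogonal to a null one, which is no eigenvector
  obtain ⟨v, ν, μ, hν0, hν, hμμ, hνμ, hvν, hvμ, hv, hγ⟩ : ∃ v ν μ : β → F, ν ≠ 0 ∧ s ν ν = 0 ∧ s μ μ = 0 ∧
      s ν μ = 1 ∧ s v ν = 0 ∧ s v μ = 0 ∧ s v v ≠ 0 ∧ Γ v - (s v (Γ v) / s v v) • v ≠ 0 := by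
    by_contra hcon
    push Not at hcon
    have eig : ∀ v ν' μ' : β → F, ν' ≠ 0 → s ν' ν' = 0 → s μ' μ' = 0 → s ν' μ' = 1 → s v ν' = 0 →
        s v μ' = 0 → s v v ≠ 0 → ∃ c, Γ v = c • v :=
      fun v ν' μ' a1 a2 a3 a4 a5 a6 a7 => ⟨_, sub_eq_zero.1 (hcon v ν' μ' a1 a2 a3 a4 a5 a6 a7)⟩
    -- the orthogonal of the hyperbolic pair
    set P : (β → F) →ₗ[F] (β → F) := LinearMap.id - (s μ).smulRight ν - (s ν).smulRight μ with hPdef
    have hPν : ∀ f, s ν (P f) = 0 := fun f => by simp [hPdef, hν, hνμ]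
    have hPμ : ∀ f, s μ (P f) = 0 := fun f => by simp [hPdef, hμμ, hμν]
    have hP : ∀ f f', s (P f) f' = s (P f) (P f') := fun f f' => by
      rw [show P f' = f' - s μ f' • ν - s ν f' • μ from rfl, map_sub, map_sub, map_smul, map_smul,
        hT.ssym _ ν, hT.ssym _ μ, hPν, hPμ]
      simp
    have hPne : ∃ f₀, P f₀ ≠ 0 := by
      by_contra hall
      push Not at hall
      have hsurj : Function.Surjective (LinearMap.lsum F (fun _ : Fin 2 => F) F
          ![LinearMap.toSpanSingleton F (β → F) ν, LinearMap.toSpanSingleton F (β → F) μ]) := fun f => by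
        refine ⟨![s μ f, s ν f], ?_⟩
        have := hall f
        rw [hPdef] at this
        simp [Fin.sum_univ_two] at this ⊢
        linear_combination (norm := module) -this
      have := LinearMap.finrank_le_finrank_of_surjective hsurj
      simp at this
      omega
    obtain ⟨f₀, hf₀⟩ := hPne
    obtain ⟨v₀', hv₀⟩ := exists_aniso_in hT hP hf₀
    set v₀ := P v₀' with hv₀def
    have a1 : s v₀ ν = 0 := by rw [hT.ssym, hPν]
    have a2 : s v₀ μ = 0 := by rw [hT.ssym, hPμ]
    have hμ0 : μ ≠ 0 := fun e => one_ne_zero (α := F) (by rw [← hνμ, e, map_zero])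
    obtain ⟨c₀, hc₀⟩ := eig v₀ ν μ hν0 hν hμμ hνμ a1 a2 hv₀
    -- `ν` has the same eigenvalue
    have key : ∀ ν' μ' : β → F, ν' ≠ 0 → μ' ≠ 0 → s ν' ν' = 0 → s μ' μ' = 0 → s ν' μ' = 1 → s v₀ ν' = 0 →
        s v₀ μ' = 0 → Γ ν' = c₀ • ν' := by
      intro ν' μ' hn hm b1 b2 b3 b4 b5
      have hsh : ∀ t : F, ∃ c, Γ (v₀ + t • ν') = c • (v₀ + t • ν') := fun t => by
        set μ'' := μ' - (t / s v₀ v₀) • s ν' μ' • v₀ - (t * t / (2 * s v₀ v₀)) • ν' with hμ''
        refine eig _ ν' μ'' hn b1 ?_ ?_ ?_ ?_ ?_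
        · simp [hμ'', b1, b2, b3, b4, b5, hT.ssym ν' v₀, hT.ssym μ' v₀, hT.ssym μ' ν']
          field_simp
          ring
        · simp [hμ'', b1, b3, b4, hT.ssym ν' v₀]
        · simp [b1, b4, hT.ssym ν' v₀]
        · simp [hμ'', b1, b3, b4, b5, hT.ssym ν' v₀]
          field_simp
          ring
        · simp [b1, b4, hT.ssym ν' v₀]
          exact hv₀
      obtain ⟨c₁, hc₁⟩ := hsh 1
      obtain ⟨c₂, hc₂⟩ := hsh (-1)
      have ind : ∀ x y : F, x • v₀ + y • ν' = 0 → x = 0 ∧ y = 0 := fun x y e => by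
        have h1 := congrArg (s v₀) e
        have h2' := congrArg (s μ') e
        simp [b4, b5, hT.ssym μ' ν', b3, hT.ssym μ' v₀] at h1 h2'
        exact ⟨h1.resolve_right hv₀, h2'⟩
      have e12 : Γ ν' + Γ ν' = (c₁ - c₂) • v₀ + (c₁ + c₂) • ν' := by
        rw [one_smul, map_add] at hc₁
        rw [neg_one_smul, map_add, map_neg] at hc₂
        linear_combination (norm := module) hc₁ - hc₂
      have e0 : (c₁ + c₂ - 2 * c₀) • v₀ + (c₁ - c₂) • ν' = 0 := by
        rw [one_smul, map_add] at hc₁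
        rw [neg_one_smul, map_add, map_neg] at hc₂
        linear_combination (norm := module) (2 : F) • hc₀ - hc₁ - hc₂
      obtain ⟨e1, e2⟩ := ind _ _ e0
      rw [e2, zero_smul, zero_add, show c₁ + c₂ = 2 * c₀ by linear_combination e1] at e12
      have := congrArg (fun w => (2 : F)⁻¹ • w) e12
      simp only [smul_smul] at this
      rw [← two_smul F (Γ ν'), smul_smul, inv_mul_cancel₀ h2, one_smul, ← mul_assoc, inv_mul_cancel₀ h2,
        one_mul] at this
      exact this
    have hν' := key ν μ hν0 hμ0 hν hμμ hνμ a1 a2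
    have hμ' := key μ ν hμ0 hν0 hμμ hν hμν a2 a1
    have hperp : ∀ f, Γ (P f) = c₀ • P f := by
      have han : ∀ f, s (P f) (P f) ≠ 0 → ∃ c, Γ (P f) = c • P f := fun f hf =>
        eig _ ν μ hν0 hν hμμ hνμ (by rw [hT.ssym, hPν]) (by rw [hT.ssym, hPμ]) hf
      have hsame : ∀ f, s (P f) (P f) ≠ 0 → Γ (P f) = c₀ • P f := fun f hf => by
        obtain ⟨c, hc⟩ := han f hf
        obtain ⟨d, hd⟩ := eig (P f + ν) ν (μ - (1 / s (P f) (P f)) • P f - (1 / (2 * s (P f) (P f))) • ν)
          hν0 hν (by simp [hν, hμμ, hνμ, hμν, hPν, hPμ, hT.ssym (P f) ν, hT.ssym (P f) μ]; field_simp; ring)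
          (by simp [hν, hνμ, hPν]) (by simp [hν, hT.ssym (P f) ν, hPν])
          (by simp [hν, hνμ, hPν, hPμ, hT.ssym (P f) ν, hT.ssym (P f) μ]; field_simp; ring)
          (by simp [hν, hPν, hT.ssym (P f) ν]; exact hf)
        rw [map_add, hc, hν'] at hd
        have h1 := congrArg (s μ) hd
        simp [hμν, hPμ] at h1
        have h2' := congrArg (s (P f)) hd
        simp [hT.ssym (P f) ν, hPν] at h2'
        rw [hc, h2'.resolve_right hf, ← h1]
      intro f
      by_cases hf : s (P f) (P f) = 0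
      swap
      · exact hsame f hf
      by_cases hp : s (P (f + v₀')) (P (f + v₀')) = 0
      swap
      · have := hsame _ hp
        rw [map_add, map_add, hsame v₀' hv₀, smul_add] at this
        exact add_right_cancel this
      · have hm : s (P (f - v₀')) (P (f - v₀')) ≠ 0 := fun e => hv₀ (by
          simp only [map_add, map_sub, LinearMap.add_apply, LinearMap.sub_apply, hf] at hp e
          exact (mul_eq_zero.1 (show (2 : F) * s v₀ v₀ = 0 by rw [hv₀def]; linear_combination hp + e)).resolve_left h2)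
        have := hsame _ hm
        rw [map_sub, map_sub, hsame v₀' hv₀, smul_sub] at this
        exact sub_left_injective this
    refine hns ⟨c₀, fun f => ?_⟩
    have hf : f = P f + s μ f • ν + s ν f • μ := by rw [hPdef]; simp; abel
    conv_lhs => rw [hf]
    rw [map_add, map_add, map_smul, map_smul, hperp, hν', hμ']
    conv_rhs => rw [hf]
    module
  have hS : InS b s M z v (Γ v - (s v (Γ v) / s v v) • v) :=
    ⟨by rw [map_sub, map_smul, smul_eq_mul, div_mul_cancel₀ _ hv, sub_self], h.diff_refl hT hM hz hv⟩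
  set γ := Γ v - (s v (Γ v) / s v v) • v
  have hμν : s μ ν = 1 := by rw [hT.ssym, hνμ]
  have hνv : s ν v = 0 := by rw [hT.ssym, hvν]
  have hμv : s μ v = 0 := by rw [hT.ssym, hvμ]
  suffices hkey : InS b s M z v ν by
    refine full_of_null hT hM hz hν0 hν fun c => ?_
    obtain ⟨g, hg, hgx⟩ := (hkey.rank_one hT hM hz hv hν).smul hT hM hz c
    exact ⟨g, hg, fun x => by
      rw [hgx, hT.ten_left]
      simp [smul_smul, ten_smul_right]⟩
  have hline : ∀ t : F, s (ν + t • μ) (ν + t • μ) = 2 * t := fun t => by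
    simp [hν, hμμ, hνμ, hμν]; ring
  have hline' : ∀ t : F, s v (ν + t • μ) = 0 := fun t => by simp [hvν, hvμ]
  by_cases h4' : 4 ≤ Fintype.card β
  · -- a third direction
    set P : (β → F) →ₗ[F] (β → F) :=
      LinearMap.id - (s μ).smulRight ν - (s ν).smulRight μ - (s v).smulRight ((1 / s v v) • v) with hPdef
    have hPν : ∀ f, s ν (P f) = 0 := fun f => by simp [hPdef, hν, hνμ, hνv]
    have hPμ : ∀ f, s μ (P f) = 0 := fun f => by simp [hPdef, hμμ, hμν, hμv]
    have hPv : ∀ f, s v (P f) = 0 := fun f => by simp [hPdef, hvν, hvμ, hv]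
    have hP : ∀ f f', s (P f) f' = s (P f) (P f') := fun f f' => by
      rw [show P f' = f' - s μ f' • ν - s ν f' • μ - s v f' • ((1 / s v v) • v) from rfl, map_sub, map_sub,
        map_sub, map_smul, map_smul, map_smul, map_smul, hT.ssym (P f) ν, hT.ssym (P f) μ, hT.ssym (P f) v,
        hPν, hPμ, hPv]
      simp
    have hPne : ∃ f₀, P f₀ ≠ 0 := by
      by_contra hall
      push Not at hall
      have hsurj : Function.Surjective (LinearMap.lsum F (fun _ : Fin 3 => F) F
          ![LinearMap.toSpanSingleton F (β → F) ν, LinearMap.toSpanSingleton F (β → F) μ,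
            LinearMap.toSpanSingleton F (β → F) v]) := fun f => by
        refine ⟨![s μ f, s ν f, s v f * (1 / s v v)], ?_⟩
        have := hall f
        rw [hPdef] at this
        simp [Fin.sum_univ_three] at this ⊢
        linear_combination (norm := module) -this
      have := LinearMap.finrank_le_finrank_of_surjective hsurj
      simp at this
      omega
    obtain ⟨f₀, hf₀⟩ := hPne
    obtain ⟨p', hp⟩ := exists_aniso_in hT hP hf₀
    set p := P p' with hpdef
    -- a point off the orthogonal of the hyperbolic pair suffices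
    have fin : ∀ γ', InS b s M z v γ' → s ν γ' ≠ 0 ∨ s μ γ' ≠ 0 → InS b s M z v ν := by
      intro γ' hγ' hor
      obtain ⟨t, ht0, ht⟩ : ∃ t : F, t ≠ 0 ∧ s (ν + t • μ) γ' ≠ 0 := by
        by_contra hc
        push Not at hc
        have e1 := hc 1 one_ne_zero
        have e2 := hc (-1) (neg_ne_zero.2 one_ne_zero)
        simp at e1 e2
        have a : (2 : F) * s ν γ' = 0 := by linear_combination e1 + e2
        have a' : (2 : F) * s μ γ' = 0 := by linear_combination e1 - e2
        rcases hor with ho | ho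
        · exact ho ((mul_eq_zero.1 a).resolve_left h2)
        · exact ho ((mul_eq_zero.1 a').resolve_left h2)
      have hw := hγ'.reach hT hM hz (hline' t) (by rw [hline]; exact mul_ne_zero h2 ht0) ht
      have hpm : ∀ e : F, e ≠ 0 → InS b s M z v (ν + e • p) := fun e he => hw.reach hT hM hz
        (by simp [hvν, hpdef, hPv])
        (by simp [hν, hpdef, hPν, hT.ssym (P p') ν]; exact ⟨he, hp⟩)
        (by simp [hν, hνμ, hpdef, hPν, hPμ, hT.ssym (P p') ν, hT.ssym (P p') μ]; exact ht0)
      have := ((hpm 1 one_ne_zero).add hT hM hz (hpm (-1) (neg_ne_zero.2 one_ne_zero))).smul hT hM hz (1 / 2)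
      convert this using 1
      match_scalars <;> field_simp <;> ring
    by_cases hor : s ν γ ≠ 0 ∨ s μ γ ≠ 0
    · exact fin γ hS hor
    push Not at hor
    obtain ⟨k', hk'⟩ := hT.exists_s_one (show γ ≠ 0 from hγ)
    have hPk : s (P k') γ = 1 := by
      rw [hT.ssym, hPdef]
      simp [hT.ssym γ ν, hT.ssym γ μ, hT.ssym γ v, hor.1, hor.2, hS.1, hk']
    obtain ⟨c, hc⟩ : ∃ c : F, 2 * c + s (P k') (P k') ≠ 0 := by
      by_contra hc
      push Not at hc
      exact h2 (by linear_combination hc 1 - hc 0)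
    refine fin (ν + P k' + c • μ) (hS.reach hT hM hz ?_ ?_ ?_) (Or.inr ?_)
    · simp [hvν, hvμ, hPv]
    · simp [hν, hμμ, hνμ, hμν, hPν, hPμ, hT.ssym (P k') ν, hT.ssym (P k') μ]
      intro h'
      exact hc (by linear_combination h')
    · simp [hor.1, hor.2, hPk]
    · simp [hμν, hμμ, hPμ]
  · -- two points of the hyperbolic line suffice
    obtain ⟨e, he0, he1, he2⟩ := h4.resolve_left h4'
    have hor : s ν γ ≠ 0 ∨ s μ γ ≠ 0 := by
      by_contra hc
      push Not at hc
      apply hγ
      have hli : LinearIndependent F ![ν, μ, v] := by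
        rw [Fintype.linearIndependent_iff]
        intro g hg
        simp [Fin.sum_univ_three] at hg
        have e1 := congrArg (s μ) hg
        have e2 := congrArg (s ν) hg
        have e3 := congrArg (s v) hg
        simp [hν, hμμ, hνμ, hμν, hνv, hμv, hvν, hvμ] at e1 e2 e3
        intro i
        fin_cases i
        · exact e1
        · exact e2
        · exact e3.resolve_right hv
      have hsp := hli.span_eq_top_of_card_eq_finrank (by simp; omega)
      refine eq_of_forall hT.snd fun x => ?_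
      have hx : x ∈ Submodule.span F (Set.range ![ν, μ, v]) := by rw [hsp]; trivial
      obtain ⟨cf, hcf⟩ := (Submodule.mem_span_range_iff_exists_fun F).1 hx
      rw [← hcf]
      simp [Fin.sum_univ_three, hT.ssym γ ν, hT.ssym γ μ, hT.ssym γ v, hc.1, hc.2, hS.1]
    have h2e : ∀ t t' : F, s (ν + t • μ) γ = 0 → s (ν + t' • μ) γ = 0 → t = t' := fun t t' a a' => by
      simp at a a'
      by_contra hne
      have : (t - t') * s μ γ = 0 := by linear_combination a - a'
      have hc0 := (mul_eq_zero.1 this).resolve_left (sub_ne_zero.2 hne)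
      rw [hc0, mul_zero, add_zero] at a
      exact hor.elim (fun ho => ho a) fun ho => ho hc0
    obtain ⟨t, t', ht0, ht0', htt, ht, ht'⟩ : ∃ t t' : F, t ≠ 0 ∧ t' ≠ 0 ∧ t ≠ t' ∧
        s (ν + t • μ) γ ≠ 0 ∧ s (ν + t' • μ) γ ≠ 0 := by
      have n1 : (1 : F) ≠ -1 := fun e => h2 (by linear_combination e)
      by_cases ha : s (ν + (1 : F) • μ) γ = 0
      · exact ⟨-1, e, neg_ne_zero.2 one_ne_zero, he0, he2.symm, fun a => n1 (h2e _ _ ha a),
          fun a => he1 (h2e _ _ a ha)⟩
      by_cases hb : s (ν + (-1 : F) • μ) γ = 0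
      · exact ⟨1, e, one_ne_zero, he0, he1.symm, ha, fun a => he2 (h2e _ _ a hb)⟩
      · exact ⟨1, -1, one_ne_zero, neg_ne_zero.2 one_ne_zero, n1, ha, hb⟩
    have hw := hS.reach hT hM hz (hline' t) (by rw [hline]; exact mul_ne_zero h2 ht0) ht
    have hw' := hS.reach hT hM hz (hline' t') (by rw [hline]; exact mul_ne_zero h2 ht0') ht'
    have := ((hw.smul hT hM hz t').add hT hM hz (hw'.smul hT hM hz (-t))).smul hT hM hz (1 / (t' - t))
    convert this using 1
    have : t' - t ≠ 0 := sub_ne_zero.2 (Ne.symm htt)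
    match_scalars <;> field_simp <;> ring

end root

/-- Either every transvection lies in `M`, or the root groups contain only scalars. -/
theorem full_or_onlyScalar (hnull : ∃ ν : β → F, ν ≠ 0 ∧ s ν ν = 0) (h3 : 3 ≤ Fintype.card β)
    (h4 : 4 ≤ Fintype.card β ∨ ∃ e : F, e ≠ 0 ∧ e ≠ 1 ∧ e ≠ -1) :
    (∀ x, Full B M x) ∨ OnlyScalar b M := by
  by_cases h : OnlyScalar b M
  · exact Or.inr h
  unfold OnlyScalar at h
  push Not at h
  obtain ⟨z, hz, Γ, hΓ, hns⟩ := h
  exact Or.inl (root_full hT hM hz hΓ (fun ⟨c, hc⟩ => by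
    obtain ⟨f, hf⟩ := hns c
    exact hf (hc f)) hnull h3 h4)

end CfsgLib.Geo.TensorSp
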