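/-
Overgroups of `Sp(U) ⊗ O(W)` with scalar root groups: the pointwise stabiliser of `z ⊗ W` is standard.
-/
import Cfsg.Agent.Geo.TensorSym.RootFull

set_option autoImplicit false
set_option linter.unusedSectionVars false

namespace CfsgLib.Geo.TensorSp

open Matrix CfsgLib.Geo CfsgLib.Geo.Tensor CfsgLib.Geo.TensorO

variable {α β : Type} [Fintype α] [DecidableEq α] [Fintype β] [DecidableEq β] {F : Type*} [Field F]
variable {B : LinearMap.BilinForm F (α × β → F)} {b : LinearMap.BilinForm F (α → F)}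
  {s : LinearMap.BilinForm F (β → F)} {M : Subgroup (GL (α × β) F)}

/-- Some member of `M` acts as `x ↦ x + Y (cu z x)` modulo `z ⊗ W`. -/
def InN (b : LinearMap.BilinForm F (α → F)) (M : Subgroup (GL (α × β) F)) (z : α → F)
    (Y : (β → F) →ₗ[F] (α × β → F)) : Prop :=
  (∀ f, cu b z (Y f) = 0) ∧ ∃ g ∈ M, ∀ x, ∃ k,
    (g : Matrix (α × β) (α × β) F) *ᵥ x = x + Y (cu b z x) + ten z k

/-- The projection along `z, y` to their common orthogonal. -/
def prj (b : LinearMap.BilinForm F (α → F)) (z y : α → F) : (α → F) →ₗ[F] (α → F) :=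
  LinearMap.id - (b z).smulRight y + (b y).smulRight z

theorem ten_neg_right (u : α → F) (f : β → F) : ten u (-f) = -ten u f := (tenL u).map_neg f

theorem prj_apply (z y w : α → F) : prj b z y w = w - b z w • y + b y w • z := rfl

variable (hT : IsTS B b s) (hM : Over B M)
include hT

theorem prj_left {z y : α → F} (hy : b z y = 1) (w : α → F) : b z (prj b z y w) = 0 := by
  simp [prj_apply, hy, hT.balt z]

theorem prj_right {z y : α → F} (hy : b z y = 1) (w : α → F) : b y (prj b z y w) = 0 := by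
  simp [prj_apply, hT.balt y, hT.b_swap z y, hy]

theorem prj_decomp (z y w : α → F) : w = prj b z y w + b z w • y - b y w • z := by
  rw [prj_apply]; abel

theorem cu_sub (u u' : α → F) (x : α × β → F) : cu b (u - u') x = cu b u x - cu b u' x := by
  rw [eq_sub_iff_add_eq, ← cu_add, sub_add_cancel]

/-- A vector whose components orthogonal to `z` vanish lies in `z ⊗ W`. -/
theorem eq_ten_of_cu {z : α → F} (hz : z ≠ 0) {x : α × β → F} (h : ∀ q, b z q = 0 → cu b q x = 0) :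
    ∃ m, x = ten z m := by
  obtain ⟨y, hy⟩ := hT.exists_b_one hz
  refine ⟨-cu b y x, hT.ext fun q => ?_⟩
  have h0 := h (q - b z q • y) (by simp [hy])
  rw [cu_sub hT, cu_smul, sub_eq_zero] at h0
  rw [h0, cu_ten, hT.b_swap z q, neg_smul, smul_neg, neg_neg]

include hM

section fix

variable {z : α → F} (hz : z ≠ 0)
include hz

/-- The action on the orthogonal of `z ⊗ W`. -/
theorem fix_spec {Y : (β → F) →ₗ[F] (α × β → F)} (hY : ∀ f, cu b z (Y f) = 0) {g : GL (α × β) F} (hg : g ∈ M)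
    (hgx : ∀ x, ∃ k, (g : Matrix (α × β) (α × β) F) *ᵥ x = x + Y (cu b z x) + ten z k)
    {x : α × β → F} (hx : cu b z x = 0) :
    ∃ k, (g : Matrix (α × β) (α × β) F) *ᵥ x = x + ten z k ∧ ∀ f, s f k = B (Y f) x := by
  obtain ⟨k, hk⟩ := hgx x
  rw [hx, map_zero, add_zero] at hk
  refine ⟨k, hk, fun f => ?_⟩
  obtain ⟨y, hy⟩ := hT.exists_b_one hz
  obtain ⟨k₀, hk₀⟩ := hgx (ten y f)
  rw [cu_ten, hy, one_smul] at hk₀
  have e := hM.sub hg (ten y f) x
  rw [hk, hk₀] at e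
  simp only [map_add, LinearMap.add_apply, hT.ten_left z, hx, map_zero, hT.ten_left y, cu_ten, hT.b_swap z y,
    hy, hT.ten_right, hY, hT.balt z, zero_smul, neg_zero, add_zero, neg_smul, one_smul, map_neg] at e
  linear_combination -e

theorem InN.add {Y Y' : (β → F) →ₗ[F] (α × β → F)} (h : InN b M z Y) (h' : InN b M z Y') :
    InN b M z (Y + Y') := by
  obtain ⟨hY, g, hg, hgx⟩ := h
  obtain ⟨hY', g', hg', hgx'⟩ := h'
  refine ⟨fun f => by rw [LinearMap.add_apply, map_add, hY, hY', add_zero], g * g', M.mul_mem hg hg',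
    fun x => ?_⟩
  obtain ⟨k', hk'⟩ := hgx' x
  obtain ⟨k, hk⟩ := hgx ((g' : Matrix (α × β) (α × β) F) *ᵥ x)
  refine ⟨k + k', ?_⟩
  rw [mul_mulVec, hk, hk']
  simp only [map_add, hY', cu_ten, hT.balt z, zero_smul, map_zero, add_zero, LinearMap.add_apply, ten_add_right]
  abel

theorem InN.neg {Y : (β → F) →ₗ[F] (α × β → F)} (h : InN b M z Y) : InN b M z (-Y) := by
  obtain ⟨hY, g, hg, hgx⟩ := h
  refine ⟨fun f => by rw [LinearMap.neg_apply, map_neg, hY, neg_zero], g⁻¹, M.inv_mem hg, fun x => ?_⟩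
  set x' := ((g⁻¹ : GL (α × β) F) : Matrix (α × β) (α × β) F) *ᵥ x
  obtain ⟨k, hk⟩ := hgx x'
  rw [mulVec_inv_mulVec] at hk
  refine ⟨-k, ?_⟩
  have hc : cu b z x = cu b z x' := by
    rw [hk, map_add, map_add, hY, cu_ten, hT.balt z, zero_smul, add_zero, add_zero]
  rw [LinearMap.neg_apply, hc, hk, ten_neg_right]
  abel

theorem inN_E {u : α → F} (hu : b z u = 0) : InN b M z (tenL u) := by
  obtain ⟨g, hg, hgx⟩ := hT.exists_E hu
  exact ⟨fun f => by rw [tenL_apply, cu_ten, hu, zero_smul], g, hM.le hg, fun x =>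
    ⟨cu b u x, by rw [hgx, tenL_apply]; abel⟩⟩

/-- Conjugation by an element fixing `z ⊗ W`. -/
theorem InN.conj {Y : (β → F) →ₗ[F] (α × β → F)} (h : InN b M z Y) {k : GL (α × β) F} (hk : k ∈ M)
    (A A' : (β → F) →ₗ[F] (β → F)) (hA : ∀ f f', s (A f) (A f') = s f f')
    (hA' : ∀ f f', s (A f) f' = s f (A' f'))
    (hkz : ∀ f, (k : Matrix (α × β) (α × β) F) *ᵥ ten z f = ten z (A f)) :
    InN b M z (Matrix.mulVecLin (k : Matrix (α × β) (α × β) F) ∘ₗ Y ∘ₗ A') := by
  obtain ⟨hY, g, hg, hgx⟩ := h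
  have hinj : Function.Injective A := (injective_iff_map_eq_zero A).2 fun f hf =>
    eq_of_forall hT.snd fun w => by rw [← hA, hf]; simp
  refine ⟨fun f => hT.eq_of_s fun f' => ?_, k * g * k⁻¹, M.mul_mem (M.mul_mem hk hg) (M.inv_mem hk), fun x => ?_⟩
  · obtain ⟨f'', rfl⟩ := LinearMap.injective_iff_surjective.1 hinj f'
    rw [← hT.ten_left, ← hkz, map_zero]
    show B ((k : Matrix _ _ F) *ᵥ ten z f'') ((k : Matrix _ _ F) *ᵥ Y (A' f)) = 0
    rw [hM.sub hk, hT.ten_left, hY, map_zero]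
  · set x' := ((k⁻¹ : GL (α × β) F) : Matrix (α × β) (α × β) F) *ᵥ x
    have hcu : cu b z x' = A' (cu b z x) := hT.eq_of_s fun f => by
      rw [← hT.ten_left, ← hM.sub hk, mulVec_inv_mulVec, hkz, hT.ten_left, hA']
    obtain ⟨m, hm⟩ := hgx x'
    refine ⟨A m, ?_⟩
    rw [mul_mulVec, mul_mulVec, hm, hcu, Matrix.mulVec_add, Matrix.mulVec_add, mulVec_inv_mulVec, hkz]
    rfl

/-- The symmetric part of `(f, f') ↦ B (Y f) (Y' f')` is scalar. -/
theorem InN.pair (ho : OnlyScalar b M) {Y Y' : (β → F) →ₗ[F] (α × β → F)} (h : InN b M z Y)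
    (h' : InN b M z Y') : ∃ c : F, ∀ f f', B (Y f) (Y' f') + B (Y f') (Y' f) = c * s f f' := by
  obtain ⟨hY, g, hg, hgx⟩ := h
  obtain ⟨hY', g', hg', hgx'⟩ := h'
  obtain ⟨y, hy⟩ := hT.exists_b_one hz
  set e := (g' * g)⁻¹ * (g * g') with he
  have heM : e ∈ M := M.mul_mem (M.inv_mem (M.mul_mem hg' hg)) (M.mul_mem hg hg')
  have main : ∀ x, ∃ n, (e : Matrix (α × β) (α × β) F) *ᵥ x = x + ten z n ∧
      ∀ f, s f n = B (Y f) (Y' (cu b z x)) - B (Y' f) (Y (cu b z x)) := by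
    intro x
    set c := cu b z x with hc
    obtain ⟨k, hk⟩ := hgx x
    obtain ⟨k', hk'⟩ := hgx' x
    rw [← hc] at hk hk'
    obtain ⟨m, hm, hms⟩ := fix_spec hT hM hz hY hg hgx (hY' c)
    obtain ⟨m', hm', hms'⟩ := fix_spec hT hM hz hY' hg' hgx' (hY c)
    have fixz : ∀ {Z : (β → F) →ₗ[F] (α × β → F)} {t : GL (α × β) F}, (∀ f, cu b z (Z f) = 0) → t ∈ M →
        (∀ x, ∃ k, (t : Matrix (α × β) (α × β) F) *ᵥ x = x + Z (cu b z x) + ten z k) →
        ∀ r, (t : Matrix (α × β) (α × β) F) *ᵥ ten z r = ten z r := by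
      intro Z t hZ ht htx r
      obtain ⟨q, hq, hqs⟩ := fix_spec hT hM hz hZ ht htx (x := ten z r) (by rw [cu_ten, hT.balt z, zero_smul])
      have : q = 0 := hT.eq_of_s fun f => by
        rw [hqs, hT.ten_right, hZ, map_zero, neg_zero, map_zero]
      rw [hq, this, ten_zero_right, add_zero]
    refine ⟨m - m', ?_, fun f => by rw [map_sub, hms, hms']⟩
    have h1 : ((g' * g : GL (α × β) F) : Matrix (α × β) (α × β) F) *ᵥ (x + ten z (m - m'))
        = ((g * g' : GL (α × β) F) : Matrix (α × β) (α × β) F) *ᵥ x := by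
      rw [ten_sub_right]
      simp only [mul_mulVec, Matrix.mulVec_add, Matrix.mulVec_sub, fixz hY hg hgx, fixz hY' hg' hgx', hk, hk',
        hm, hm']
      abel
    rw [he, mul_mulVec, ← h1, inv_mulVec_mulVec]
  set Γ : (β → F) →ₗ[F] (β → F) :=
    -(cu b y ∘ₗ (Matrix.mulVecLin (e : Matrix (α × β) (α × β) F) - LinearMap.id) ∘ₗ tenL y) with hΓ
  have hΓs : ∀ c f, s f (Γ c) = B (Y f) (Y' c) - B (Y' f) (Y c) := fun c f => by
    obtain ⟨n, hn, hns⟩ := main (ten y c)
    rw [cu_ten, hy, one_smul] at hns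
    simp [hΓ, hn, hT.b_swap z y, hy, hns]
  have hR : InR b M z Γ := ⟨e, heM, fun x => by
    obtain ⟨n, hn, hns⟩ := main x
    rw [hn, hT.eq_of_s fun f => (hns f).trans (hΓs _ f).symm]⟩
  obtain ⟨c, hc⟩ := ho z hz Γ hR
  refine ⟨c, fun f f' => ?_⟩
  have := hΓs f' f
  rw [hc, map_smul, smul_eq_mul, hT.swap (Y f') (Y' f)] at this
  linear_combination -this

/-- Components of members are scalar. -/
theorem InN.comp_scalar (h3 : 3 ≤ Fintype.card β) (ho : OnlyScalar b M) {Y : (β → F) →ₗ[F] (α × β → F)}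
    (h : InN b M z Y) {q : α → F} (hq : b z q = 0) : ∃ c : F, ∀ f, cu b q (Y f) = c • f := by
  obtain ⟨y, hy⟩ := hT.exists_b_one hz
  have hyz : b y z = -1 := by rw [hT.b_swap z y, hy]
  set u₂ := prj b z y q with hu₂
  have hqu : ∀ f, cu b q (Y f) = cu b u₂ (Y f) := fun f => by
    rw [hu₂, prj_apply, hq, zero_smul, sub_zero, cu_add, cu_smul, h.1, smul_zero, add_zero]
  rcases eq_or_ne u₂ 0 with e0 | hu0
  · exact ⟨0, fun f => by rw [hqu, e0, show (0 : α → F) = (0 : F) • y by rw [zero_smul], cu_smul, zero_smul,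
      zero_smul]⟩
  obtain ⟨q', hq'⟩ := hT.exists_b_one hu0
  set u₃ := prj b z y q' with hu₃
  have h2z : b z u₂ = 0 := prj_left hT hy q
  have h3z : b z u₃ = 0 := prj_left hT hy q'
  have h23 : b u₂ u₃ = 1 := by
    have a1 : b u₂ y = 0 := alt_zero_swap hT.balt (prj_right hT hy q)
    have a2 : b u₂ z = 0 := alt_zero_swap hT.balt (prj_left hT hy q)
    rw [hu₃, prj_apply, map_add, map_sub, map_smul, map_smul, a1, a2, hq']
    simp
  set ψ : (β → F) →ₗ[F] (β → F) := cu b u₂ ∘ₗ Y with hψ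
  have kfix : ∀ p : α → F, b z p = 0 → ∀ c : F, ∃ k ∈ M, (∀ f, (k : Matrix (α × β) (α × β) F) *ᵥ ten z f =
      ten z (LinearMap.id (R := F) f)) ∧ ∀ x, (k : Matrix (α × β) (α × β) F) *ᵥ x = x + c • ten p (cu b p x) := by
    intro p hp c
    obtain ⟨k, hk, hkx⟩ := hT.exists_T p c
    refine ⟨k, hM.le hk, ?_, hkx⟩
    intro f
    rw [hkx, cu_ten, alt_zero_swap hT.balt hp, zero_smul, ten_zero_right, smul_zero, add_zero]
    rfl
  have step : ∀ {Z : (β → F) →ₗ[F] (α × β → F)}, InN b M z Z → ∀ p : α → F, b z p = 0 →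
      InN b M z (tenL p ∘ₗ cu b p ∘ₗ Z) := by
    intro Z hZ p hp
    obtain ⟨k, hk, hkz, hkx⟩ := kfix p hp 1
    have := (hZ.conj hT hM hz hk LinearMap.id LinearMap.id (fun f f' => rfl) (fun f f' => rfl) hkz).add hT hM hz
      (hZ.neg hT hM hz)
    convert this using 1
    refine LinearMap.ext fun f => ?_
    simp [hkx]
  have hψ2 : InN b M z (tenL u₂ ∘ₗ ψ) := step h u₂ h2z
  have hψ3 : ∀ {χ : (β → F) →ₗ[F] (β → F)}, InN b M z (tenL u₂ ∘ₗ χ) → InN b M z (tenL u₃ ∘ₗ χ) := by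
    intro χ hχ
    have := (step hχ u₃ h3z).neg hT hM hz
    convert this using 1
    refine LinearMap.ext fun f => ?_
    simp [hT.b_swap u₂ u₃, h23, ten_smul_right, ten_neg_right]
  have hpair : ∀ χ χ' : (β → F) →ₗ[F] (β → F), InN b M z (tenL u₂ ∘ₗ χ) → InN b M z (tenL u₂ ∘ₗ χ') →
      ∃ c : F, ∀ f f', s (χ f) (χ' f') + s (χ f') (χ' f) = c * s f f' := by
    intro χ χ' hχ hχ'
    obtain ⟨c, hc⟩ := hχ.pair hT hM hz ho (hψ3 hχ')
    refine ⟨c, fun f f' => ?_⟩
    have := hc f f'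
    simpa [hT.pol, h23] using this
  have hone : ∀ d : F, InN b M z (tenL u₂ ∘ₗ (d • LinearMap.id)) := fun d => by
    have := inN_E hT hM hz (u := d • u₂) (by rw [map_smul, h2z, smul_zero])
    convert this using 1
    refine LinearMap.ext fun f => ?_
    simp [ten_smul_left, ten_smul_right]
  obtain ⟨c, hc⟩ := hpair ψ (1 • LinearMap.id) hψ2 (by simpa using hone 1)
  have h2 := hT.two
  refine ⟨c / 2, fun f => ?_⟩
  set K := ψ - (c / 2) • LinearMap.id with hK
  have hKskew : ∀ f f', s (K f) f' + s f (K f') = 0 := fun f f' => by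
    have := hc f f'
    simp at this
    simp [hK]
    rw [hT.ssym (ψ f') f] at this
    field_simp
    linear_combination 2 * this
  have hKN : InN b M z (tenL u₂ ∘ₗ K) := by
    have := hψ2.add hT hM hz ((hone (c / 2)).neg hT hM hz)
    convert this using 1
    refine LinearMap.ext fun f => ?_
    simp [hK, ten_sub_right, ten_smul_right]
    abel
  -- a skew member vanishes
  have hKv : ∀ v, s v v ≠ 0 → K v = 0 := by
    intro v hv
    obtain ⟨k, hk, hkt⟩ := hT.exists_right (rfl' s v) (rfl'_iso hT hv)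
    have hD := hKN.add hT hM hz ((hKN.conj hT hM hz (hM.le hk) (rfl' s v) (rfl' s v) (rfl'_iso hT hv)
      (rfl'_symm hT v) (fun f => hkt z f)).neg hT hM hz)
    set D := K - rfl' s v ∘ₗ K ∘ₗ rfl' s v with hDdef
    have hDN : InN b M z (tenL u₂ ∘ₗ D) := by
      convert hD using 1
      refine LinearMap.ext fun f => ?_
      simp [hDdef, hkt, ten_sub_right]
      abel
    have hvv : s v (K v) = 0 := by
      have := hKskew v v
      rw [hT.ssym (K v) v] at this
      exact (mul_eq_zero.1 (show (2 : F) * s v (K v) = 0 by linear_combination this)).resolve_left h2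
    have hDf : ∀ f, D f = (2 / s v v) • (s v f • K v - s (K v) f • v) := fun f => by
      have e := hKskew v f
      simp [hDdef, rfl'_apply, hvv]
      rw [show s v (K f) = -s (K v) f by linear_combination e]
      match_scalars <;> field_simp <;> ring
    obtain ⟨d, hd⟩ := hpair D D hDN hDN
    have hd0 : d = 0 := by
      obtain ⟨f₀, hf0, hf⟩ := exists_ne_zero_ker ((s v).prod (s (K v))) (by simp; omega)
      obtain ⟨k₀, hk₀⟩ := hT.exists_s_one hf0
      have := hd f₀ k₀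
      have e1 : s v f₀ = 0 := congrArg Prod.fst hf
      have e2 : s (K v) f₀ = 0 := congrArg Prod.snd hf
      simp [hDf, e1, e2, hk₀] at this
      exact this.symm
    by_contra hne
    obtain ⟨k₀, hk₀⟩ := hT.exists_s_one hne
    have := hd (k₀ - (s v k₀ / s v v) • v) (k₀ - (s v k₀ / s v v) • v)
    rw [hd0, zero_mul] at this
    simp [hDf, hT.ssym (K v) v, hvv, hv, hk₀] at this
    field_simp at this
    have h8 : (2 : F) * 2 * 2 = 0 := by linear_combination this
    simp [h2] at h8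
  rw [hqu]
  suffices K f = 0 by
    rw [hK, LinearMap.sub_apply, sub_eq_zero] at this
    exact this.trans (by simp)
  by_cases hf : s f f = 0
  swap
  · exact hKv f hf
  obtain ⟨v₀, hv₀⟩ : ∃ v₀, s v₀ v₀ ≠ 0 := by
    by_contra hcon
    push Not at hcon
    obtain ⟨w, hw⟩ : ∃ w : β → F, w ≠ 0 := by
      haveI : Nonempty β := Fintype.card_pos_iff.1 (by omega)
      exact exists_ne 0
    obtain ⟨k, hk⟩ := hT.exists_s_one hw
    have := hcon (w + k)
    simp [hcon, hk, hT.ssym k w] at this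
    exact h2 (by linear_combination this)
  by_cases hp : s (f + v₀) (f + v₀) = 0
  · have hm : s (f - v₀) (f - v₀) ≠ 0 := fun e => hv₀ (by
      simp only [map_add, map_sub, LinearMap.add_apply, LinearMap.sub_apply, hf] at hp e
      exact (mul_eq_zero.1 (show (2 : F) * s v₀ v₀ = 0 by linear_combination hp + e)).resolve_left h2)
    have := hKv _ hm
    rwa [map_sub, hKv v₀ hv₀, sub_zero] at this
  · have := hKv _ hp
    rwa [map_add, hKv v₀ hv₀, add_zero] at this

/-- Members are pure modulo `z ⊗ W`. -/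
theorem InN.pure (h3 : 3 ≤ Fintype.card β) (ho : OnlyScalar b M) {Y : (β → F) →ₗ[F] (α × β → F)}
    (h : InN b M z Y) {y : α → F} (hy : b z y = 1) {f₀ k : β → F} (hk : s k f₀ = 1) (f : β → F) :
    ∃ m, Y f = ten (prj b z y (cw s k (Y f₀))) f + ten z m := by
  have hw : b z (cw s k (Y f₀)) = 0 := by rw [← hT.ten_left', hT.ten_left, h.1, map_zero]
  obtain ⟨m, hm⟩ := eq_ten_of_cu hT hz (x := Y f - ten (prj b z y (cw s k (Y f₀))) f) fun q hq => by
    obtain ⟨c, hc⟩ := h.comp_scalar hT hM hz h3 ho hq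
    have : b q (cw s k (Y f₀)) = c := by
      rw [← hT.ten_left', hT.ten_left, hc, map_smul, hk, smul_eq_mul, mul_one]
    rw [map_sub, hc, cu_ten, prj_apply, hw, zero_smul, sub_zero, map_add, map_smul, this,
      alt_zero_swap hT.balt hq, smul_zero, add_zero, sub_self]
  exact ⟨m, by rw [← hm]; abel⟩

/-- An element fixing `z ⊗ W` pointwise is standard. -/
theorem fix_line (h3 : 3 ≤ Fintype.card β) (ho : OnlyScalar b M) {h : GL (α × β) F} (hh : h ∈ M)
    (hfix : ∀ f, (h : Matrix (α × β) (α × β) F) *ᵥ ten z f = ten z f) : h ∈ krs ⊓ iso B := by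
  obtain ⟨y, hy⟩ := hT.exists_b_one hz
  have hyz : b y z = -1 := by rw [hT.b_swap z y, hy]
  haveI : Nonempty β := Fintype.card_pos_iff.1 (by omega)
  obtain ⟨k, hk0⟩ : ∃ k : β → F, k ≠ 0 := exists_ne 0
  obtain ⟨f₀, hk⟩ := hT.exists_s_one hk0
  have hcu : ∀ x, cu b z ((h : Matrix (α × β) (α × β) F) *ᵥ x) = cu b z x := fun x => hT.eq_of_s fun f => by
    rw [← hT.ten_left, ← hfix, hM.sub hh, hT.ten_left]
  have hNu : ∀ u, b z u = 0 → InN b M z (Matrix.mulVecLin (h : Matrix (α × β) (α × β) F) ∘ₗ tenL u) := by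
    intro u hu
    have := (inN_E hT hM hz hu).conj hT hM hz hh LinearMap.id LinearMap.id (fun f f' => rfl) (fun f f' => rfl) hfix
    simpa using this
  set π := prj b z y with hπ
  have hπ1 : ∀ u, b z (π u) = 0 := prj_left hT hy
  have hπ2 : ∀ u, b y (π u) = 0 := prj_right hT hy
  set L : (α → F) →ₗ[F] (α → F) :=
    π ∘ₗ cw s k ∘ₗ Matrix.mulVecLin (h : Matrix (α × β) (α × β) F) ∘ₗ tenR f₀ ∘ₗ π with hL
  have hpure : ∀ u f, ∃ m, (h : Matrix (α × β) (α × β) F) *ᵥ ten (π u) f = ten (L u) f + ten z m := fun u f => by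
    obtain ⟨m, hm⟩ := (hNu (π u) (prj_left hT hy u)).pure hT hM hz h3 ho hy hk f
    exact ⟨m, hm⟩
  have hLz : ∀ u, b z (L u) = 0 := fun u => prj_left hT hy _
  have hLy : ∀ u, b y (L u) = 0 := fun u => prj_right hT hy _
  have hLb : ∀ u v, b (L u) (L v) = b (π u) (π v) := fun u v => by
    obtain ⟨m, hm⟩ := hpure u k
    obtain ⟨m', hm'⟩ := hpure v f₀
    have e := hM.sub hh (ten (π u) k) (ten (π v) f₀)
    rw [hm, hm'] at e
    simp [hT.pol, hk, hT.balt z, hLz, alt_zero_swap hT.balt (hLz u)] at e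
    exact e
  obtain ⟨α₁, hα, hαt⟩ := hT.exists_left (L + (b z).smulRight y - (b y).smulRight z) fun u v => by
    conv_rhs => rw [prj_decomp hT z y u, prj_decomp hT z y v]
    rw [← hπ]
    simp [hLb, hT.balt z, hT.balt y, hy, hyz, hLz, hLy, alt_zero_swap hT.balt (hLz u),
      alt_zero_swap hT.balt (hLy u), hπ1, hπ2, alt_zero_swap hT.balt (hπ1 u), alt_zero_swap hT.balt (hπ2 u)]
  have hπ0 : π z = 0 := by simp [hπ, prj_apply, hT.balt z, hyz]
  have hπy : π y = 0 := by simp [hπ, prj_apply, hT.balt y, hy]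
  have hαz : ∀ f, (α₁ : Matrix (α × β) (α × β) F) *ᵥ ten z f = ten z f := fun f => by
    rw [hαt]
    congr 1
    simp [hL, hπ0, hT.balt z, hyz, ten_zero_left]
  set h₁ := α₁⁻¹ * h with hh₁
  have hh₁M : h₁ ∈ M := M.mul_mem (M.inv_mem (hM.le hα)) hh
  have h₁z : ∀ f, (h₁ : Matrix (α × β) (α × β) F) *ᵥ ten z f = ten z f := fun f => by
    rw [hh₁, mul_mulVec, hfix]
    conv_lhs => rw [← hαz]
    rw [inv_mulVec_mulVec]
  have h₁p : ∀ u f, ∃ m, (h₁ : Matrix (α × β) (α × β) F) *ᵥ ten (π u) f = ten (π u) f + ten z m := fun u f => by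
    obtain ⟨m, hm⟩ := hpure u f
    refine ⟨m, ?_⟩
    have e1 : (α₁ : Matrix (α × β) (α × β) F) *ᵥ (ten (π u) f + ten z m) = ten (L u) f + ten z m := by
      rw [Matrix.mulVec_add, hαz, hαt]
      congr 2
      have hππ : π (π u) = π u := by
        conv_lhs => rw [hπ, prj_apply z y, ← hπ, hπ1, hπ2]
        simp
      simp [hL, hππ, hπ1, hπ2]
    rw [hh₁, mul_mulVec, hm, ← e1, inv_mulVec_mulVec]
  set D : (α × β → F) →ₗ[F] (α × β → F) :=
    Matrix.mulVecLin (h₁ : Matrix (α × β) (α × β) F) - LinearMap.id with hD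
  set Y := D ∘ₗ tenL y with hY
  have hYz : ∀ f, cu b z (Y f) = 0 := fun f => by
    refine hT.eq_of_s fun f' => ?_
    rw [← hT.ten_left]
    simp [hY, hD]
    conv_lhs => enter [1]; rw [← h₁z f']
    rw [hM.sub hh₁M, sub_self]
  have hDx : ∀ x, ∃ n, (h₁ : Matrix (α × β) (α × β) F) *ᵥ x = x + Y (cu b z x) + ten z n := fun x => by
    obtain ⟨m, hm⟩ := eq_ten_of_cu hT hz (x := D x - Y (cu b z x)) fun q hq => by
      have := Tensor.map_ext (S := cu b q ∘ₗ (D - Y ∘ₗ cu b z)) (T := 0) fun u f => by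
        obtain ⟨m, hm⟩ := h₁p u f
        simp only [LinearMap.comp_apply, LinearMap.sub_apply, cu_ten, map_smul, LinearMap.zero_apply]
        conv_lhs => enter [2, 1, 2]; rw [prj_decomp hT z y u]
        rw [← hπ]
        simp [hY, hD, hm, h₁z, cu_ten, alt_zero_swap hT.balt hq, ten_sub_left, ten_add_left, ten_smul_left,
          Matrix.mulVec_add, Matrix.mulVec_sub, Matrix.mulVec_smul]
        module
      exact LinearMap.congr_fun this x
    refine ⟨m, ?_⟩
    rw [← hm, hD]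
    simp
  have hN : InN b M z Y := ⟨hYz, h₁, hh₁M, hDx⟩
  set u₀ := π (cw s k (Y f₀)) with hu₀
  have hu₀z : b z u₀ = 0 := prj_left hT hy _
  obtain ⟨E, hE, hEx⟩ := hT.exists_E hu₀z
  have hEt : ∀ r, (E : Matrix (α × β) (α × β) F) *ᵥ ten z r = ten z r := fun r => by
    rw [hEx, cu_ten, cu_ten, hT.balt z, alt_zero_swap hT.balt hu₀z]
    simp [ten_zero_right]
  have hsh : ∀ x, ∃ n, ((E⁻¹ * h₁ : GL (α × β) F) : Matrix (α × β) (α × β) F) *ᵥ x = x + ten z n := fun x => by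
    obtain ⟨n, hn⟩ := hDx x
    obtain ⟨m, hm⟩ := hN.pure hT hM hz h3 ho hy hk (cu b z x)
    refine ⟨n + m - cu b u₀ x, ?_⟩
    have : (E : Matrix (α × β) (α × β) F) *ᵥ (x + ten z (n + m - cu b u₀ x))
        = (h₁ : Matrix (α × β) (α × β) F) *ᵥ x := by
      rw [Matrix.mulVec_add, hEx, hEt, hn, hm, ← hu₀, ten_sub_right, ten_add_right]
      abel
    rw [mul_mulVec, ← this, inv_mulVec_mulVec]
  set h₂ := E⁻¹ * h₁ with hh₂
  have hh₂M : h₂ ∈ M := M.mul_mem (M.inv_mem (hM.le hE)) hh₁M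
  have h₂0 : ∀ x, cu b z x = 0 → (h₂ : Matrix (α × β) (α × β) F) *ᵥ x = x := fun x hx => by
    obtain ⟨n, hn⟩ := hsh x
    have : n = 0 := hT.eq_of_s fun f => by
      obtain ⟨n', hn'⟩ := hsh (ten y f)
      have e := hM.sub hh₂M (ten y f) x
      rw [hn, hn'] at e
      simp [hT.ten_left, hx, hT.balt z, hyz] at e
      simpa using e
    rw [hn, this, ten_zero_right, add_zero]
  set Γ : (β → F) →ₗ[F] (β → F) :=
    -(cu b y ∘ₗ (Matrix.mulVecLin (h₂ : Matrix (α × β) (α × β) F) - LinearMap.id) ∘ₗ tenL y) with hΓ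
  have hR : InR b M z Γ := ⟨h₂, hh₂M, fun x => by
    obtain ⟨n, hn⟩ := hsh (ten y (cu b z x))
    have e := h₂0 (x - ten y (cu b z x)) (by rw [map_sub, cu_ten, hy, one_smul, sub_self])
    rw [Matrix.mulVec_sub, hn] at e
    rw [show Γ (cu b z x) = n by simp [hΓ, hn, hyz]]
    linear_combination (norm := abel) e⟩
  obtain ⟨c, hc⟩ := ho z hz Γ hR
  obtain ⟨T, hT', hTx⟩ := hT.exists_T z c
  have hh₂T : h₂ = T := gl_ext_mulVec fun x => by
    obtain ⟨n, hn⟩ := hsh (ten y (cu b z x))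
    have e := h₂0 (x - ten y (cu b z x)) (by rw [map_sub, cu_ten, hy, one_smul, sub_self])
    rw [Matrix.mulVec_sub, hn] at e
    have : Γ (cu b z x) = n := by simp [hΓ, hn, hyz]
    rw [hc] at this
    rw [hTx, ← ten_smul_right, this]
    linear_combination (norm := abel) e
  have : h = α₁ * (E * T) := by rw [← hh₂T, hh₂, hh₁]; group
  rw [this]
  exact mul_mem hα (mul_mem hE hT')

end fix

end CfsgLib.Geo.TensorSp
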