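/-
Overgroups of `Sp(U) ⊗ O(W)` with scalar root groups: an element carrying one `z ⊗ W` to another is standard.
-/
import Cfsg.Agent.Geo.TensorSym.Fix

set_option autoImplicit false
set_option linter.unusedSectionVars false

namespace CfsgLib.Geo.TensorSp

open Matrix CfsgLib.Geo CfsgLib.Geo.Tensor CfsgLib.Geo.TensorO

variable {α β : Type} [Fintype α] [DecidableEq α] [Fintype β] [DecidableEq β] {F : Type*} [Field F]
variable {B : LinearMap.BilinForm F (α × β → F)} {b : LinearMap.BilinForm F (α → F)}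
  {s : LinearMap.BilinForm F (β → F)} {M : Subgroup (GL (α × β) F)}

variable (hT : IsTS B b s) (hM : Over B M)
include hT

/-- Similitudes of the alternating form exist with every multiplier. -/
theorem exists_similitude (μ : F) : ∃ f₁ : (α → F) →ₗ[F] (α → F), ∀ u v, b (f₁ u) (f₁ v) = μ * b u v := by
  obtain ⟨m, p, q, hpq, hpp, hqq, hsum⟩ := TensorO.exists_hyp hT.bnd hT.balt
  refine ⟨∑ i, (μ • (b (p i)).smulRight (q i) - (b (q i)).smulRight (p i)), fun u v => ?_⟩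
  have hqp : ∀ i j, b (q i) (p j) = if i = j then -1 else 0 := fun i j => by
    rw [hT.b_swap (p j) (q i), hpq]
    rcases eq_or_ne i j with rfl | h
    · simp
    · simp [h, h.symm]
  conv_rhs => rw [← hsum u, ← hsum v]
  simp [map_sum, map_sub, map_smul, LinearMap.sum_apply, LinearMap.sub_apply, hpq, hqp, hpp, hqq,
    Finset.mul_sum, Finset.sum_sub_distrib, mul_sub, ite_mul, mul_ite]
  simp only [mul_add, mul_neg, Finset.mul_sum]
  exact congrArg₂ (· + ·) (congrArg Neg.neg (Finset.sum_congr rfl fun i _ => by ring))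
    (Finset.sum_congr rfl fun i _ => by ring)

include hM

/-- An element carrying one line of pure tensors into another is standard. -/
theorem line_mem (h3 : 3 ≤ Fintype.card β) (ho : OnlyScalar b M) {g : GL (α × β) F} (hg : g ∈ M)
    {z z' : α → F} (hz : z ≠ 0) (hz' : z' ≠ 0)
    (h : ∀ f, ∃ f', (g : Matrix (α × β) (α × β) F) *ᵥ ten z f = ten z' f') : g ∈ krs ⊓ iso B := by
  obtain ⟨k, hk, hkx⟩ := exists_move hT hM hz' hz
  set g₁ := k * g with hg₁
  have hg₁M : g₁ ∈ M := M.mul_mem (hM.le hk) hg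
  obtain ⟨y, hy⟩ := hT.exists_b_one hz
  have hyz : b y z = -1 := by rw [hT.b_swap z y, hy]
  set A : (β → F) →ₗ[F] (β → F) :=
    -(cu b y ∘ₗ Matrix.mulVecLin (g₁ : Matrix (α × β) (α × β) F) ∘ₗ tenL z) with hA
  have hAf : ∀ f, (g₁ : Matrix (α × β) (α × β) F) *ᵥ ten z f = ten z (A f) := fun f => by
    obtain ⟨f', hf'⟩ := h f
    have e : (g₁ : Matrix (α × β) (α × β) F) *ᵥ ten z f = ten z f' := by rw [hg₁, mul_mulVec, hf', hkx]
    simp [hA, e, hyz]
  have hAinj : Function.Injective A := (injective_iff_map_eq_zero A).2 fun f hf => by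
    have e := hAf f
    rw [hf, ten_zero_right] at e
    have := congrArg (fun x => ((g₁⁻¹ : GL (α × β) F) : Matrix (α × β) (α × β) F) *ᵥ x) e
    simp only [inv_mulVec_mulVec, Matrix.mulVec_zero] at this
    have := congrArg (cu b y) this
    simpa [hyz] using this
  obtain ⟨T, hT', hTx⟩ := hT.exists_T z 1
  set t' := g₁ * T * g₁⁻¹ with ht'
  have ht'x : ∀ x, (t' : Matrix (α × β) (α × β) F) *ᵥ x =
      x + ten z (A (cu b z (((g₁⁻¹ : GL (α × β) F) : Matrix (α × β) (α × β) F) *ᵥ x))) := fun x => by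
    rw [ht', mul_mulVec, mul_mulVec, hTx, one_smul, Matrix.mulVec_add, mulVec_inv_mulVec, hAf]
  have hadj : ∀ x f, s (A f) (cu b z x)
      = s f (cu b z (((g₁⁻¹ : GL (α × β) F) : Matrix (α × β) (α × β) F) *ᵥ x)) := fun x f => by
    rw [← hT.ten_left, ← hT.ten_left, ← hAf]
    conv_lhs => rw [← mulVec_inv_mulVec g₁ x]
    rw [hM.sub hg₁M]
  set Γ : (β → F) →ₗ[F] (β → F) :=
    A ∘ₗ cu b z ∘ₗ Matrix.mulVecLin ((g₁⁻¹ : GL (α × β) F) : Matrix (α × β) (α × β) F) ∘ₗ tenL y with hΓ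
  have hdep : ∀ x, cu b z (((g₁⁻¹ : GL (α × β) F) : Matrix (α × β) (α × β) F) *ᵥ x)
      = cu b z (((g₁⁻¹ : GL (α × β) F) : Matrix (α × β) (α × β) F) *ᵥ ten y (cu b z x)) := fun x =>
    hT.eq_of_s fun f => by rw [← hadj, ← hadj, cu_ten, hy, one_smul]
  obtain ⟨c, hc⟩ := ho z hz Γ ⟨t', M.mul_mem (M.mul_mem hg₁M (hM.le hT')) (M.inv_mem hg₁M), fun x => by
    rw [ht'x, hdep]; rfl⟩
  have hsim : ∀ f f', s (A f) (A f') = c * s f f' := fun f f' => by
    have e := hc (A f')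
    simp only [hΓ, LinearMap.comp_apply, tenL_apply, Matrix.mulVecLin_apply, ← map_smul A] at e
    have := hadj (ten y (A f')) f
    rwa [hAinj e, map_smul, cu_ten, hy, one_smul, smul_eq_mul] at this
  have hc0 : c ≠ 0 := fun e => by
    haveI : Nonempty β := Fintype.card_pos_iff.1 (by omega)
    obtain ⟨f, hf⟩ := exists_ne (0 : β → F)
    refine hf (hAinj ?_)
    rw [map_zero]
    refine hT.eq_of_s fun w => ?_
    obtain ⟨f', rfl⟩ := LinearMap.injective_iff_surjective.1 hAinj w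
    rw [hsim, e, zero_mul, map_zero]
  obtain ⟨f₁, hf₁⟩ := exists_similitude hT c⁻¹
  obtain ⟨k₁, hk₁, hk₁t⟩ := hT.exists_pair f₁ A (inv_ne_zero hc0) hf₁ fun f f' => by rw [hsim, inv_inv]
  have hf₁z : f₁ z ≠ 0 := fun e => by
    have := hf₁ z y
    rw [e, map_zero, LinearMap.zero_apply, hy, mul_one] at this
    exact inv_ne_zero hc0 this.symm
  obtain ⟨k₂, hk₂, hk₂x⟩ := exists_move hT hM hf₁z hz
  set k₃ := k₂ * k₁ with hk₃
  have hk₃m : k₃ ∈ krs ⊓ iso B := mul_mem hk₂ hk₁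
  have := fix_line hT hM hz h3 ho (M.mul_mem (M.inv_mem (hM.le hk₃m)) hg₁M) fun f => by
    rw [mul_mulVec, hAf, ← hk₂x, ← hk₁t, ← mul_mulVec k₂ k₁, ← hk₃, inv_mulVec_mulVec]
  have e : g = k⁻¹ * (k₃ * (k₃⁻¹ * g₁)) := by rw [hg₁]; group
  rw [e]
  exact mul_mem (inv_mem hk) (mul_mem hk₃m this)

end CfsgLib.Geo.TensorSp
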