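/-
Overgroups of `Sp(U) ⊗ O(W)` with scalar root groups: contractions of an element outside the stabiliser.
-/
import Cfsg.Agent.Geo.TensorSym.Line

set_option autoImplicit false
set_option linter.unusedSectionVars false

namespace CfsgLib.Geo.TensorSp

open Matrix CfsgLib.Geo CfsgLib.Geo.Tensor CfsgLib.Geo.TensorO

variable {α β : Type} [Fintype α] [DecidableEq α] [Fintype β] [DecidableEq β] {F : Type*} [Field F]
variable {B : LinearMap.BilinForm F (α × β → F)} {b : LinearMap.BilinForm F (α → F)}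
  {s : LinearMap.BilinForm F (β → F)} {M : Subgroup (GL (α × β) F)}

/-- The contraction of `g` on `z ⊗ W` against `u`. -/
def cc (b : LinearMap.BilinForm F (α → F)) (g : GL (α × β) F) (z u : α → F) : (β → F) →ₗ[F] (β → F) :=
  cu b u ∘ₗ Matrix.mulVecLin (g : Matrix (α × β) (α × β) F) ∘ₗ tenL z

theorem cc_apply (g : GL (α × β) F) (z u : α → F) (f : β → F) :
    cc b g z u f = cu b u ((g : Matrix (α × β) (α × β) F) *ᵥ ten z f) := rfl

/-- The adjoint of `cc b g z u`, up to sign. -/
def ca (b : LinearMap.BilinForm F (α → F)) (g : GL (α × β) F) (z u : α → F) : (β → F) →ₗ[F] (β → F) :=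
  cu b z ∘ₗ Matrix.mulVecLin ((g⁻¹ : GL (α × β) F) : Matrix (α × β) (α × β) F) ∘ₗ tenL u

variable (hT : IsTS B b s) (hM : Over B M)
include hT hM

theorem ca_spec {g : GL (α × β) F} (hg : g ∈ M) (z u : α → F) (f f' : β → F) :
    s f' (ca b g z u f) = -s (cc b g z u f') f := by
  show s f' (cu b z _) = -s (cc b g z u f') f
  rw [← hT.ten_left, ← hM.sub hg]
  show B _ ((g : Matrix (α × β) (α × β) F) *ᵥ (((g⁻¹ : GL (α × β) F) : Matrix (α × β) (α × β) F) *ᵥ ten u f)) = _
  rw [mulVec_inv_mulVec, hT.ten_right, cc_apply, hT.ssym f]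

/-- Conjugating a transvection by an outer element gives an outer element. -/
theorem conj_notMem (h3 : 3 ≤ Fintype.card β) (hab : Fintype.card α ≠ 2 ∨ 5 ≤ Fintype.card β ∨ Odd (Fintype.card β) ∨ NoPlane s)
    (ho : OnlyScalar b M) {g : GL (α × β) F} (hg : g ∈ M) (hgX : g ∉ krs ⊓ iso B) {z : α → F} (hz : z ≠ 0)
    {c : F} (hc : c ≠ 0) {T : GL (α × β) F}
    (hT' : T ∈ krs ⊓ iso B) (hTx : ∀ x, (T : Matrix (α × β) (α × β) F) *ᵥ x = x + c • ten z (cu b z x)) :
    g * T * g⁻¹ ∉ krs ⊓ iso B := by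
  intro hX
  set t := g * T * g⁻¹ with ht
  obtain ⟨y, hy⟩ := hT.exists_b_one hz
  have htx : ∀ x, (t : Matrix (α × β) (α × β) F) *ᵥ x = x + c • ((g : Matrix (α × β) (α × β) F) *ᵥ
      ten z (cu b z (((g⁻¹ : GL (α × β) F) : Matrix (α × β) (α × β) F) *ᵥ x))) := fun x => by
    rw [ht, mul_mulVec, mul_mulVec, hTx, Matrix.mulVec_add, mulVec_inv_mulVec, Matrix.mulVec_smul]
  set N : (α × β → F) →ₗ[F] (α × β → F) :=
    Matrix.mulVecLin (t : Matrix (α × β) (α × β) F) - LinearMap.id with hN
  have hNx : ∀ x, N x = c • ((g : Matrix (α × β) (α × β) F) *ᵥ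
      ten z (cu b z (((g⁻¹ : GL (α × β) F) : Matrix (α × β) (α × β) F) *ᵥ x))) := fun x => by
    simp [hN, htx]
  have hNN : ∀ x, N (N x) = 0 := fun x => by
    rw [hNx, hNx x, Matrix.mulVec_smul, inv_mulVec_mulVec, map_smul, cu_ten, hT.balt z, zero_smul, smul_zero,
      ten_zero_right, Matrix.mulVec_zero, smul_zero]
  have hrange : LinearMap.range N
      = LinearMap.range (Matrix.mulVecLin (g : Matrix (α × β) (α × β) F) ∘ₗ tenL z) := by
    refine le_antisymm ?_ ?_
    · rintro _ ⟨x, rfl⟩
      exact ⟨c • cu b z (((g⁻¹ : GL (α × β) F) : Matrix (α × β) (α × β) F) *ᵥ x), by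
        rw [hNx, LinearMap.comp_apply, tenL_apply, Matrix.mulVecLin_apply, ten_smul_right, Matrix.mulVec_smul]⟩
    · rintro _ ⟨f, rfl⟩
      refine ⟨c⁻¹ • ((g : Matrix (α × β) (α × β) F) *ᵥ ten y f), ?_⟩
      rw [map_smul, hNx, inv_mulVec_mulVec, cu_ten, hy, one_smul, smul_smul, inv_mul_cancel₀ hc, one_smul]
      rfl
  have hinjφ : Function.Injective (Matrix.mulVecLin (g : Matrix (α × β) (α × β) F) ∘ₗ tenL z) :=
    (injective_iff_map_eq_zero _).2 fun f hf => by
      have h1 := congrArg (fun x => cu b y (((g⁻¹ : GL (α × β) F) : Matrix (α × β) (α × β) F) *ᵥ x)) hf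
      simpa [inv_mulVec_mulVec, hT.b_swap z y, hy] using h1
  have hdim : Module.finrank F (LinearMap.range N) = Fintype.card β := by
    rw [hrange, LinearMap.finrank_range_of_inj hinjφ, Module.finrank_fintype_fun_eq_card]
  obtain ⟨⟨p, A, hpA⟩, -⟩ := hX
  have htt : ∀ u f, (t : Matrix (α × β) (α × β) F) *ᵥ ten u f
      = ten ((p : Matrix α α F) *ᵥ u) ((A : Matrix β β F) *ᵥ f) := fun u f => by rw [hpA, kr_ten]
  haveI : Nonempty β := Fintype.card_pos_iff.1 (by omega)
  -- one factor is scalar
  rcases Classical.em (∀ u, ∃ d : F, (p : Matrix α α F) *ᵥ u = d • u) with hp | hp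
  swap
  · obtain ⟨u, hu⟩ := not_forall.1 hp
    obtain ⟨ψ, hψ0, hψ1⟩ := CfsgLib.Geo.exists_covector (F ∙ u) (show (p : Matrix α α F) *ᵥ u ∉ F ∙ u from
      fun h => hu ((Submodule.mem_span_singleton.1 h).imp fun d hd => hd.symm))
    have hψu : ψ ⬝ᵥ u = 0 := hψ0 u (Submodule.mem_span_singleton_self u)
    set e := ψ ⬝ᵥ ((p : Matrix α α F) *ᵥ ((p : Matrix α α F) *ᵥ u))
    have hAs : ∀ f, e • ((A : Matrix β β F) *ᵥ ((A : Matrix β β F) *ᵥ f)) = (2 : F) • ((A : Matrix β β F) *ᵥ f) := by
      intro f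
      have h := congrArg (cR ψ) (hNN (ten u f))
      simp [hN, htt, Matrix.mulVec_sub, map_sub, cR_ten, hψu, hψ1, -Matrix.mulVec_mulVec] at h
      linear_combination (norm := module) h
    have he : e ≠ 0 := fun h0 => by
      obtain ⟨f, hf⟩ := exists_ne (0 : β → F)
      have := hAs f
      rw [h0, zero_smul] at this
      have h1 := (smul_eq_zero.1 this.symm).resolve_left hT.two
      exact hf (by simpa using congrArg (fun w => ((A⁻¹ : GL β F) : Matrix β β F) *ᵥ w) h1)
    have hA : ∀ f, (A : Matrix β β F) *ᵥ f = (2 / e) • f := fun f => by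
      have := hAs (((A⁻¹ : GL β F) : Matrix β β F) *ᵥ f)
      rw [mulVec_inv_mulVec] at this
      rw [div_eq_inv_mul, mul_smul, ← this, smul_smul, inv_mul_cancel₀ he, one_smul]
    set p' : (α → F) →ₗ[F] (α → F) := (2 / e) • Matrix.mulVecLin (p : Matrix α α F) with hp'
    have hNt : ∀ u' f, N (ten u' f) = ten (p' u' - u') f := fun u' f => by
      simp [hN, htt, hA, hp', ten_smul_right, ten_sub_left, ten_smul_left]
    obtain ⟨u', hu'⟩ : ∃ u', p' u' - u' ≠ 0 := by
      by_contra hall
      push Not at hall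
      have : N = 0 := Tensor.map_ext fun u' f => by rw [hNt, hall, ten_zero_left]; rfl
      rw [this, LinearMap.range_zero, finrank_bot] at hdim
      omega
    set w := p' u' - u'
    have hinjw : Function.Injective (tenL (F := F) (β := β) w) := (injective_iff_map_eq_zero _).2 fun f hf => by
      obtain ⟨q, hq⟩ := hT.exists_b_one hu'
      simpa [hT.b_swap w q, hq] using congrArg (cu b q) hf
    have heq : LinearMap.range (tenL (F := F) (β := β) w) = LinearMap.range N :=
      Submodule.eq_of_le_of_finrank_eq (by rintro _ ⟨f, rfl⟩; exact ⟨ten u' f, hNt u' f⟩)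
        (by rw [hdim, LinearMap.finrank_range_of_inj hinjw, Module.finrank_fintype_fun_eq_card])
    refine hgX (line_mem hT hM h3 ho hg hz hu' fun f => ?_)
    obtain ⟨f', hf'⟩ : (g : Matrix (α × β) (α × β) F) *ᵥ ten z f ∈ LinearMap.range (tenL (F := F) (β := β) w) := by
      rw [heq, hrange]; exact ⟨f, rfl⟩
    exact ⟨f', hf'.symm⟩
  -- the first factor is scalar
  obtain ⟨d, hd⟩ : ∃ d : F, ∀ u, (p : Matrix α α F) *ᵥ u = d • u := by
    obtain ⟨d, hd⟩ := hp z
    refine ⟨d, fun u => ?_⟩
    by_cases hu : ∃ e : F, u = e • z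
    · obtain ⟨e, rfl⟩ := hu
      rw [Matrix.mulVec_smul, hd, smul_comm]
    · obtain ⟨d', hd'⟩ := hp u
      obtain ⟨d'', hd''⟩ := hp (u + z)
      rw [Matrix.mulVec_add, hd, hd'] at hd''
      have e1 : (d' - d'') • u = (d'' - d) • z := by linear_combination (norm := module) hd''
      by_cases hdd : d' = d''
      · rw [hdd, sub_self, zero_smul] at e1
        have := (smul_eq_zero.1 e1.symm).resolve_right hz
        rw [hd', hdd, sub_eq_zero.1 this]
      · exact absurd ⟨_, by
          rw [show u = (d' - d'')⁻¹ • ((d' - d'') • u) by rw [smul_smul, inv_mul_cancel₀ (sub_ne_zero.2 hdd), one_smul],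
            e1, smul_smul]⟩ hu
  set m : (β → F) →ₗ[F] (β → F) := d • Matrix.mulVecLin (A : Matrix β β F) - LinearMap.id with hm
  have hNt : ∀ u f, N (ten u f) = ten u (m f) := fun u f => by
    simp [hN, htt, hd, hm, ten_smul_left, ten_sub_right, ten_smul_right]
  have hrow : ∀ x i, (fun j => N x (i, j)) = m fun j => x (i, j) := fun x i => by
    have := Tensor.map_ext (S := LinearMap.pi (fun j => LinearMap.proj (i, j)) ∘ₗ N)
      (T := m ∘ₗ LinearMap.pi fun j => LinearMap.proj (i, j)) fun u f => by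
        rw [LinearMap.comp_apply, hNt, LinearMap.comp_apply]
        show (fun j => u i * m f j) = m fun j => u i * f j
        exact (m.map_smul (u i) f).symm
    exact LinearMap.congr_fun this x
  set R := LinearMap.range m with hR
  have hcard : Fintype.card α * Module.finrank F R = Fintype.card β := by
    let Φ : (α → R) →ₗ[F] (α × β → F) :=
      LinearMap.pi fun q => LinearMap.proj q.2 ∘ₗ R.subtype ∘ₗ LinearMap.proj q.1
    have hΦ : Function.Injective Φ := fun c c' h => funext fun i => Subtype.ext (funext fun j => congrFun h (i, j))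
    have hΦr : LinearMap.range Φ = LinearMap.range N := by
      refine le_antisymm ?_ ?_
      · rintro _ ⟨cf, rfl⟩
        choose h hh using fun i => (cf i).2
        exact ⟨fun q => h q.1 q.2, funext fun q => (congrFun (hrow _ q.1) q.2).trans (congrFun (hh q.1) q.2)⟩
      · rintro _ ⟨x, rfl⟩
        exact ⟨fun i => ⟨_, ⟨fun j => x (i, j), rfl⟩⟩, funext fun q => (congrFun (hrow x q.1) q.2).symm⟩
    rw [← hdim, ← hΦr, LinearMap.finrank_range_of_inj hΦ, Module.finrank_pi_fintype]
    simp
  have hmm : ∀ f, m (m f) = 0 := fun f => by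
    have := hNN (ten z f)
    rw [hNt, hNt] at this
    obtain ⟨q, hq⟩ := hT.exists_b_one hz
    simpa [hT.b_swap z q, hq] using congrArg (cu b q) this
  have hts : ∀ f f', s (m f) f' + s f (m f') + s (m f) (m f') = 0 := by
    intro f f'
    have htM : t ∈ M := M.mul_mem (M.mul_mem hg (hM.le hT')) (M.inv_mem hg)
    have := hM.sub htM (ten z f) (ten y f')
    have e : ∀ u f, (t : Matrix (α × β) (α × β) F) *ᵥ ten u f = ten u (f + m f) := fun u f => by
      rw [ten_add_right, ← hNt]; simp [hN]
    rw [e, e, hT.pol, hT.pol, hy, one_mul, one_mul] at this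
    simp only [map_add, LinearMap.add_apply] at this
    linear_combination this
  have hsing : ∀ f f', s (m f) (m f') = 0 := fun f f' => by
    have := hts f (m f')
    simpa [hmm] using this
  -- an isometry of the second factor fixing the image
  obtain ⟨A', hA', hA'm, hA'ne, hA'r⟩ : ∃ A' : (β → F) →ₗ[F] (β → F), (∀ f f', s (A' f) (A' f') = s f f') ∧
      (∀ f, A' (m f) = m f) ∧ (∃ f, A' f ≠ f) ∧
      Module.finrank F (LinearMap.range (A' - LinearMap.id)) * Fintype.card α < Fintype.card β := by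
    by_cases h2a : Fintype.card α = 2
    · rw [h2a] at hcard
      have h4 : 4 ≤ Fintype.card β := by omega
      obtain ⟨⟨ν, hνm⟩, hν⟩ : ∃ ν : R, ν ≠ 0 := by
        haveI : Nontrivial R := Module.nontrivial_of_finrank_pos (R := F) (by omega)
        exact exists_ne 0
      have hν0 : ν ≠ 0 := fun e => hν (Subtype.ext e)
      obtain ⟨ν', hν'm, hν'⟩ : ∃ ν' ∈ R, ν' ∉ F ∙ ν := by
        by_contra hall
        push Not at hall
        have := Submodule.finrank_mono (show R ≤ F ∙ ν from hall)
        rw [finrank_span_singleton hν0] at this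
        omega
      obtain ⟨x, rfl⟩ := hνm
      obtain ⟨x', rfl⟩ := hν'm
      have z1 : ∀ w, s (m x) (m w) = 0 := hsing x
      have z2 : ∀ w, s (m x') (m w) = 0 := hsing x'
      have hb : 5 ≤ Fintype.card β := by
        rcases hab.resolve_left (not_not.2 h2a) with h | ⟨j, hj⟩ | hnp
        · exact h
        · omega
        · obtain ⟨d, hd⟩ := hnp (m x) (m x') (z1 x) (z2 x') (z1 x') hν0
          exact absurd (Submodule.mem_span_singleton.2 ⟨d, hd.symm⟩) hν'
      refine ⟨LinearMap.id + (s (m x)).smulRight (m x') - (s (m x')).smulRight (m x), fun f f' => ?_,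
        fun f => by simp [z1, z2], ?_, ?_⟩
      · simp [hT.ssym f (m x), hT.ssym f (m x'), z1, z2]
        ring
      · obtain ⟨k, hk⟩ := hT.exists_s_one hν0
        refine ⟨k, fun e => hν' (Submodule.mem_span_singleton.2 ⟨s (m x') k, ?_⟩)⟩
        simp [hk] at e
        linear_combination (norm := module) -e
      · have hle : LinearMap.range (LinearMap.id + (s (m x)).smulRight (m x') - (s (m x')).smulRight (m x)
            - LinearMap.id) ≤ Submodule.span F ({m x, m x'} : Set (β → F)) := by
          rintro _ ⟨f, rfl⟩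
          rw [Submodule.mem_span_pair]
          exact ⟨-s (m x') f, s (m x) f, by simp; module⟩
        have := (Submodule.finrank_mono hle).trans (finrank_span_two_le _ _)
        rw [h2a]
        omega
    · have ha : 3 ≤ Fintype.card α := by
        have h1 : Fintype.card α ≠ 0 := fun h0 => by
          haveI := Fintype.card_eq_zero_iff.1 h0
          exact hz (Subsingleton.elim _ _)
        have h1' : Fintype.card α ≠ 1 := fun h1' => by
          obtain ⟨i, hi⟩ := Fintype.card_eq_one_iff.1 h1'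
          have e : ∀ u : α → F, u = u i • Pi.single i 1 := fun u => funext fun j => by rw [hi j]; simp
          rw [e z, e y] at hy
          simp [hT.balt (Pi.single i (1 : F))] at hy
        omega
      obtain ⟨v, hvR, hv⟩ : ∃ v, (∀ f, s v (m f) = 0) ∧ s v v ≠ 0 := by
        by_contra hall
        push Not at hall
        let ker : Submodule F (β → F) := LinearMap.ker
          (LinearMap.pi fun j => (s.flip (m (Pi.single j 1))))
        have hker : ∀ v, v ∈ ker ↔ ∀ f, s v (m f) = 0 := fun v => by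
          refine ⟨fun hv f => ?_, fun hv => LinearMap.mem_ker.2 (funext fun j => hv _)⟩
          conv_lhs => rw [pi_eq_sum_univ' f, map_sum, map_sum]
          refine Finset.sum_eq_zero fun j _ => ?_
          rw [map_smul, map_smul]
          have := congrFun (LinearMap.mem_ker.1 hv) j
          simp only [LinearMap.pi_apply] at this
          show f j • s v (m (Pi.single j 1)) = 0
          rw [show s v (m (Pi.single j 1)) = 0 from this, smul_zero]
        have hkm : ∀ v ∈ ker, m v = 0 := fun v hv => hT.eq_of_s fun w => by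
          rw [map_zero, hT.ssym, show s (m v) w = 0 by
            have := hts v w
            rw [(hker v).1 hv w, hsing] at this
            simpa using this]
        have hker' : ∀ v, m v = 0 → v ∈ ker := fun v hv => (hker v).2 fun f => by
          have := hts v f
          rw [hv, map_zero, LinearMap.zero_apply, LinearMap.zero_apply] at this
          simpa using this
        have hkerm : ker = LinearMap.ker m := le_antisymm hkm hker'
        have hts' : ∀ v ∈ ker, ∀ w ∈ ker, s v w = 0 := fun v hv w hw => by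
          have e1 := hall v ((hker v).1 hv)
          have e2 := hall w ((hker w).1 hw)
          have e3 := hall (v + w) ((hker _).1 (ker.add_mem hv hw))
          simp [e1, e2, hT.ssym w v] at e3
          exact (mul_eq_zero.1 (show (2 : F) * s v w = 0 by linear_combination e3)).resolve_left hT.two
        -- the kernel lies in the image
        have hle : ker ≤ R := fun v hv => by
          by_contra hvR
          obtain ⟨w, hw0, hw1⟩ := exists_left_sep hT.snd R hvR
          have := hts' w ((hker w).2 fun f => hw0 _ ⟨f, rfl⟩) v hv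
          exact one_ne_zero (hw1.symm.trans this)
        have h1 := Submodule.finrank_mono hle
        have h2 := LinearMap.finrank_range_add_finrank_ker m
        rw [← hR, ← hkerm, Module.finrank_fintype_fun_eq_card] at h2
        nlinarith
      refine ⟨rfl' s v, rfl'_iso hT hv, fun f => by rw [rfl'_apply, hvR, mul_zero, zero_smul, sub_zero],
        ⟨v, fun e => ?_⟩, ?_⟩
      · rw [rfl'_apply, div_mul_cancel₀ _ hv, sub_eq_self] at e
        rcases smul_eq_zero.1 e with e | e
        · exact hT.two e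
        · rw [e] at hv; simp at hv
      · have hle : LinearMap.range (rfl' s v - LinearMap.id) ≤ F ∙ v := by
          rintro _ ⟨f, rfl⟩
          exact Submodule.mem_span_singleton.2 ⟨-(2 / s v v * s v f), by simp [rfl'_apply]⟩
        have := Submodule.finrank_mono hle
        rw [finrank_span_singleton (fun e => hv (by rw [e]; simp))] at this
        have h2 : 2 ≤ Module.finrank F R := by
          by_contra h2
          obtain ⟨f, hf⟩ : ∃ f, m f ≠ 0 := by
            by_contra hz0
            push Not at hz0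
            have : R = ⊥ := by rw [hR, LinearMap.range_eq_bot]; exact LinearMap.ext hz0
            rw [this, finrank_bot] at hcard; omega
          have hRf : R = F ∙ m f := (Submodule.eq_of_le_of_finrank_le
            ((Submodule.span_singleton_le_iff_mem _ _).2 (⟨f, rfl⟩ : m f ∈ R))
            (by rw [finrank_span_singleton hf]; omega)).symm
          obtain ⟨k, hk⟩ := hT.exists_s_one hf
          obtain ⟨e, he⟩ := Submodule.mem_span_singleton.1
            (show m k ∈ F ∙ m f by rw [← hRf]; exact ⟨k, rfl⟩)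
          have h1 := hts k k
          rw [hsing, add_zero, hT.ssym k (m k), ← he, map_smul, LinearMap.smul_apply, hk, smul_eq_mul, mul_one] at h1
          have he0 : e = 0 := (mul_eq_zero.1 (show (2 : F) * e = 0 by linear_combination h1)).resolve_left hT.two
          have h1' := hts f k
          rw [hsing, add_zero, hk, ← he, he0, zero_smul, map_zero, add_zero] at h1'
          exact one_ne_zero h1'
        nlinarith
  obtain ⟨k, hk, hkt⟩ := hT.exists_right A' hA'
  set h := g⁻¹ * k * g with hh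
  have hkN : ∀ x, (k : Matrix (α × β) (α × β) F) *ᵥ N x = N x := fun x => by
    have := Tensor.map_ext (S := Matrix.mulVecLin (k : Matrix (α × β) (α × β) F) ∘ₗ N) (T := N) fun u f => by
      simp [hNt, hkt, hA'm]
    exact LinearMap.congr_fun this x
  have hfix : ∀ f, (h : Matrix (α × β) (α × β) F) *ᵥ ten z f = ten z f := fun f => by
    obtain ⟨x, hx⟩ : (g : Matrix (α × β) (α × β) F) *ᵥ ten z f ∈ LinearMap.range N := by
      rw [hrange]; exact ⟨f, rfl⟩
    rw [hh, mul_mulVec, mul_mulVec, ← hx, hkN, hx, inv_mulVec_mulVec]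
  obtain ⟨⟨q, C, hqC⟩, -⟩ := fix_line hT hM hz h3 ho
    (M.mul_mem (M.mul_mem (M.inv_mem hg) (hM.le hk)) hg) hfix
  obtain ⟨l, hl⟩ : ∃ l : α → F, l ⬝ᵥ z = 1 := exists_dot_one hz
  have hC : ∀ f, (l ⬝ᵥ ((q : Matrix α α F) *ᵥ z)) • ((C : Matrix β β F) *ᵥ f) = f := fun f => by
    have := congrArg (cR l) (hfix f)
    rwa [hh, hqC, kr_ten, cR_ten, cR_ten, hl, one_smul] at this
  set e := l ⬝ᵥ ((q : Matrix α α F) *ᵥ z)
  have he : e ≠ 0 := fun e0 => by
    obtain ⟨f, hf⟩ := exists_ne (0 : β → F)
    exact hf (by rw [← hC f, e0, zero_smul])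
  have hC' : ∀ f, (C : Matrix β β F) *ᵥ f = e⁻¹ • f := fun f => by
    conv_rhs => rw [← hC f, smul_smul, inv_mul_cancel₀ he, one_smul]
  set D : (α × β → F) →ₗ[F] (α × β → F) := Matrix.mulVecLin (h : Matrix (α × β) (α × β) F) - LinearMap.id with hD
  have hDt : ∀ u f, D (ten u f) = ten (e⁻¹ • ((q : Matrix α α F) *ᵥ u) - u) f := fun u f => by
    simp [hD, hh, hqC, kr_ten, hC', ten_smul_left, ten_smul_right, ten_sub_left]
  let Φ : (α → LinearMap.range (A' - LinearMap.id)) →ₗ[F] (α × β → F) :=
    LinearMap.pi fun p => LinearMap.proj p.2 ∘ₗ (LinearMap.range (A' - LinearMap.id)).subtype ∘ₗ LinearMap.proj p.1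
  have hle : LinearMap.range D ≤ LinearMap.range
      (Matrix.mulVecLin ((g⁻¹ : GL (α × β) F) : Matrix (α × β) (α × β) F) ∘ₗ Φ) := by
    rintro _ ⟨x, rfl⟩
    refine ⟨fun i => ⟨_, ⟨fun j => ((g : Matrix (α × β) (α × β) F) *ᵥ x) (i, j), rfl⟩⟩, ?_⟩
    set y' := (g : Matrix (α × β) (α × β) F) *ᵥ x
    have hrowk : ∀ i, (fun j => ((k : Matrix (α × β) (α × β) F) *ᵥ y') (i, j)) = A' fun j => y' (i, j) := fun i => by
      have := Tensor.map_ext (S := LinearMap.pi (fun j => LinearMap.proj (i, j)) ∘ₗ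
          Matrix.mulVecLin (k : Matrix (α × β) (α × β) F))
        (T := A' ∘ₗ LinearMap.pi fun j => LinearMap.proj (i, j)) fun u f => by
          rw [LinearMap.comp_apply, Matrix.mulVecLin_apply, hkt, LinearMap.comp_apply]
          show (fun j => u i * A' f j) = A' fun j => u i * f j
          exact (A'.map_smul (u i) f).symm
      exact LinearMap.congr_fun this y'
    have : D x = ((g⁻¹ : GL (α × β) F) : Matrix (α × β) (α × β) F) *ᵥ ((k : Matrix (α × β) (α × β) F) *ᵥ y' - y') := by
      rw [Matrix.mulVec_sub, inv_mulVec_mulVec]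
      simp [hD, hh, mul_mulVec, y']
    rw [this, LinearMap.comp_apply, Matrix.mulVecLin_apply]
    congr 1
    funext p
    exact (congrArg (fun r => r p.2 - y' (p.1, p.2)) (hrowk p.1)).symm
  obtain ⟨u, hu⟩ : ∃ u, e⁻¹ • ((q : Matrix α α F) *ᵥ u) - u ≠ 0 := by
    by_contra hall
    push Not at hall
    have hD0 : D = 0 := Tensor.map_ext fun u f => by rw [hDt, hall, ten_zero_left]; rfl
    obtain ⟨f, hf⟩ := hA'ne
    have h1 : h = 1 := gl_ext_mulVec fun x => by
      have := LinearMap.congr_fun hD0 x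
      simp [hD, sub_eq_zero] at this
      simp [this]
    have hk1 : k = 1 := by
      have : k = g * h * g⁻¹ := by rw [hh]; group
      rw [this, h1]; group
    have := hkt z f
    rw [hk1, Units.val_one, Matrix.one_mulVec] at this
    obtain ⟨w, hw⟩ := hT.exists_b_one hz
    exact hf (by simpa [hT.b_swap z w, hw] using (congrArg (cu b w) this).symm)
  have hinjw : Function.Injective (tenL (F := F) (β := β) (e⁻¹ • ((q : Matrix α α F) *ᵥ u) - u)) :=
    (injective_iff_map_eq_zero _).2 fun f hf => by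
      obtain ⟨w, hw⟩ := hT.exists_b_one hu
      have := congrArg (cu b w) hf
      rw [tenL_apply, cu_ten, hT.b_swap _ w, hw, map_zero] at this
      simpa using this
  have h1 : Fintype.card β ≤ Module.finrank F (LinearMap.range D) := by
    rw [← Module.finrank_fintype_fun_eq_card F (η := β), ← LinearMap.finrank_range_of_inj hinjw]
    exact Submodule.finrank_mono (by rintro _ ⟨f, rfl⟩; exact ⟨ten u f, hDt u f⟩)
  have h2 := (Submodule.finrank_mono hle).trans (LinearMap.finrank_range_le _)
  rw [Module.finrank_pi_fintype, Finset.sum_const, Finset.card_univ, smul_eq_mul] at h2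
  rw [mul_comm] at hA'r
  omega

section out

variable (h3 : 3 ≤ Fintype.card β) (hab : Fintype.card α ≠ 2 ∨ 5 ≤ Fintype.card β ∨ Odd (Fintype.card β) ∨ NoPlane s) (ho : OnlyScalar b M)
include h3 hab ho

/-- No contraction of an outer element vanishes. -/
theorem cc_ne {g : GL (α × β) F} (hg : g ∈ M) (hgX : g ∉ krs ⊓ iso B) {z u : α → F} (hz : z ≠ 0) (hu : u ≠ 0) :
    ∃ f, cc b g z u f ≠ 0 := by
  by_contra hall
  push Not at hall
  obtain ⟨T, hT', hTx⟩ := hT.exists_T z 1
  refine conj_notMem hT hM h3 hab ho hg hgX hz one_ne_zero hT' hTx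
    (fix_line hT hM hu h3 ho (M.mul_mem (M.mul_mem hg (hM.le hT')) (M.inv_mem hg)) fun f => ?_)
  have hca : ca b g z u f = 0 := hT.eq_of_s fun f' => by
    rw [ca_spec hT hM hg, hall, map_zero, LinearMap.zero_apply, neg_zero, map_zero]
  rw [mul_mulVec, mul_mulVec, hTx, one_smul, Matrix.mulVec_add, mulVec_inv_mulVec]
  rw [show cu b z (((g⁻¹ : GL (α × β) F) : Matrix (α × β) (α × β) F) *ᵥ ten u f) = 0 from hca, ten_zero_right,
    Matrix.mulVec_zero, add_zero]

/-- The derived element. -/
theorem exists_derived {g : GL (α × β) F} (hg : g ∈ M) (hgX : g ∉ krs ⊓ iso B) {z : α → F} (hz : z ≠ 0)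
    (u : α → F) {c : F} (hc : c ≠ 0) : ∃ g' ∈ M, g' ∉ krs ⊓ iso B ∧
      (∀ f, (g' : Matrix (α × β) (α × β) F) *ᵥ ten u f
        = ten u f + c • ((g : Matrix (α × β) (α × β) F) *ᵥ ten z (ca b g z u f))) ∧
      (∀ f, cc b g' u u f = c • cc b g z u (ca b g z u f)) ∧
      ∀ f f', s (cc b g' u u f) f' = s f (cc b g' u u f') := by
  obtain ⟨T, hT', hTx⟩ := hT.exists_T z c
  set g' := g * T * g⁻¹ with hg'
  have hx : ∀ f, (g' : Matrix (α × β) (α × β) F) *ᵥ ten u f
      = ten u f + c • ((g : Matrix (α × β) (α × β) F) *ᵥ ten z (ca b g z u f)) := fun f => by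
    rw [hg', mul_mulVec, mul_mulVec, hTx, Matrix.mulVec_add, mulVec_inv_mulVec, Matrix.mulVec_smul]
    rfl
  have hcc : ∀ f, cc b g' u u f = c • cc b g z u (ca b g z u f) := fun f => by
    rw [cc_apply, hx, map_add, cu_ten, hT.balt u, zero_smul, zero_add, map_smul, cc_apply]
  refine ⟨g', M.mul_mem (M.mul_mem hg (hM.le hT')) (M.inv_mem hg),
    conj_notMem hT hM h3 hab ho hg hgX hz hc hT' hTx, hx, hcc, fun f f' => ?_⟩
  rw [hcc, hcc, map_smul, map_smul, LinearMap.smul_apply]
  congr 1
  rw [hT.ssym f]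
  have e1 := ca_spec hT hM hg z u f' (ca b g z u f)
  have e2 := ca_spec hT hM hg z u f (ca b g z u f')
  linear_combination e1 - e2 - hT.ssym (ca b g z u f) (ca b g z u f')

/-- An element with a self-adjoint contraction with stable non-zero kernel. -/
def Good (B : LinearMap.BilinForm F (α × β → F)) (b : LinearMap.BilinForm F (α → F))
    (s : LinearMap.BilinForm F (β → F)) (M : Subgroup (GL (α × β) F)) (z : α → F) (g : GL (α × β) F) : Prop :=
  g ∈ M ∧ g ∉ krs ⊓ iso B ∧ z ≠ 0 ∧ (∀ f f', s (cc b g z z f) f' = s f (cc b g z z f')) ∧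
    (∃ f, f ≠ 0 ∧ cc b g z z f = 0) ∧ ∀ f, cc b g z z (cc b g z z f) = 0 → cc b g z z f = 0

/-- A singular self-adjoint contraction gives one with stable kernel. -/
theorem good_of_selfAdj {z : α → F} (hz : z ≠ 0) : ∀ (n : ℕ) (g : GL (α × β) F), g ∈ M → g ∉ krs ⊓ iso B →
    (∀ f f', s (cc b g z z f) f' = s f (cc b g z z f')) → (∃ f, f ≠ 0 ∧ cc b g z z f = 0) →
    Fintype.card β ≤ Module.finrank F (LinearMap.ker (cc b g z z)) + n → ∃ g', Good B b s M z g' := by
  intro n
  induction n with
  | zero =>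
    intro g hg hgX _ _ hn
    exfalso
    obtain ⟨f, hf⟩ := cc_ne hT hM h3 hab ho hg hgX hz hz
    have := Submodule.eq_top_of_finrank_eq (S := LinearMap.ker (cc b g z z)) (le_antisymm (Submodule.finrank_le _)
      (by rwa [Module.finrank_fintype_fun_eq_card]))
    exact hf (LinearMap.mem_ker.1 (this ▸ Submodule.mem_top))
  | succ n ih =>
    intro g hg hgX hsa hsing hn
    by_cases hst : ∀ f, cc b g z z (cc b g z z f) = 0 → cc b g z z f = 0
    · exact ⟨g, hg, hgX, hz, hsa, hsing, hst⟩
    push Not at hst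
    obtain ⟨f₁, hf1, hf2⟩ := hst
    obtain ⟨g', hg', hgX', -, hcc, hsa'⟩ := exists_derived hT hM h3 hab ho hg hgX hz z one_ne_zero
    have hca : ∀ f, ca b g z z f = -cc b g z z f := fun f => hT.eq_of_s fun f' => by
      rw [ca_spec hT hM hg, hsa, map_neg]
    have hcc' : ∀ f, cc b g' z z f = -cc b g z z (cc b g z z f) := fun f => by
      rw [hcc, one_smul, hca, map_neg]
    have hlt : LinearMap.ker (cc b g z z) < LinearMap.ker (cc b g' z z) := by
      refine lt_of_le_of_ne (fun f hf => ?_) fun e => hf2 ?_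
      · rw [LinearMap.mem_ker] at hf ⊢
        rw [hcc', hf, map_zero, neg_zero]
      · have : f₁ ∈ LinearMap.ker (cc b g' z z) := by rw [LinearMap.mem_ker, hcc', hf1, neg_zero]
        rw [← e] at this
        exact this
    obtain ⟨f, hf0, hf⟩ := hsing
    refine ih g' hg' hgX' hsa' ⟨f, hf0, ?_⟩ ?_
    · rw [hcc', hf, map_zero, neg_zero]
    · have := Submodule.finrank_lt_finrank_of_lt hlt
      omega

/-- A singular contraction gives a good element. -/
theorem good_of_singular {g : GL (α × β) F} (hg : g ∈ M) (hgX : g ∉ krs ⊓ iso B) {z u : α → F} (hz : z ≠ 0)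
    (hu : u ≠ 0) {f₀ : β → F} (hf₀ : f₀ ≠ 0) (h0 : cc b g z u f₀ = 0) : ∃ g', Good B b s M u g' := by
  obtain ⟨g', hg', hgX', -, hcc, hsa⟩ := exists_derived hT hM h3 hab ho hg hgX hz u one_ne_zero
  refine good_of_selfAdj hT hM h3 hab ho hu (Fintype.card β) g' hg' hgX' hsa ?_ (by omega)
  by_contra hinj
  push Not at hinj
  have h1 : Function.Injective (ca b g z u) := (injective_iff_map_eq_zero _).2 fun f hf => by
    by_contra hne
    exact hinj f hne (by rw [hcc, hf, map_zero, smul_zero])
  obtain ⟨f, hf⟩ := LinearMap.injective_iff_surjective.1 h1 f₀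
  have hne : f ≠ 0 := fun e => hf₀ (by rw [← hf, e, map_zero])
  exact hinj f hne (by rw [hcc, hf, h0, smul_zero])

/-- Good elements exist when the factors have different dimensions. -/
theorem exists_good (hab' : Fintype.card α ≠ Fintype.card β) {g : GL (α × β) F} (hg : g ∈ M)
    (hgX : g ∉ krs ⊓ iso B) {z : α → F} (hz : z ≠ 0) : ∃ (u : α → F) (g' : GL (α × β) F), Good B b s M u g' := by
  haveI : Nonempty β := Fintype.card_pos_iff.1 (by omega)
  by_cases hsing : ∃ u f₀, u ≠ 0 ∧ f₀ ≠ 0 ∧ cc b g z u f₀ = 0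
  · obtain ⟨u, f₀, hu, hf₀, h0⟩ := hsing
    exact ⟨u, good_of_singular hT hM h3 hab ho hg hgX hz hu hf₀ h0⟩
  push Not at hsing
  rcases Nat.lt_or_gt_of_ne hab' with hlt | hgt
  swap
  · exfalso
    obtain ⟨f₀, hf₀⟩ := exists_ne (0 : β → F)
    let L : (α → F) →ₗ[F] (β → F) :=
      { toFun := fun u => cc b g z u f₀
        map_add' := fun u u' => cu_add u u' _
        map_smul' := fun c u => cu_smul c u _ }
    obtain ⟨u, hu, hu0⟩ := exists_ne_zero_ker L (by simpa using hgt)
    exact hsing u f₀ hu hf₀ hu0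
  obtain ⟨v, hv⟩ : ∃ v, s v v ≠ 0 := by
    obtain ⟨w, hw⟩ := exists_ne (0 : β → F)
    exact (exists_aniso_in hT (P := LinearMap.id) (fun _ _ => rfl) (f₀ := w) hw)
  obtain ⟨r, hr, hrx⟩ := hT.exists_refl hv
  set g₁ := g⁻¹ * r * g with hg₁
  set ξ : (β → F) →ₗ[F] (α → F) := cw s v ∘ₗ Matrix.mulVecLin (g : Matrix (α × β) (α × β) F) ∘ₗ tenL z with hξ
  have hC : ∀ f f', s f' (cc b g₁ z z f) = 2 / s v v * b (ξ f) (ξ f') := fun f f' => by
    rw [cc_apply, ← hT.ten_left, ← hM.sub hg, hg₁, mul_mulVec, mul_mulVec, mulVec_inv_mulVec, hrx, map_sub,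
      hM.sub hg, hT.pol, hT.balt z, zero_mul, zero_sub, map_smul, hT.swap (ten (cw s v _) v), hT.ten_left']
    simp [hξ]
  obtain ⟨f, hf⟩ : ∃ f, f ≠ 0 ∧ cc b g₁ z z f = 0 := by
    obtain ⟨f, hf0, hf⟩ := exists_ne_zero_ker ξ (by simpa using hlt)
    exact ⟨f, hf0, hT.eq_of_s fun f' => by rw [hC, hf, map_zero, LinearMap.zero_apply, mul_zero, map_zero]⟩
  have hg₁M : g₁ ∈ M := M.mul_mem (M.mul_mem (M.inv_mem hg) (hM.le hr)) hg
  by_cases hX : g₁ ∈ krs ⊓ iso B
  · exfalso
    obtain ⟨⟨p, A, hpA⟩, -⟩ := hX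
    have hξs : Function.Surjective ξ := fun u₀ => by
      by_contra hne
      push Not at hne
      obtain ⟨u, hu1, hu2⟩ := exists_left_sep hT.bnd (LinearMap.range ξ) (fun ⟨x, hx⟩ => hne x hx)
      have hu0 : u ≠ 0 := fun e => by rw [e] at hu2; simp at hu2
      have hinj : Function.Injective (cc b g z u) := (injective_iff_map_eq_zero _).2 fun f' hf' => by
        by_contra hne'
        exact hsing u f' hu0 hne' hf'
      obtain ⟨f', hf'⟩ := LinearMap.injective_iff_surjective.1 hinj v
      apply hv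
      have := hu1 _ ⟨f', rfl⟩
      rw [hξ, LinearMap.comp_apply, ← hT.ten_left', hT.ten_left] at this
      change s v (cc b g z u f') = 0 at this
      rwa [hf'] at this
    have hzero : ∀ f'', cc b g₁ z z f'' = 0 := by
      have e : ∀ f'', cc b g₁ z z f'' = b z ((p : Matrix α α F) *ᵥ z) • ((A : Matrix β β F) *ᵥ f'') := fun f'' => by
        rw [cc_apply, hpA, kr_ten, cu_ten]
      intro f''
      rw [e] at hf ⊢
      rcases smul_eq_zero.1 hf.2 with h0 | h0
      · rw [h0, zero_smul]
      · exact absurd (by simpa using congrArg (fun w => ((A⁻¹ : GL β F) : Matrix β β F) *ᵥ w) h0) hf.1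
    obtain ⟨w, hw⟩ := hT.exists_b_one hz
    obtain ⟨x, hx⟩ := hξs z
    obtain ⟨x', hx'⟩ := hξs w
    have := hC x x'
    rw [hzero, map_zero, hx, hx', hw, mul_one] at this
    exact div_ne_zero hT.two hv this.symm
  · exact ⟨z, good_of_singular hT hM h3 hab ho hg₁M hX hz hz hf.1 hf.2⟩

end out

end CfsgLib.Geo.TensorSp
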