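/-
Overgroups of `Sp(U) ⊗ O(W)` with scalar root groups: no good element exists.
-/
import Cfsg.Agent.Geo.TensorSym.Step
import Mathlib.FieldTheory.IsAlgClosed.AlgebraicClosure
import Mathlib.LinearAlgebra.Matrix.SpecialLinearGroup
import Mathlib.GroupTheory.PGroup

set_option autoImplicit false
set_option linter.unusedSectionVars false

namespace CfsgLib.Geo.TensorSp

open Matrix CfsgLib.Geo CfsgLib.Geo.Tensor CfsgLib.Geo.TensorO Polynomial

/-- A normal subgroup of order divisible by `p` has an element of order `p` centralised by a given `p`-element. -/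
theorem exists_centralised {G : Type*} [Group G] [Finite G] {p : ℕ} [hp : Fact p.Prime] (N : Subgroup G)
    [N.Normal] (hN : p ∣ Nat.card N) {x : G} (hx : x ^ p = 1) :
    ∃ n ∈ N, orderOf n = p ∧ n * x = x * n := by
  letI : MulAction (Subgroup.zpowers x) N :=
    MulAction.compHom N ((MulAut.conjNormal (H := N)).comp (Subgroup.zpowers x).subtype)
  have hP : IsPGroup p (Subgroup.zpowers x) := fun ⟨g, hg⟩ => ⟨1, by
    obtain ⟨i, rfl⟩ := Subgroup.mem_zpowers_iff.1 hg
    ext
    rw [pow_one, SubmonoidClass.coe_pow, Subgroup.coe_one, ← zpow_natCast, ← _root_.zpow_mul, mul_comm i,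
      _root_.zpow_mul, zpow_natCast, hx, _root_.one_zpow]⟩
  have hfix : ∀ n : N, n ∈ MulAction.fixedPoints (Subgroup.zpowers x) N ↔ (n : G) * x = x * n := fun n => by
    constructor
    · intro h
      have := congrArg Subtype.val (h ⟨x, Subgroup.mem_zpowers x⟩)
      change x * (n : G) * x⁻¹ = n at this
      rw [mul_inv_eq_iff_eq_mul] at this
      exact this.symm
    · intro h k
      refine Subtype.ext ?_
      change (k : G) * (n : G) * (k : G)⁻¹ = n
      obtain ⟨i, hi⟩ := Subgroup.mem_zpowers_iff.1 k.2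
      have : Commute (k : G) (n : G) := hi ▸ (show Commute x (n : G) from h.symm).zpow_left i
      rw [this.eq, mul_inv_cancel_right]
  let C : Subgroup G := N ⊓ Subgroup.centralizer {x}
  have hC : Nat.card C = Nat.card (MulAction.fixedPoints (Subgroup.zpowers x) N) := Nat.card_congr
    { toFun := fun c => ⟨⟨c.1, c.2.1⟩, (hfix _).2 ((Subgroup.mem_centralizer_singleton_iff.1 c.2.2))⟩
      invFun := fun n => ⟨n.1.1, n.1.2, Subgroup.mem_centralizer_singleton_iff.2 ((hfix _).1 n.2)⟩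
      left_inv := fun c => rfl
      right_inv := fun n => rfl }
  have hpC : p ∣ Nat.card C := by
    rw [hC]
    exact Nat.modEq_zero_iff_dvd.1 ((hP.card_modEq_card_fixedPoints N).symm.trans (Nat.modEq_zero_iff_dvd.2 hN))
  obtain ⟨n, hn⟩ := exists_prime_orderOf_dvd_card' p hpC
  exact ⟨n, n.2.1, by rw [← hn, Subgroup.orderOf_coe], Subgroup.mem_centralizer_singleton_iff.1 n.2.2⟩

/-- A nilpotent 2×2 matrix in the span of `1` and a non-scalar matrix of trace other than `±2` vanishes. -/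
theorem span_nilpotent_eq_zero {K : Type*} [Field K] {W : Matrix (Fin 2) (Fin 2) K} (hdet : W.det = 1)
    (h01 : W 0 1 ≠ 0) (htr : W.trace ^ 2 ≠ 4) (h2 : (2 : K) ≠ 0) {m : ℕ} {a c : K}
    (hν : (a • W + c • (1 : Matrix (Fin 2) (Fin 2) K)) ^ m = 0) : a = 0 ∧ c = 0 := by
  rw [Matrix.det_fin_two] at hdet
  set t := W.trace with ht
  rw [Matrix.trace_fin_two] at ht
  set ν := a • W + c • (1 : Matrix (Fin 2) (Fin 2) K) with hνdef
  have hd : ν.det = 0 := by
    have := congrArg Matrix.det hν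
    rw [Matrix.det_pow, Matrix.det_zero] at this
    exact eq_zero_of_pow_eq_zero this
  have hd' : a * a + a * c * t + c * c = 0 := by
    rw [Matrix.det_fin_two, hνdef] at hd
    simp at hd
    linear_combination hd - a * a * hdet + a * c * ht
  have hsq : ν * ν = (a * t + 2 * c) • ν := by
    ext i j
    fin_cases i <;> fin_cases j <;> simp [hνdef, Matrix.mul_apply, ht]
    · linear_combination -(a * a) * hdet - hd' + (a * c) * ht
    · ring
    · ring
    · linear_combination -(a * a) * hdet - hd' + (a * c) * ht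
  have hpow : ∀ k, ν ^ (k + 1) = (a * t + 2 * c) ^ k • ν := fun k => by
    induction k with
    | zero => simp
    | succ k ih => rw [pow_succ, ih, Matrix.smul_mul, hsq, smul_smul, ← pow_succ]
  have hcase : a * t + 2 * c = 0 ∨ ν = 0 := by
    rcases m with - | m
    · rw [pow_zero] at hν; exact absurd hν one_ne_zero
    · rw [hpow] at hν
      exact (smul_eq_zero.1 hν).imp_left fun h => eq_zero_of_pow_eq_zero h
  rcases hcase with h | h
  · have : a * a * (t ^ 2 - 4) = 0 := by linear_combination -4 * hd' + (a * t + 2 * c) * h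
    have ha : a = 0 := mul_self_eq_zero.1 ((mul_eq_zero.1 this).resolve_right (sub_ne_zero.2 htr))
    rw [ha, zero_mul, zero_add] at h
    exact ⟨ha, (mul_eq_zero.1 h).resolve_left h2⟩
  · have e1 := congrFun (congrFun h 0) 1
    simp [hνdef, h01] at e1
    have e0 := congrFun (congrFun h 0) 0
    simp [hνdef, e1] at e0
    exact ⟨e1, e0⟩

/-- A non-scalar element of `SL₂` of trace other than `±2` has order prime to the characteristic. -/
theorem orderOf_coprime {K : Type*} [Field K] {p : ℕ} [hp : Fact p.Prime] [CharP K p]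
    (W : Matrix.SpecialLinearGroup (Fin 2) K) (h01 : W.1 0 1 ≠ 0) (htr : W.1.trace ^ 2 ≠ 4)
    (h2 : (2 : K) ≠ 0) (hfin : IsOfFinOrder W) : Nat.Coprime p (orderOf W) := by
  rw [hp.out.coprime_iff_not_dvd]
  intro hdvd
  set n := orderOf W
  have hpow : ∀ k : ℕ, ∃ a c : K, W.1 ^ k = a • W.1 + c • 1 := fun k => by
    induction k with
    | zero => exact ⟨0, 1, by simp⟩
    | succ k ih =>
      obtain ⟨a, c, hk⟩ := ih
      refine ⟨a * W.1.trace + c, -a, ?_⟩
      have hd := W.2
      rw [Matrix.det_fin_two] at hd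
      rw [pow_succ, hk]
      ext i j
      fin_cases i <;> fin_cases j <;> simp [Matrix.mul_apply, Matrix.trace_fin_two]
      · linear_combination -a * hd
      · ring
      · ring
      · linear_combination -a * hd
  obtain ⟨a, c, hac⟩ := hpow (n / p)
  have hV : orderOf (W ^ (n / p)) = p := orderOf_pow_orderOf_div hfin.orderOf_pos.ne' hdvd
  have h1 : (W.1 ^ (n / p)) ^ p = 1 := by
    have := congrArg Subtype.val (pow_orderOf_eq_one (W ^ (n / p)))
    rw [hV] at this
    simpa using this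
  have hn : (a • W.1 + (c - 1) • (1 : Matrix (Fin 2) (Fin 2) K)) ^ p = 0 := by
    haveI : CharP (Matrix (Fin 2) (Fin 2) K) p := charP_of_injective_algebraMap
      (algebraMap K (Matrix (Fin 2) (Fin 2) K)).injective p
    rw [show a • W.1 + (c - 1) • (1 : Matrix (Fin 2) (Fin 2) K) = W.1 ^ (n / p) - 1 by rw [hac]; module,
      sub_pow_char_of_commute p (Commute.one_right _), h1, one_pow, sub_self]
  obtain ⟨ha, hc⟩ := span_nilpotent_eq_zero W.2 h01 htr h2 hn
  have : W ^ (n / p) = 1 := Subtype.ext (by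
    rw [Matrix.SpecialLinearGroup.coe_pow, hac, ha, sub_eq_zero.1 hc, zero_smul, zero_add, one_smul,
      Matrix.SpecialLinearGroup.coe_one])
  rw [this, orderOf_one] at hV
  exact hp.out.one_lt.ne hV

/-- An upper unitriangular element. -/
def upM {R : Type*} [CommRing R] (r : R) : Matrix.SpecialLinearGroup (Fin 2) R :=
  ⟨!![1, r; 0, 1], by simp [Matrix.det_fin_two]⟩

/-- A lower unitriangular element. -/
def loM {R : Type*} [CommRing R] (r : R) : Matrix.SpecialLinearGroup (Fin 2) R :=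
  ⟨!![1, 0; r, 1], by simp [Matrix.det_fin_two]⟩

variable {α β : Type} [Fintype α] [DecidableEq α] [Fintype β] [DecidableEq β] {F : Type*} [Field F]
variable {B : LinearMap.BilinForm F (α × β → F)} {b : LinearMap.BilinForm F (α → F)}
  {s : LinearMap.BilinForm F (β → F)} {M : Subgroup (GL (α × β) F)}

omit [DecidableEq α] [DecidableEq β] in
/-- A root of the minimal polynomial outside the roots of a polynomial with no nilpotent value. -/
theorem exists_eigen {C : Module.End F (β → F)} (q : F[X]) (hq : ¬ IsNilpotent (aeval C q)) :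
    ∃ lam : AlgebraicClosure F, aeval lam q ≠ 0 ∧ aeval lam (minpoly F C) = 0 := by
  classical
  have hm0 : minpoly F C ≠ 0 := minpoly.ne_zero (Algebra.IsIntegral.isIntegral C)
  by_contra hcon
  push Not at hcon
  have hall : ∀ f ∈ UniqueFactorizationMonoid.normalizedFactors (minpoly F C), f ∣ q := fun f hf => by
    have hirr := UniqueFactorizationMonoid.irreducible_of_normalized_factor f hf
    have hd := UniqueFactorizationMonoid.dvd_of_mem_normalizedFactors hf
    obtain ⟨lam, hlam⟩ := IsAlgClosed.exists_root (f.map (algebraMap F (AlgebraicClosure F)))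
      (by rw [degree_map]; exact (Polynomial.degree_pos_of_irreducible hirr).ne')
    rw [IsRoot, eval_map, ← aeval_def] at hlam
    by_cases h0 : aeval lam q = 0
    · exact ((minpoly.irreducible (Algebra.IsIntegral.isIntegral lam)).dvd_symm hirr
        (minpoly.dvd F lam hlam)).trans (minpoly.dvd F lam h0)
    · obtain ⟨r, hr⟩ := hd
      exact absurd (by rw [hr, map_mul, hlam, zero_mul]) (hcon lam h0)
  have hdvd : ∀ S : Multiset F[X], (∀ f ∈ S, f ∣ q) → S.prod ∣ q ^ Multiset.card S := fun S => by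
    induction S using Multiset.induction with
    | empty => simp
    | cons f S ih =>
      intro h
      rw [Multiset.prod_cons, Multiset.card_cons, pow_succ']
      exact mul_dvd_mul (h f (Multiset.mem_cons_self f S)) (ih fun g hg => h g (Multiset.mem_cons_of_mem hg))
  obtain ⟨r, hr⟩ := (UniqueFactorizationMonoid.prod_normalizedFactors hm0).symm.dvd.trans (hdvd _ hall)
  exact hq ⟨_, by rw [← map_pow, hr, map_mul, minpoly.aeval, zero_mul]⟩

variable [Fintype F] (hT : IsTS B b s) (hM : Over B M)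
include hT hM

/-- The contraction of a good element is not nilpotent. -/
theorem Good.not_nilpotent (h3 : 3 ≤ Fintype.card β) (hab : Fintype.card α ≠ 2 ∨ 5 ≤ Fintype.card β ∨ Odd (Fintype.card β) ∨ NoPlane s)
    (ho : OnlyScalar b M) {z : α → F} {g : GL (α × β) F} (hg : Good B b s M z g) :
    ¬ IsNilpotent (cc b g z z : Module.End F (β → F)) := by
  obtain ⟨hgM, hgX, hz, hsa, ⟨k₁, hk₁0, hk₁⟩, hst⟩ := hg
  set C : Module.End F (β → F) := cc b g z z with hC
  rintro ⟨k, hk⟩
  induction k with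
  | zero => exact hk₁0 (LinearMap.congr_fun hk k₁)
  | succ k ih =>
    rcases k with - | k
    · obtain ⟨f, hf⟩ := cc_ne hT hM h3 hab ho hgM hgX hz hz
      exact hf (LinearMap.congr_fun (show C = 0 by simpa using hk) f)
    refine ih (LinearMap.ext fun f => ?_)
    have := LinearMap.congr_fun hk f
    rw [pow_succ', pow_succ', Module.End.mul_apply, Module.End.mul_apply] at this
    rw [pow_succ', Module.End.mul_apply]
    exact hst _ this

/-- No good element exists unless the field and the eigenvalues are very small. -/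
theorem no_good (h3 : 3 ≤ Fintype.card β) (hab : Fintype.card α ≠ 2 ∨ 5 ≤ Fintype.card β ∨ Odd (Fintype.card β) ∨ NoPlane s) (ho : OnlyScalar b M)
    {z : α → F} {g : GL (α × β) F} (hg : Good B b s M z g)
    (h5 : (∃ e : F, e ≠ 0 ∧ e ≠ 1 ∧ e ≠ -1) ∨
      (3 : F) = 0 ∧ ¬ IsNilpotent ((cc b g z z : Module.End F (β → F)) ^ 5 - cc b g z z)) : False := by
  have hnn := hg.not_nilpotent hT hM h3 hab ho
  obtain ⟨hgM, hgX, hz, hsa, ⟨k₁, hk₁0, hk₁⟩, hst⟩ := hg
  obtain ⟨p, hp⟩ := CharP.exists F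
  haveI := hp
  haveI : Fact p.Prime := ⟨CharP.char_is_prime F p⟩
  set C : Module.End F (β → F) := cc b g z z with hC
  have hca : ∀ f, ca b g z z f = -C f := fun f => hT.eq_of_s fun f' => by
    rw [ca_spec hT hM hgM, hsa, map_neg]
  set Φ : Fin 2 → ((α × β → F) →ₗ[F] (β → F)) :=
    ![cu b z ∘ₗ Matrix.mulVecLin ((g⁻¹ : GL (α × β) F) : Matrix (α × β) (α × β) F), cu b z] with hΦ
  have hΦ0z : ∀ f, Φ 0 (ten z f) = -C f := fun f => hca f
  have hΦ1z : ∀ f, Φ 1 (ten z f) = 0 := fun f => by simp [hΦ, hT.balt z]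
  have hΦ0g : ∀ f, Φ 0 ((g : Matrix (α × β) (α × β) F) *ᵥ ten z f) = 0 := fun f => by
    simp [hΦ, hT.balt z]
  have hΦ1g : ∀ f, Φ 1 ((g : Matrix (α × β) (α × β) F) *ᵥ ten z f) = C f := fun f => rfl
  let Acts : GL (α × β) F → Matrix.SpecialLinearGroup (Fin 2) F[X] → Prop := fun h Mx =>
    ∀ v i, Φ i ((h : Matrix (α × β) (α × β) F) *ᵥ v) = ∑ j, aeval C (Mx.1 i j) (Φ j v)
  choose T hTm hTx using fun c => hT.exists_T z c
  let Y : F → GL (α × β) F := fun d => g * T d * g⁻¹
  have hYx : ∀ d v, (Y d : Matrix (α × β) (α × β) F) *ᵥ v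
      = v + d • ((g : Matrix (α × β) (α × β) F) *ᵥ ten z (Φ 0 v)) := fun d v => by
    simp only [Y, mul_mulVec, hTx, Matrix.mulVec_add, Matrix.mulVec_smul, mulVec_inv_mulVec]
    rfl
  have hTA : ∀ c, Acts (T c) (upM (-(Polynomial.C c * X))) := fun c v i => by
    fin_cases i
    · simp [hTx, upM, map_add, map_smul, hΦ0z, Fin.sum_univ_two]
      rfl
    · simp [hTx, upM, map_add, map_smul, hΦ1z, Fin.sum_univ_two]
  have hYA : ∀ d, Acts (Y d) (loM (Polynomial.C d * X)) := fun d v i => by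
    fin_cases i
    · simp [hYx, loM, map_add, map_smul, hΦ0g, Fin.sum_univ_two]
    · simp [hYx, loM, map_add, map_smul, hΦ1g, Fin.sum_univ_two, add_comm]
  set G : Subgroup (GL (α × β) F) := Subgroup.closure (Set.range T ∪ Set.range Y) with hG
  have hTG : ∀ c, T c ∈ G := fun c => Subgroup.subset_closure (Or.inl ⟨c, rfl⟩)
  have hYG : ∀ d, Y d ∈ G := fun d => Subgroup.subset_closure (Or.inr ⟨d, rfl⟩)
  have hGM : G ≤ M := (Subgroup.closure_le M).2 (by
    rintro _ (⟨c, rfl⟩ | ⟨c, rfl⟩)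
    · exact hM.le (hTm c)
    · exact M.mul_mem (M.mul_mem hgM (hM.le (hTm c))) (M.inv_mem hgM))
  have hAmul : ∀ {h h' Mx Mx'}, Acts h Mx → Acts h' Mx' → Acts (h * h') (Mx * Mx') := by
    intro h h' Mx Mx' hh hh' v i
    rw [mul_mulVec, hh, Matrix.SpecialLinearGroup.coe_mul]
    simp only [show ∀ v i, Φ i ((h' : Matrix (α × β) (α × β) F) *ᵥ v) = ∑ j, aeval C (Mx'.1 i j) (Φ j v) from hh',
      map_sum, Matrix.mul_apply, map_mul, LinearMap.sum_apply, Module.End.mul_apply]
    rw [Finset.sum_comm]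
  have hAinv : ∀ {h Mx}, Acts h Mx → Acts h⁻¹ Mx⁻¹ := by
    intro h Mx hh v i
    have key : ∀ w, ∑ j, aeval C ((Mx⁻¹).1 i j) (∑ l, aeval C (Mx.1 j l) (Φ l w)) = Φ i w := fun w => by
      simp only [map_sum, ← Module.End.mul_apply, ← map_mul]
      rw [Finset.sum_comm]
      simp only [← LinearMap.sum_apply, ← map_sum, ← Matrix.mul_apply]
      rw [← Matrix.SpecialLinearGroup.coe_mul, inv_mul_cancel, Matrix.SpecialLinearGroup.coe_one]
      fin_cases i <;> simp [Matrix.one_apply, Fin.sum_univ_two]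
    conv_rhs => enter [2, j, 2]; rw [← mulVec_inv_mulVec h v, hh]
    rw [key]
  have hGA : ∀ h ∈ G, ∃ Mx, Acts h Mx := fun h hh => by
    refine Subgroup.closure_induction (p := fun h _ => ∃ Mx, Acts h Mx) ?_ ?_ ?_ ?_ hh
    · rintro _ (⟨c, rfl⟩ | ⟨c, rfl⟩)
      exacts [⟨_, hTA c⟩, ⟨_, hYA c⟩]
    · exact ⟨1, fun v i => by fin_cases i <;> simp [Matrix.one_apply, Fin.sum_univ_two]⟩
    · rintro h h' - - ⟨Mx, h1⟩ ⟨Mx', h2⟩
      exact ⟨_, hAmul h1 h2⟩
    · rintro h - ⟨Mx, h1⟩
      exact ⟨_, hAinv h1⟩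
  -- a non-zero eigenvalue
  obtain ⟨lam, hlam0, hlam, hlam4⟩ : ∃ lam : AlgebraicClosure F, lam ≠ 0 ∧ aeval lam (minpoly F C) = 0 ∧
      ((∃ e : F, e ≠ 0 ∧ e ≠ 1 ∧ e ≠ -1) ∨ lam ^ 4 ≠ 16) := by
    rcases h5 with h5 | ⟨h30, h5⟩
    · obtain ⟨lam, h1, h2⟩ := exists_eigen (C := C) X (by rwa [aeval_X])
      exact ⟨lam, by simpa using h1, h2, Or.inl h5⟩
    · obtain ⟨lam, h1, h2⟩ := exists_eigen (C := C) (X ^ 5 - X) (by rwa [map_sub, map_pow, aeval_X])
      rw [map_sub, map_pow, aeval_X] at h1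
      refine ⟨lam, fun e => h1 (by rw [e]; ring), h2, Or.inr fun e => h1 ?_⟩
      have h30' : (3 : AlgebraicClosure F) = 0 := by
        rw [← map_ofNat (algebraMap F (AlgebraicClosure F)) 3, h30, map_zero]
      linear_combination lam * e + 5 * lam * h30'
  -- the representation of degree two
  have hev : ∀ r : F[X], (∀ f, aeval C r (C f) = 0) → aeval lam r = 0 := fun r hr => by
    have h : aeval C (r * X) = 0 := by rw [map_mul, aeval_X]; exact LinearMap.ext hr
    obtain ⟨t, ht⟩ := minpoly.dvd F C h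
    have := congrArg (aeval lam) ht
    rw [map_mul, map_mul, hlam, zero_mul, aeval_X] at this
    exact (mul_eq_zero.1 this).resolve_right hlam0
  have huniq : ∀ {h Mx Mx'}, Acts h Mx → Acts h Mx' → ∀ i j, aeval lam (Mx.1 i j) = aeval lam (Mx'.1 i j) := by
    intro h Mx Mx' hh hh' i j
    refine sub_eq_zero.1 ((map_sub _ _ _).symm.trans (hev _ fun f => ?_))
    rw [map_sub, LinearMap.sub_apply]
    fin_cases j
    · have := (hh (ten z f) i).symm.trans (hh' (ten z f) i)
      simp [Fin.sum_univ_two, hΦ0z, hΦ1z] at this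
      simp [this]
    · have := (hh ((g : Matrix (α × β) (α × β) F) *ᵥ ten z f) i).symm.trans
        (hh' ((g : Matrix (α × β) (α × β) F) *ᵥ ten z f) i)
      simp [Fin.sum_univ_two, hΦ0g, hΦ1g] at this
      simp [this]
  choose Mh hMh using fun h : G => hGA h.1 h.2
  let ev : F[X] →+* AlgebraicClosure F := (aeval lam).toRingHom
  have hev_eq : ∀ (h : G) {Mx}, Acts h.1 Mx →
      Matrix.SpecialLinearGroup.map ev (Mh h) = Matrix.SpecialLinearGroup.map ev Mx := fun h Mx hx => by
    ext i j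
    exact huniq (hMh h) hx i j
  let ρ : G →* Matrix.SpecialLinearGroup (Fin 2) (AlgebraicClosure F) :=
    MonoidHom.mk' (fun h => Matrix.SpecialLinearGroup.map ev (Mh h)) fun h h' => by
      rw [← map_mul]; exact hev_eq _ (hAmul (hMh h) (hMh h'))
  -- powers
  have hTT : ∀ c c', T c * T c' = T (c + c') := fun c c' => gl_ext_mulVec fun x => by
    rw [mul_mulVec, hTx, hTx, hTx, map_add, map_smul, cu_ten, hT.balt z, zero_smul, smul_zero, add_zero]
    module
  have hT0 : T 0 = 1 := gl_ext_mulVec fun x => by simp [hTx]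
  have hTpow : ∀ (n : ℕ) c, T c ^ n = T (n * c) := fun n c => by
    induction n with
    | zero => simp [hT0]
    | succ n ih => rw [pow_succ, ih, hTT]; congr 1; push_cast; ring
  have hTp : ∀ c, T c ^ p = 1 := fun c => by rw [hTpow, CharP.cast_eq_zero, zero_mul, hT0]
  have hYp : ∀ d, Y d ^ p = 1 := fun d => by simp only [Y, conj_pow, hTp, mul_one, mul_inv_cancel]
  have hab' : ∀ w : G, w ^ p ∈ commutator G := fun w => by
    rw [← Abelianization.ker_of, MonoidHom.mem_ker, map_pow]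
    obtain ⟨w, hw⟩ := w
    refine Subgroup.closure_induction (p := fun w hw => (Abelianization.of (⟨w, hw⟩ : G)) ^ p = 1) ?_ ?_ ?_ ?_ hw
    · rintro _ (⟨c, rfl⟩ | ⟨c, rfl⟩) <;> rw [← map_pow] <;>
        refine (congrArg _ (Subtype.ext ?_)).trans (map_one _)
      · exact hTp c
      · exact hYp c
    · exact (congrArg (fun a => a ^ p) (map_one Abelianization.of)).trans (one_pow p)
    · intro x y hx hy h1 h2
      rw [show (⟨x * y, Subgroup.mul_mem _ hx hy⟩ : G) = ⟨x, hx⟩ * ⟨y, hy⟩ from rfl, map_mul, mul_pow, h1, h2,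
        mul_one]
    · intro x hx h1
      rw [show (⟨x⁻¹, Subgroup.inv_mem _ hx⟩ : G) = (⟨x, hx⟩ : G)⁻¹ from rfl, map_inv, inv_pow, h1, inv_one]
  haveI : CharP (AlgebraicClosure F) p :=
    charP_of_injective_algebraMap (algebraMap F (AlgebraicClosure F)).injective p
  have h2K : (2 : AlgebraicClosure F) ≠ 0 := by
    rw [← map_ofNat (algebraMap F (AlgebraicClosure F)) 2]
    exact (_root_.map_ne_zero _).2 hT.two
  let φ := algebraMap F (AlgebraicClosure F)
  let mid : F → Prop := fun d => ρ ⟨Y d, hYG d⟩ ∈ (commutator G).map ρ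
  have hρT : ∀ c, (ρ ⟨T c, hTG c⟩).1 = !![1, -(φ c * lam); 0, 1] := fun c => by
    show (Matrix.SpecialLinearGroup.map ev (Mh _)).1 = _
    rw [hev_eq ⟨T c, hTG c⟩ (hTA c)]
    ext i j
    show ev ((upM (-(Polynomial.C c * X))).1 i j) = _
    fin_cases i <;> fin_cases j <;> simp [upM, ev, φ]
  have hρY : ∀ d, (ρ ⟨Y d, hYG d⟩).1 = !![1, 0; φ d * lam, 1] := fun d => by
    show (Matrix.SpecialLinearGroup.map ev (Mh _)).1 = _
    rw [hev_eq ⟨Y d, hYG d⟩ (hYA d)]
    ext i j
    show ev ((loM (Polynomial.C d * X)).1 i j) = _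
    fin_cases i <;> fin_cases j <;> simp [loM, ev, φ]
  have hprod : ∀ d : F, d ≠ 0 → φ d * lam ^ 2 ≠ 4 →
      ρ (⟨T 1, hTG 1⟩ * ⟨Y d, hYG d⟩) ∈ (commutator G).map ρ := by
    intro d hd hd4
    set w : G := ⟨T 1, hTG 1⟩ * ⟨Y d, hYG d⟩
    have hw : (ρ w).1 = !![1 - φ d * lam ^ 2, -lam; φ d * lam, 1] := by
      rw [map_mul, Matrix.SpecialLinearGroup.coe_mul, hρT, hρY]
      ext i j; fin_cases i <;> fin_cases j <;> simp [Matrix.mul_apply, φ]
      ring
    have hcop : Nat.Coprime p (orderOf (ρ w)) := orderOf_coprime (ρ w) (by rw [hw]; simpa using hlam0)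
      (by
        rw [hw, Matrix.trace_fin_two]
        simp
        intro e
        have : (φ d * lam ^ 2) * (φ d * lam ^ 2 - 4) = 0 := by linear_combination e
        rcases mul_eq_zero.1 this with h | h
        · exact (mul_ne_zero ((map_ne_zero φ).2 hd) (pow_ne_zero 2 hlam0)) h
        · exact hd4 (sub_eq_zero.1 h))
      h2K (ρ.isOfFinOrder (isOfFinOrder_of_finite w))
    obtain ⟨m, hm⟩ := exists_pow_eq_self_of_coprime hcop
    rw [← hm, ← map_pow, ← map_pow]
    exact Subgroup.mem_map_of_mem ρ (pow_mem (hab' w) m)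
  have hn1 : (1 : F) ≠ -1 := fun h => hT.two (by linear_combination h)
  obtain ⟨d, d', hd, hd', hdd, h4, h4'⟩ : ∃ d d' : F, d ≠ 0 ∧ d' ≠ 0 ∧ d ≠ d' ∧
      φ d * lam ^ 2 ≠ 4 ∧ φ d' * lam ^ 2 ≠ 4 := by
    have one : ∀ d d' : F, φ d * lam ^ 2 = 4 → φ d' * lam ^ 2 = 4 → d = d' := fun d d' h h' =>
      φ.injective (mul_right_cancel₀ (pow_ne_zero 2 hlam0) (h.trans h'.symm))
    have n0 : (-1 : F) ≠ 0 := neg_ne_zero.2 one_ne_zero
    rcases hlam4 with ⟨e, he0, he1, he2⟩ | h16
    swap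
    · refine ⟨1, -1, one_ne_zero, n0, hn1, fun h => h16 ?_, fun h => h16 ?_⟩
      · rw [map_one, one_mul] at h; linear_combination (lam ^ 2 + 4) * h
      · rw [map_neg, map_one, neg_one_mul] at h; linear_combination (-lam ^ 2 + 4) * -1 * h * -1
    by_cases ha : φ 1 * lam ^ 2 = 4
    · exact ⟨-1, e, n0, he0, he2.symm, fun h => hn1 (one _ _ ha h), fun h => he1 (one _ _ h ha)⟩
    by_cases hb : φ (-1) * lam ^ 2 = 4
    · exact ⟨1, e, one_ne_zero, he0, he1.symm, ha, fun h => he2 (one _ _ h hb)⟩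
    exact ⟨1, -1, one_ne_zero, n0, hn1, ha, hb⟩
  have hpdvd : p ∣ Nat.card (commutator G) := by
    have h1 := Subgroup.mul_mem _ (Subgroup.inv_mem _ (hprod d hd h4)) (hprod d' hd' h4')
    rw [← map_inv, ← map_mul] at h1
    obtain ⟨n, hn, hne⟩ := Subgroup.mem_map.1 h1
    set y : G := ⟨Y d, hYG d⟩⁻¹ * ⟨Y d', hYG d'⟩
    rw [show (⟨T 1, hTG 1⟩ * ⟨Y d, hYG d⟩)⁻¹ * (⟨T 1, hTG 1⟩ * ⟨Y d', hYG d'⟩) = y by rw [_root_.mul_inv_rev, mul_assoc, inv_mul_cancel_left]] at hne
    have hyY : y = ⟨Y (d' - d), hYG _⟩ := by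
      rw [inv_mul_eq_iff_eq_mul]
      refine Subtype.ext ?_
      show Y d' = Y d * Y (d' - d)
      simp only [Y]
      rw [show T d' = T d * T (d' - d) by rw [hTT, add_sub_cancel]]
      group
    rw [hyY] at hne
    have hp1 : (ρ ⟨Y (d' - d), hYG _⟩) ^ p = 1 := by
      rw [← map_pow, show (⟨Y (d' - d), hYG _⟩ : G) ^ p = 1 from Subtype.ext (hYp _), map_one]
    have hne1 : ρ ⟨Y (d' - d), hYG _⟩ ≠ 1 := fun h => by
      have e := congrFun (congrFun (congrArg Subtype.val h) 1) 0
      rw [hρY] at e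
      simp [hlam0, φ] at e
      exact hdd (φ.injective (sub_eq_zero.1 e)).symm
    have ho' := orderOf_eq_prime hp1 hne1
    rw [← hne] at ho'
    have hd1 : p ∣ orderOf n := ho' ▸ orderOf_map_dvd ρ n
    have hd2 : orderOf n ∣ Nat.card (commutator G) := by
      have := orderOf_dvd_natCard (⟨n, hn⟩ : commutator G)
      rwa [← Subgroup.orderOf_coe] at this
    exact hd1.trans hd2
  obtain ⟨h, hh, hhp, hhx⟩ := exists_centralised (commutator G) hpdvd (x := (⟨T 1, hTG 1⟩ : G))
    (Subtype.ext (hTp 1))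
  obtain ⟨h', hh'G⟩ := h
  rw [← Subgroup.orderOf_coe] at hhp
  have hcomm : h' * T 1 = T 1 * h' := congrArg Subtype.val hhx
  have hL : ∀ v, (h' : Matrix (α × β) (α × β) F) *ᵥ ten z (cu b z v)
      = ten z (cu b z ((h' : Matrix (α × β) (α × β) F) *ᵥ v)) := fun v => by
    have e := congrArg (fun (k : GL (α × β) F) => (k : Matrix (α × β) (α × β) F) *ᵥ v) hcomm
    simp only [mul_mulVec, hTx, one_smul, Matrix.mulVec_add] at e
    exact add_left_cancel e
  obtain ⟨y₁, hy₁⟩ := hT.exists_b_one hz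
  obtain ⟨⟨p₁, A₁, hpA⟩, hiso⟩ := line_mem hT hM h3 ho (hGM hh'G) hz hz fun f =>
    ⟨_, by have := hL (ten y₁ f); rwa [cu_ten, hy₁, one_smul] at this⟩
  obtain ⟨l, hl⟩ : ∃ l : α → F, l ⬝ᵥ z = 1 := exists_dot_one hz
  set e₁ := l ⬝ᵥ ((p₁ : Matrix α α F) *ᵥ z) with he₁
  have hpz : (p₁ : Matrix α α F) *ᵥ z = e₁ • z := by
    haveI : Nonempty β := Fintype.card_pos_iff.1 (by omega)
    obtain ⟨f, hf⟩ := exists_ne (0 : β → F)
    have h1 := hL (ten y₁ f)
    rw [cu_ten, hy₁, one_smul, hpA, kr_ten] at h1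
    have hAf : (A₁ : Matrix β β F) *ᵥ f ≠ 0 := fun h0 => hf (by
      simpa using congrArg (fun w => ((A₁⁻¹ : GL β F) : Matrix β β F) *ᵥ w) h0)
    obtain ⟨k, hk⟩ := hT.exists_s_one hAf
    have h2' := congrArg (cw s k) h1
    rw [cw_ten, cw_ten, hT.ssym, hk, one_smul] at h2'
    rw [he₁, h2', dotProduct_smul, hl, smul_eq_mul, mul_one]
  have he₁0 : e₁ ≠ 0 := fun h0 => hz (by
    rw [h0, zero_smul] at hpz
    simpa using congrArg (fun w => ((p₁⁻¹ : GL α F) : Matrix α α F) *ᵥ w) hpz)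
  set a : (α → F) →ₗ[F] (α → F) := e₁⁻¹ • Matrix.mulVecLin (p₁ : Matrix α α F) with ha
  set A : (β → F) →ₗ[F] (β → F) := e₁ • Matrix.mulVecLin (A₁ : Matrix β β F) with hA
  have hh' : ∀ u f, (h' : Matrix (α × β) (α × β) F) *ᵥ ten u f = ten (a u) (A f) := fun u f => by
    rw [hpA, kr_ten]
    simp [ha, hA, ten_smul_left, ten_smul_right, smul_smul, inv_mul_cancel₀ he₁0, mul_inv_cancel₀ he₁0]
  have haz : a z = z := by simp [ha, hpz, smul_smul, inv_mul_cancel₀ he₁0]
  have hcu : ∀ v, cu b z ((h' : Matrix (α × β) (α × β) F) *ᵥ v) = A (cu b z v) := fun v => by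
    have e := hL v
    rw [hh', haz] at e
    have := congrArg (cu b y₁) e
    simpa [hT.b_swap z y₁, hy₁] using this.symm
  have hAiso : ∀ f f', s (A f) (A f') = s f f' := fun f f' => by
    have e := hiso (ten z f) (ten y₁ f')
    rw [hh', hh', haz, hT.pol, hT.pol, hy₁, one_mul] at e
    have h1 := hcu (ten y₁ f')
    rw [hh', cu_ten, cu_ten, hy₁, one_smul] at h1
    have hz1 : b z (a y₁) = 1 := by
      haveI : Nonempty β := Fintype.card_pos_iff.1 (by omega)
      obtain ⟨f, hf⟩ := exists_ne (0 : β → F)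
      have h1 := hcu (ten y₁ f)
      rw [hh', cu_ten, cu_ten, hy₁, one_smul] at h1
      have hAf : A f ≠ 0 := fun h0 => hf (by
        simp [hA, he₁0] at h0
        simpa using congrArg (fun w => ((A₁⁻¹ : GL β F) : Matrix β β F) *ᵥ w) h0)
      obtain ⟨k, hk⟩ := hT.exists_s_one hAf
      simpa [hk, hT.ssym k] using congrArg (s k) h1
    rwa [hz1, one_mul] at e
  -- the kernel of the contraction is fixed
  let fixed : (α × β → F) → Prop := fun v => ∀ x : G, (x.1 : Matrix (α × β) (α × β) F) *ᵥ v = v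
  have hgen : ∀ w, (∀ c, (T c : Matrix (α × β) (α × β) F) *ᵥ w = w) →
      (∀ d, (Y d : Matrix (α × β) (α × β) F) *ᵥ w = w) → fixed w := fun w h1 h2 x => by
    refine Subgroup.closure_induction
      (p := fun (t : GL (α × β) F) _ => (t : Matrix (α × β) (α × β) F) *ᵥ w = w) ?_ ?_ ?_ ?_ x.2
    · rintro _ (⟨c, rfl⟩ | ⟨c, rfl⟩)
      exacts [h1 c, h2 c]
    · simp
    · intro x y _ _ e1 e2; rw [mul_mulVec, e2, e1]
    · intro x _ e1; conv_lhs => rw [← e1, inv_mulVec_mulVec]
  have hfixE : ∀ k, C k = 0 → fixed (ten z k) ∧ fixed ((g : Matrix (α × β) (α × β) F) *ᵥ ten z k) := fun k hk =>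
    ⟨hgen _ (fun c => by rw [hTx, cu_ten, hT.balt z, zero_smul, ten_zero_right, smul_zero, add_zero])
      (fun c => by rw [hYx, hΦ0z, hk, neg_zero, ten_zero_right, Matrix.mulVec_zero, smul_zero, add_zero]),
    hgen _ (fun c => by
      rw [hTx, show cu b z ((g : Matrix (α × β) (α × β) F) *ᵥ ten z k) = 0 from hk, ten_zero_right, smul_zero,
        add_zero])
      (fun c => by rw [hYx, hΦ0g, ten_zero_right, Matrix.mulVec_zero, smul_zero, add_zero])⟩
  have hfixv : ∀ v, C (Φ 0 v) = 0 → C (Φ 1 v) = 0 → (h' : Matrix (α × β) (α × β) F) *ᵥ v = v := by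
    intro v h0 h1
    have hd : ∀ x : GL (α × β) F, x ∈ G → fixed ((x : Matrix (α × β) (α × β) F) *ᵥ v - v) := by
      intro x hx
      refine Subgroup.closure_induction
        (p := fun (x : GL (α × β) F) _ => fixed ((x : Matrix (α × β) (α × β) F) *ᵥ v - v)) ?_ ?_ ?_ ?_ hx
      · rintro _ (⟨c, rfl⟩ | ⟨c, rfl⟩)
        · intro x
          rw [hTx, add_sub_cancel_left, Matrix.mulVec_smul]
          exact congrArg _ ((hfixE _ h1).1 x)
        · intro x
          rw [hYx, add_sub_cancel_left, Matrix.mulVec_smul]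
          exact congrArg _ ((hfixE _ h0).2 x)
      · intro x; simp
      · intro x y hx hy h1 h2 t
        have e : (x : Matrix (α × β) (α × β) F) *ᵥ ((y : Matrix (α × β) (α × β) F) *ᵥ v - v)
            = (y : Matrix (α × β) (α × β) F) *ᵥ v - v := h2 ⟨x, hx⟩
        rw [mul_mulVec, show (x : Matrix (α × β) (α × β) F) *ᵥ ((y : Matrix (α × β) (α × β) F) *ᵥ v) - v
          = ((x : Matrix (α × β) (α × β) F) *ᵥ v - v) + ((y : Matrix (α × β) (α × β) F) *ᵥ v - v) by
            rw [← e, Matrix.mulVec_sub]; abel, Matrix.mulVec_add, h1 t, h2 t]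
      · intro x hx h1 t
        have e : ((x⁻¹ : GL (α × β) F) : Matrix (α × β) (α × β) F) *ᵥ ((x : Matrix (α × β) (α × β) F) *ᵥ v - v)
            = (x : Matrix (α × β) (α × β) F) *ᵥ v - v := h1 ⟨x⁻¹, Subgroup.inv_mem _ hx⟩
        rw [show ((x⁻¹ : GL (α × β) F) : Matrix (α × β) (α × β) F) *ᵥ v - v
          = -((x : Matrix (α × β) (α × β) F) *ᵥ v - v) by
            rw [← e, Matrix.mulVec_sub, inv_mulVec_mulVec]; abel, Matrix.mulVec_neg, h1 t]
    let δ : G →* Multiplicative (α × β → F) := MonoidHom.mk'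
      (fun x => Multiplicative.ofAdd (((x : GL (α × β) F) : Matrix (α × β) (α × β) F) *ᵥ v - v)) fun x y => by
        rw [← ofAdd_add]
        congr 1
        rw [Subgroup.coe_mul, mul_mulVec]
        conv_rhs => enter [2]; rw [← hd y.1 y.2 x, Matrix.mulVec_sub]
        abel
    have := MonoidHom.mem_ker.1 (Abelianization.commutator_subset_ker δ hh)
    exact sub_eq_zero.1 (ofAdd_eq_one.1 this)
  have hAk : ∀ k, C k = 0 → A k = k := fun k hk => by
    have e := (hfixE k hk).1 ⟨h', hh'G⟩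
    simp only [hh', haz] at e
    simpa [hT.b_swap z y₁, hy₁] using congrArg (cu b y₁) e
  obtain ⟨Mx, hMx⟩ := hGA h' hh'G
  set m : Module.End F (β → F) := aeval C (Mx.1 1 1) with hm
  have hAC : ∀ f, A (C f) = m (C f) := fun f => by
    have e := hMx ((g : Matrix (α × β) (α × β) F) *ᵥ ten z f) 1
    rw [Fin.sum_univ_two, hΦ0g, map_zero, zero_add, hΦ1g] at e
    rw [← hm] at e
    rw [← e]
    exact (hcu _).symm
  have hmC : ∀ r : F[X], ∀ f, aeval C r (C f) = C (aeval C r f) := fun r f => by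
    rw [← Module.End.mul_apply, ← Module.End.mul_apply]
    congr 1
    conv_lhs => arg 2; rw [← aeval_X (R := F) C]
    conv_rhs => arg 1; rw [← aeval_X (R := F) C]
    rw [← map_mul, ← map_mul, mul_comm]
  set K := LinearMap.ker C with hK
  set R := LinearMap.range C with hR
  have hdisj : Disjoint K R := by
    rw [Submodule.disjoint_def]
    rintro x hx ⟨f, rfl⟩
    exact hst f (LinearMap.mem_ker.1 hx)
  have htop : K ⊔ R = ⊤ := Submodule.eq_top_of_disjoint K R (by
    rw [add_comm, LinearMap.finrank_range_add_finrank_ker]) hdisj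
  have hC2 : ∀ f, ∃ x, C (C x) = C f := fun f => by
    have hf : f ∈ K ⊔ R := by rw [htop]; trivial
    obtain ⟨k, hk, r, ⟨x, rfl⟩, rfl⟩ := Submodule.mem_sup.1 hf
    exact ⟨x, by rw [map_add, LinearMap.mem_ker.1 hk, zero_add]⟩
  -- the first factor is trivial
  have hau1 : ∀ u, b z u = 1 → a u = u := fun u hu => by
    obtain ⟨x, hx⟩ := hC2 (ca b g z u k₁)
    obtain ⟨e', he'⟩ := hC2 x
    set e := C e'
    have hCe : C (C e) = C (ca b g z u k₁) := by rw [he', hx]
    have hv := hfixv (ten u k₁ + ten z e) (by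
      rw [map_add, hΦ0z, map_add, map_neg, hCe]
      exact add_neg_cancel _) (by
      rw [map_add, hΦ1z, add_zero]
      simp [hΦ, hu, hk₁, ← hC])
    rw [Matrix.mulVec_add, hh', hh', haz, hAk k₁ hk₁, show A e = m e from hAC e'] at hv
    obtain ⟨w, hw⟩ : ∃ w, C w = m e - e := ⟨aeval C (Mx.1 1 1) e' - e', by rw [map_sub, ← hmC]⟩
    refine hT.eq_of_b fun q => ?_
    have := congrArg (cu b q) hv
    simp only [map_add, cu_ten] at this
    have h1 : (b q (a u) - b q u) • k₁ + b q z • (m e - e) = 0 := by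
      linear_combination (norm := module) this
    have h2 := congrArg C h1
    rw [map_add, map_smul, map_smul, hk₁, smul_zero, zero_add, map_zero, ← hw] at h2
    have hqw : b q z • C w = 0 := by
      rcases smul_eq_zero.1 h2 with h | h
      · rw [h, zero_smul]
      · rw [hst w h, smul_zero]
    rw [← hw, hqw, add_zero] at h1
    exact sub_eq_zero.1 ((smul_eq_zero.1 h1).resolve_right hk₁0)
  have ha1 : ∀ u, a u = u := fun u => by
    have h1 := hau1 (u + (1 - b z u) • y₁) (by simp [hy₁])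
    rw [map_add, map_smul, hau1 y₁ hy₁] at h1
    exact add_right_cancel h1
  -- the second factor is an involution
  have hsaC : ∀ r : F[X], ∀ f f', s (aeval C r f) f' = s f (aeval C r f') := by
    intro r
    induction r using Polynomial.induction_on with
    | C c => intro f f'; simp
    | add p q hp hq => intro f f'; simp [hp, hq]
    | monomial n c ih =>
      intro f f'
      rw [pow_succ, ← mul_assoc, map_mul, aeval_X, Module.End.mul_apply, ih, hC, hsa, ← hC, Module.End.mul_apply,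
        hmC]
  have hAA : ∀ f, A (A f) = f := fun f => by
    have hf : f ∈ K ⊔ R := by rw [htop]; trivial
    obtain ⟨k, hk, r, ⟨x, rfl⟩, rfl⟩ := Submodule.mem_sup.1 hf
    have hk' := LinearMap.mem_ker.1 hk
    have hmm : m (m (C x)) = C x := hT.eq_of_s fun w => by
      have hw : w ∈ K ⊔ R := by rw [htop]; trivial
      obtain ⟨k', hk'', r', ⟨x', rfl⟩, rfl⟩ := Submodule.mem_sup.1 hw
      have e0 : ∀ y, s k' (C y) = 0 := fun y => by
        rw [hC, ← hsa, show cc b g z z k' = 0 from LinearMap.mem_ker.1 hk'', map_zero, LinearMap.zero_apply]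
      rw [map_add, LinearMap.add_apply, LinearMap.add_apply, e0, hm, hmC, hmC, e0, zero_add, zero_add,
        ← hmC, ← hmC, ← hsaC, ← hm, ← hAC, ← hAC, hAiso]
    rw [map_add, hAk k hk', map_add, hAk k hk', hAC, hm, hmC, hAC, ← hmC, ← hm, hmm]
  have h2 : h' ^ 2 = 1 := by
    refine gl_ext_ten fun u f => ?_
    rw [pow_two, mul_mulVec, hh', hh', ha1, ha1, hAA, Units.val_one, Matrix.one_mulVec]
  have hdvd := orderOf_dvd_of_pow_eq_one h2
  rw [hhp] at hdvd
  have : p = 2 := (Nat.prime_dvd_prime_iff_eq Fact.out Nat.prime_two).1 hdvd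
  subst this
  exact hT.two (by exact_mod_cast CharP.cast_eq_zero F 2)

end CfsgLib.Geo.TensorSp
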