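/-
Overgroups of `Sp(U) ⊗ O(W)` with scalar root groups over the field with three elements, `dim U = 2`.
-/
import Cfsg.Agent.Geo.TensorSym.Pair

set_option autoImplicit false
set_option linter.unusedSectionVars false

namespace CfsgLib.Geo.TensorSp

open Matrix CfsgLib.Geo CfsgLib.Geo.Tensor CfsgLib.Geo.TensorO

variable {α β : Type} [Fintype α] [DecidableEq α] [Fintype β] [DecidableEq β] {F : Type*} [Field F] [Fintype F]
variable {B : LinearMap.BilinForm F (α × β → F)} {b : LinearMap.BilinForm F (α → F)}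
  {s : LinearMap.BilinForm F (β → F)} {M : Subgroup (GL (α × β) F)}

/-- The kernel of `π` meets the orthogonal of any two vectors. -/
def Big (s : LinearMap.BilinForm F (β → F)) (π : (β → F) →ₗ[F] (β → F)) : Prop :=
  ∀ a₁ a₂ : β → F, ∃ f, f ≠ 0 ∧ π f = 0 ∧ s a₁ f = 0 ∧ s a₂ f = 0

theorem sq_eq_one (hcard : Fintype.card F = 3) {x : F} (hx : x ≠ 0) : x * x = 1 := by
  have := FiniteField.pow_card_sub_one_eq_one x hx
  rw [hcard] at this
  rw [← pow_two]; exact this

theorem three_eq_zero (hcard : Fintype.card F = 3) : (3 : F) = 0 := by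
  have h : ((Fintype.card F : ℕ) : F) = 0 := FiniteField.cast_card_eq_zero F
  rw [hcard] at h
  exact_mod_cast h

/-- An element whose contraction is a projection. -/
structure IsPr (B : LinearMap.BilinForm F (α × β → F)) (b : LinearMap.BilinForm F (α → F))
    (s : LinearMap.BilinForm F (β → F)) (M : Subgroup (GL (α × β) F)) (z : α → F) (g : GL (α × β) F) : Prop where
  mem : g ∈ M
  notMem : g ∉ krs ⊓ iso B
  sa : ∀ f f', s (cc b g z z f) f' = s f (cc b g z z f')
  idem : ∀ f, cc b g z z (cc b g z z f) = cc b g z z f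
  sing : ∃ f, f ≠ 0 ∧ cc b g z z f = 0

variable (hT : IsTS B b s) (hM : Over B M)
include hT hM

theorem ca_eq_neg {g : GL (α × β) F} (hg : g ∈ M) {z : α → F}
    (hsa : ∀ f f', s (cc b g z z f) f' = s f (cc b g z z f')) (f : β → F) : ca b g z z f = -cc b g z z f :=
  hT.eq_of_s fun f' => by rw [ca_spec hT hM hg, hsa, map_neg]

section out

variable (h3 : 3 ≤ Fintype.card β) (hab : Fintype.card α ≠ 2 ∨ 5 ≤ Fintype.card β ∨ Odd (Fintype.card β) ∨ NoPlane s) (ho : OnlyScalar b M)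
include h3 hab ho

/-- Self-adjoint contractions of outer elements are not nilpotent. -/
theorem cc_pow_ne {z : α → F} (hz : z ≠ 0) : ∀ (k : ℕ) {g : GL (α × β) F}, g ∈ M → g ∉ krs ⊓ iso B →
    (∀ f f', s (cc b g z z f) f' = s f (cc b g z z f')) →
    (cc b g z z : Module.End F (β → F)) ^ (2 ^ k) ≠ 0 := by
  intro k
  induction k with
  | zero =>
    intro g hg hgX _ e
    obtain ⟨f, hf⟩ := cc_ne hT hM h3 hab ho hg hgX hz hz
    rw [pow_zero, pow_one] at e
    exact hf (LinearMap.congr_fun e f)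
  | succ k ih =>
    intro g hg hgX hsa e
    obtain ⟨g', hg', hgX', -, hcc, hsa'⟩ := exists_derived hT hM h3 hab ho hg hgX hz z (neg_ne_zero.2 one_ne_zero)
    have h2 : (cc b g' z z : Module.End F (β → F)) = (cc b g z z : Module.End F (β → F)) ^ 2 :=
      LinearMap.ext fun f => by
        rw [hcc, ca_eq_neg hT hM hg hsa, map_neg, neg_one_smul, neg_neg, pow_two, Module.End.mul_apply]
    refine ih hg' hgX' hsa' ?_
    rw [h2, ← pow_mul, ← pow_succ', e]

/-- A nilpotent singular contraction vanishes. -/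
theorem cc_eq_zero_of_nilpotent {z : α → F} (hz : z ≠ 0) {g : GL (α × β) F} (hg : g ∈ M)
    (hsa : ∀ f f', s (cc b g z z f) f' = s f (cc b g z z f'))
    (hsing : ∃ f, f ≠ 0 ∧ cc b g z z f = 0) {n : ℕ} (hn : (cc b g z z : Module.End F (β → F)) ^ n = 0) :
    cc b g z z = 0 := by
  by_cases hX : g ∈ krs ⊓ iso B
  · obtain ⟨⟨p, A, hpA⟩, -⟩ := hX
    have e : ∀ f, cc b g z z f = b z ((p : Matrix α α F) *ᵥ z) • ((A : Matrix β β F) *ᵥ f) := fun f => by
      rw [cc_apply, hpA, kr_ten, cu_ten]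
    obtain ⟨f, hf0, hf⟩ := hsing
    rw [e] at hf
    refine LinearMap.ext fun f' => ?_
    rcases smul_eq_zero.1 hf with h0 | h0
    · rw [e, h0, zero_smul, LinearMap.zero_apply]
    · exact absurd (by simpa using congrArg (fun w => ((A⁻¹ : GL β F) : Matrix β β F) *ᵥ w) h0) hf0
  · exact absurd (pow_eq_zero_of_le Nat.lt_two_pow_self.le hn) (cc_pow_ne hT hM h3 hab ho hz n hg hX hsa)

/-- Over three elements a good element gives a projection. -/
theorem exists_pr (hcard : Fintype.card F = 3) {z : α → F} {g : GL (α × β) F} (hg : Good B b s M z g) :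
    ∃ g', IsPr B b s M z g' := by
  have h30 := three_eq_zero hcard
  have hnil : IsNilpotent ((cc b g z z : Module.End F (β → F)) ^ 5 - cc b g z z) := by
    by_contra h
    exact no_good hT hM h3 hab ho hg (Or.inr ⟨h30, h⟩)
  obtain ⟨hgM, hgX, hz, hsa, ⟨k₁, hk0, hk₁⟩, -⟩ := hg
  set C : Module.End F (β → F) := cc b g z z with hC
  obtain ⟨g₂, hg₂, hgX₂, -, hcc₂, hsa₂⟩ := exists_derived hT hM h3 hab ho hgM hgX hz z (neg_ne_zero.2 one_ne_zero)
  have hD : ∀ f, cc b g₂ z z f = C (C f) := fun f => by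
    rw [hcc₂, ca_eq_neg hT hM hgM hsa, map_neg, neg_one_smul, neg_neg]
  set D : Module.End F (β → F) := cc b g₂ z z with hDdef
  obtain ⟨T, hT', hTx⟩ := hT.exists_T z 1
  obtain ⟨T', hT'', hTx'⟩ := hT.exists_T z (-1)
  set Y := g₂ * T * g₂⁻¹ with hY
  have hYM : Y ∈ M := M.mul_mem (M.mul_mem hg₂ (hM.le hT')) (M.inv_mem hg₂)
  have hYx : ∀ v, (Y : Matrix (α × β) (α × β) F) *ᵥ v = v + (g₂ : Matrix (α × β) (α × β) F) *ᵥ
      ten z (cu b z (((g₂⁻¹ : GL (α × β) F) : Matrix (α × β) (α × β) F) *ᵥ v)) := fun v => by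
    rw [hY, mul_mulVec, mul_mulVec, hTx, one_smul, Matrix.mulVec_add, mulVec_inv_mulVec]
  set h := Y * T' * Y with hh
  have hhM : h ∈ M := M.mul_mem (M.mul_mem hYM (hM.le hT'')) hYM
  have hPz : ∀ f, cu b z (((g₂⁻¹ : GL (α × β) F) : Matrix (α × β) (α × β) F) *ᵥ ten z f) = -D f :=
    fun f => ca_eq_neg hT hM hg₂ hsa₂ f
  have hPg : ∀ f, cu b z (((g₂⁻¹ : GL (α × β) F) : Matrix (α × β) (α × β) F) *ᵥ
      ((g₂ : Matrix (α × β) (α × β) F) *ᵥ ten z f)) = 0 := fun f => by
    rw [inv_mulVec_mulVec, cu_ten, hT.balt z, zero_smul]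
  have hcg : ∀ f, cu b z ((g₂ : Matrix (α × β) (α × β) F) *ᵥ ten z f) = D f := fun f => rfl
  have hch : ∀ f, cc b h z z f = D (D f) - D (D (D (D f))) := fun f => by
    rw [cc_apply, hh, mul_mulVec, mul_mulVec, hYx (ten z f), hTx', hYx]
    simp [Matrix.mulVec_add, hPz, hPg, hcg, hT.balt z, ten_neg_right, Matrix.mulVec_neg, map_neg,
      Matrix.mulVec_smul, ten_smul_right, -Matrix.coe_units_inv]
    linear_combination (norm := module) -(congrArg (fun c : F => c • D (D f)) h30)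
  have hsa' : ∀ f f', s (cc b h z z f) f' = s f (cc b h z z f') := fun f f' => by
    simp only [hch, map_sub, LinearMap.sub_apply, hsa₂]
  have hDk : D k₁ = 0 := by rw [hD, hC, hk₁, map_zero]
  have hh0 : cc b h z z = 0 := by
    obtain ⟨n, hn⟩ := hnil
    refine cc_eq_zero_of_nilpotent hT hM h3 hab ho hz hhM hsa' ⟨k₁, hk0, by simp [hch, hDk]⟩ (n := n) ?_
    have e : (cc b h z z : Module.End F (β → F)) = -C ^ 3 * (C ^ 5 - C) := LinearMap.ext fun f => by
      simp [hch, hD, pow_succ, Module.End.mul_apply, map_sub]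
      abel
    rw [e, (Commute.neg_left ((Commute.pow_pow_self C 3 5).sub_right (Commute.pow_self C 3))).mul_pow, hn, mul_zero]
  obtain ⟨g₃, hg₃, hgX₃, -, hcc₃, hsa₃⟩ := exists_derived hT hM h3 hab ho hg₂ hgX₂ hz z (neg_ne_zero.2 one_ne_zero)
  have hE : ∀ f, cc b g₃ z z f = D (D f) := fun f => by
    rw [hcc₃, ca_eq_neg hT hM hg₂ hsa₂, map_neg, neg_one_smul, neg_neg]
  refine ⟨g₃, hg₃, hgX₃, hsa₃, fun f => ?_, k₁, hk0, by rw [hE, hDk, map_zero]⟩
  have := LinearMap.congr_fun hh0 f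
  rw [hch, LinearMap.zero_apply, sub_eq_zero] at this
  rw [hE, hE, ← this]

variable (ha : Fintype.card α = 2) (hcard : Fintype.card F = 3)
include ha hcard

omit hM h3 hab ho hcard in
theorem decomp_two {z y : α → F} (hy : b z y = 1) (u : α → F) : u = b z u • y - b y u • z := by
  have hyz : b y z = -1 := by rw [hT.b_swap z y, hy]
  have hli : LinearIndependent F ![z, y] := by
    rw [LinearIndependent.pair_iff]
    intro c d hcd
    have e1 := congrArg (b z) hcd
    have e2 := congrArg (b y) hcd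
    simp [hT.balt z, hT.balt y, hy, hyz] at e1 e2
    exact ⟨e2, e1⟩
  have hsp := hli.span_eq_top_of_card_eq_finrank (by simp [ha])
  refine hT.eq_of_b fun q => ?_
  have hq : q ∈ Submodule.span F (Set.range ![z, y]) := by rw [hsp]; trivial
  obtain ⟨cf, rfl⟩ := (Submodule.mem_span_range_iff_exists_fun F).1 hq
  simp [Fin.sum_univ_two, hT.balt z, hT.balt y, hy, hyz]

omit hM h3 hab ho hcard in
theorem decomp_ten {z y : α → F} (hy : b z y = 1) (x : α × β → F) :
    x = ten y (cu b z x) + ten z (-cu b y x) := by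
  refine hT.ext fun q => ?_
  have e := decomp_two hT ha hy q
  rw [map_add, cu_ten, cu_ten]
  conv_lhs => rw [e, cu_sub hT, cu_smul, cu_smul]
  rw [hT.b_swap y q, hT.b_swap z q]
  module

/-- The normal form attached to a projection. -/
structure Nf (b : LinearMap.BilinForm F (α → F)) (s : LinearMap.BilinForm F (β → F))
    (z y : α → F) (g : GL (α × β) F) (π E : (β → F) →ₗ[F] (β → F)) : Prop where
  sa : ∀ f f', s (π f) f' = s f (π f')
  idem : ∀ f, π (π f) = π f
  form : ∀ f, (g : Matrix (α × β) (α × β) F) *ᵥ ten z f = ten y (π f) + ten z (E f)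
  ker : ∀ f, π f = 0 → E f = f
  range : ∀ f, π (E (π f)) = E (π f)
  symm : ∀ f f', s (E (π f)) (π f') = s (π f) (E (π f'))

theorem exists_nf {z : α → F} (hz : z ≠ 0) {y : α → F} (hy : b z y = 1) {g : GL (α × β) F}
    (hg : IsPr B b s M z g) :
    ∃ g' ∈ M, ∃ π E, g' ∉ krs ⊓ iso B ∧ Nf b s z y g' π E ∧ π = cc b g z z := by
  obtain ⟨g', hg', hgX', hform, hcc, -⟩ := exists_derived hT hM h3 hab ho hg.mem hg.notMem hz z
    (neg_ne_zero.2 (one_ne_zero (α := F)))
  set π := cc b g z z with hπ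
  have hca := ca_eq_neg hT hM hg.mem hg.sa
  have hform' : ∀ f, (g' : Matrix (α × β) (α × β) F) *ᵥ ten z f
      = ten z f + (g : Matrix (α × β) (α × β) F) *ᵥ ten z (π f) := fun f => by
    rw [hform, hca, ten_neg_right, Matrix.mulVec_neg, neg_one_smul, neg_neg]
  have hcc' : ∀ f, cu b z ((g' : Matrix (α × β) (α × β) F) *ᵥ ten z f) = π f := fun f => by
    rw [← cc_apply, hcc, hca, map_neg, neg_one_smul, neg_neg, hg.idem]
  set E : (β → F) →ₗ[F] (β → F) := -(cc b g' z y) with hE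
  have hfm : ∀ f, (g' : Matrix (α × β) (α × β) F) *ᵥ ten z f = ten y (π f) + ten z (E f) := fun f => by
    conv_lhs => rw [decomp_ten hT ha hy ((g' : Matrix (α × β) (α × β) F) *ᵥ ten z f), hcc']
    rfl
  have hk : ∀ f, π f = 0 → E f = f := fun f hf => by
    have e := hfm f
    rw [hform', hf, ten_zero_right, Matrix.mulVec_zero, add_zero, ten_zero_right, zero_add] at e
    simpa [hT.b_swap z y, hy] using (congrArg (cu b y) e).symm
  have hiso : ∀ f f', s (E f) (π f') = s (π f) (E f') := fun f f' => by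
    have e := hM.sub hg' (ten z f) (ten z f')
    rw [hfm, hfm, hT.pol, hT.balt z, zero_mul] at e
    simp [hT.pol, hT.balt z, hT.balt y, hy, hT.b_swap z y] at e
    linear_combination e
  have h2 := hT.two
  -- reflections in the kernel commute with the element
  have hrefl : ∀ k, π k = 0 → s k k ≠ 0 → ∀ f, π f = f → s k (E f) = 0 := by
    intro k hπk hk0 f hf
    obtain ⟨r, hr, hrx⟩ := hT.exists_refl hk0
    set g₁ := g'⁻¹ * r * g' with hg₁
    have hg₁M : g₁ ∈ M := M.mul_mem (M.mul_mem (M.inv_mem hg') (hM.le hr)) hg'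
    have hrf : ∀ f, (r : Matrix (α × β) (α × β) F) *ᵥ ((g' : Matrix (α × β) (α × β) F) *ᵥ ten z f)
        = (g' : Matrix (α × β) (α × β) F) *ᵥ ten z (f - (2 / s k k * s k (E f)) • k) := fun f => by
      rw [hrx, hfm, map_add, cw_ten, cw_ten, show s k (π f) = 0 by rw [← hg.sa, hπk, map_zero,
        LinearMap.zero_apply], zero_smul, zero_add, ten_smul_left, smul_smul, hfm, map_sub, map_smul, hπk,
        smul_zero, sub_zero, map_sub, map_smul, hk k hπk, ten_sub_right, ten_smul_right]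
      abel
    set A : (β → F) →ₗ[F] (β → F) := LinearMap.id - (2 / s k k) • ((s k) ∘ₗ E).smulRight k with hA
    have hAf : ∀ f, (g₁ : Matrix (α × β) (α × β) F) *ᵥ ten z f = ten z (A f) := fun f => by
      rw [hg₁, mul_mulVec, mul_mulVec, hrf, inv_mulVec_mulVec]
      simp [hA, smul_smul]
    obtain ⟨⟨p, A₁, hp⟩, hiso₁⟩ : g₁ ∈ krs ⊓ iso B := by
      by_contra hX
      obtain ⟨f, hf⟩ := cc_ne hT hM h3 hab ho hg₁M hX hz hz
      exact hf (by rw [cc_apply, hAf, cu_ten, hT.balt z, zero_smul])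
    -- the multiplier
    obtain ⟨d, hd⟩ : ∃ d : F, ∀ f f', s (A f) (A f') = d * s f f' := by
      obtain ⟨k', hk'⟩ := hT.exists_s_one (show k ≠ 0 from fun e => hk0 (by rw [e]; simp))
      set e₁ := s k' ((A₁ : Matrix β β F) *ᵥ k) with he₁
      have hp' : ∀ f, b ((p : Matrix α α F) *ᵥ z) y • ((A₁ : Matrix β β F) *ᵥ f) = A f := fun f => by
        have := congrArg (cu b y) (hAf f)
        rw [hp, kr_ten, cu_ten, cu_ten, hT.b_swap z y, hy, hT.b_swap _ y, neg_smul, neg_smul, one_smul] at this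
        exact neg_injective this
      have hiso' : ∀ f f', b ((p : Matrix α α F) *ᵥ z) ((p : Matrix α α F) *ᵥ y)
          * s ((A₁ : Matrix β β F) *ᵥ f) ((A₁ : Matrix β β F) *ᵥ f') = s f f' := fun f f' => by
        have e := hiso₁ (ten z f) (ten y f')
        rwa [hp, kr_ten, kr_ten, hT.pol, hT.pol, hy, one_mul] at e
      refine ⟨b ((p : Matrix α α F) *ᵥ z) y ^ 2 / b ((p : Matrix α α F) *ᵥ z) ((p : Matrix α α F) *ᵥ y), fun f f' => ?_⟩
      have hb0 : b ((p : Matrix α α F) *ᵥ z) ((p : Matrix α α F) *ᵥ y) ≠ 0 := fun e0 => by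
        have := hiso' k k
        rw [e0, zero_mul] at this
        exact hk0 this.symm
      rw [← hp', ← hp', map_smul, map_smul, LinearMap.smul_apply, smul_eq_mul, smul_eq_mul, ← hiso' f f']
      field_simp
    have hAk : A k = -k := by
      simp [hA, hk k hπk, smul_smul]
      rw [div_mul_cancel₀ _ hk0]
      module
    have hd1 : d = 1 := by
      have := hd k k
      rw [hAk, map_neg, map_neg, LinearMap.neg_apply, neg_neg] at this
      exact mul_right_cancel₀ hk0 (show d * s k k = 1 * s k k by linear_combination -this)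
    have hkf : s k f = 0 := by rw [← hf, ← hg.sa, hπk, map_zero, LinearMap.zero_apply]
    have := hd f f
    simp [hA, hd1, hkf, hT.ssym f k] at this
    field_simp at this
    have h4 : (s k (E f)) * (s k (E f)) = 0 := by
      have h22 : (2 : F) * 2 ≠ 0 := mul_ne_zero h2 h2
      rcases sq_eq_one hcard hk0 with h1
      grind
    exact mul_self_eq_zero.1 h4
  refine ⟨g', hg', π, E, hgX', ⟨hg.sa, hg.idem, hfm, hk, fun f => ?_, fun f f' => ?_⟩, rfl⟩
  · set q := E (π f) - π (E (π f)) with hq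
    have hπq : π q = 0 := by rw [hq, map_sub, hg.idem, sub_self]
    suffices q = 0 by exact (sub_eq_zero.1 this).symm
    have horth : ∀ k, π k = 0 → s k k ≠ 0 → s k q = 0 := fun k h1 h2 => by
      rw [hq, map_sub, hrefl k h1 h2 (π f) (hg.idem f), ← hg.sa, h1, map_zero, LinearMap.zero_apply, sub_zero]
    by_contra hq0
    obtain ⟨k, hk1⟩ := hT.exists_s_one hq0
    set k' := k - π k
    have hidm : ∀ f, π (π f) = π f := hg.idem
    have hsa' : ∀ f f', s (π f) f' = s f (π f') := hg.sa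
    have hk'π : π k' = 0 := by simp [k', hidm]
    have hk'q : s k' q = 1 := by
      simp [k', hsa' k q, hπq, hT.ssym k q, hk1]
    by_cases hk' : s k' k' = 0
    swap
    · exact one_ne_zero (hk'q.symm.trans (horth k' hk'π hk'))
    have hqq : s q q = 0 := by
      by_contra h; exact h (horth q hπq h)
    have hs : s (k' + q) (k' + q) = 2 := by simp [hk', hqq, hk'q, hT.ssym q k']; norm_num
    have := horth (k' + q) (by rw [map_add, hk'π, hπq, add_zero]) (by rw [hs]; exact h2)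
    simp [hk'q, hqq] at this
  · have := hiso (π f) (π f')
    rwa [hg.idem, hg.idem] at this

/-- A reflection mixing kernel and range. -/
theorem pair_step {z : α → F} (hz : z ≠ 0) {y : α → F} (hy : b z y = 1) {g : GL (α × β) F} (hg : g ∈ M)
    {π E : (β → F) →ₗ[F] (β → F)} (hn : Nf b s z y g π E) {k w : β → F}
    (hk : π k = 0) (hw : π w = w) (hk0 : k ≠ 0) (hw0 : w ≠ 0) (hv : s (k + w) (k + w) ≠ 0) :
    s w w * s (k + E w) (k + E w) - s w (k + E w) * s w (k + E w) ≠ 0 ∧
    ∃ g', IsPr B b s M z g' ∧ cc b g' z z w = w ∧ cc b g' z z (k + E w) = k + E w ∧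
      (5 ≤ Fintype.card β → Big s (cc b g' z z)) ∧
      ∀ f, ∃ x x' : F, cc b g' z z f = x • w + x' • (k + E w) := by
  set P := k + E w with hP
  obtain ⟨r, hr, hrx⟩ := hT.exists_refl hv
  set g₁ := g⁻¹ * r * g with hg₁
  have hg₁M : g₁ ∈ M := M.mul_mem (M.mul_mem (M.inv_mem hg) (hM.le hr)) hg
  have hEk : ∀ f, s k (E f) = s k f := fun f => by
    conv_lhs => rw [show f = (f - π f) + π f by abel, map_add, hn.ker _ (by rw [map_sub, hn.idem, sub_self]),
      ← hn.range, map_add, ← hn.sa k (E (π f)), hk, map_zero, LinearMap.zero_apply, add_zero, map_sub,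
      ← hn.sa k f, hk, map_zero, LinearMap.zero_apply, sub_zero]
  have hEw : ∀ f, s w (E f) = s (E w) f := fun f => by
    have e1 : s w (E (f - π f)) = 0 := by
      rw [hn.ker _ (by rw [map_sub, hn.idem, sub_self]), ← hw, hn.sa, map_sub, hn.idem, sub_self, map_zero]
    have e2 : s (E w) f = s (E w) (π f) := by
      rw [← hw, ← hn.sa, hn.range]
    rw [e2, show f = (f - π f) + π f by abel, map_add E, map_add (s w), e1, zero_add,
      show (f - π f) + π f = f by abel]
    have := hn.symm w f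
    rw [hw] at this
    exact this.symm
  have hξ : ∀ f, cw s (k + w) ((g : Matrix (α × β) (α × β) F) *ᵥ ten z f) = s w f • y + s P f • z := fun f => by
    rw [hn.form, map_add, cw_ten, cw_ten]
    congr 2
    · rw [map_add, LinearMap.add_apply, ← hn.sa, hk, map_zero, LinearMap.zero_apply, zero_add, ← hn.sa, hw]
    · rw [map_add, LinearMap.add_apply, hEk, hEw, hP, map_add, LinearMap.add_apply]
  set c0 := 2 / s (k + w) (k + w) with hc0
  have hc00 : c0 ≠ 0 := div_ne_zero hT.two hv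
  have hc1 : c0 * c0 = 1 := sq_eq_one hcard hc00
  have hC : ∀ f, cc b g₁ z z f = c0 • (s P f • w - s w f • P) := fun f => hT.eq_of_s fun f' => by
    rw [cc_apply, ← hT.ten_left, ← hM.sub hg, hg₁, mul_mulVec, mul_mulVec, mulVec_inv_mulVec, hrx, map_sub,
      hM.sub hg, hT.pol, hT.balt z, zero_mul, zero_sub, map_smul, hT.swap (ten (cw s (k + w) _) (k + w)),
      hT.ten_left', hξ, hξ]
    simp [hT.balt z, hT.balt y, hy, hT.b_swap z y, hT.ssym f' w, hT.ssym f' P]
    ring
  have hskew : ∀ f f', s (cc b g₁ z z f) f' = -s f (cc b g₁ z z f') := fun f f' => by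
    simp [hC, hT.ssym f w, hT.ssym f P]
    ring
  -- independence
  have hind : ∀ x x' : F, x • w + x' • P = 0 → x = 0 ∧ x' = 0 := fun x x' e => by
    have e' := congrArg (fun u => u - π u) e
    simp [hP, hk, hw, ← hn.range, hn.idem, map_add, map_smul] at e'
    have hEw' : π (E w) = E w := by rw [← hw]; exact hn.range w
    rw [hEw'] at e'
    have hx' : x' = 0 := (smul_eq_zero.1 (show x' • k = 0 by linear_combination (norm := module) e')).resolve_right hk0
    rw [hx', zero_smul, add_zero] at e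
    exact ⟨(smul_eq_zero.1 e).resolve_right hw0, hx'⟩
  have hw0' : w ≠ 0 := hw0
  obtain ⟨u₁, hu₁⟩ := hT.exists_s_one hw0
  have hne : cc b g₁ z z u₁ ≠ 0 := by
    rw [hC, hu₁, one_smul]
    intro e
    have := hind (s P u₁) (-1) (by linear_combination (norm := module) (smul_eq_zero.1 e).resolve_left hc00)
    exact one_ne_zero (neg_eq_zero.1 this.2)
  obtain ⟨f₀, hf₀, hf₀'⟩ := exists_ne_zero_ker ((s w).prod (s P)) (by simp; omega)
  have e1 : s w f₀ = 0 := congrArg Prod.fst hf₀'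
  have e2 : s P f₀ = 0 := congrArg Prod.snd hf₀'
  have hker : cc b g₁ z z f₀ = 0 := by simp [hC, e1, e2]
  have hg₁X : g₁ ∉ krs ⊓ iso B := fun hX => by
    obtain ⟨⟨p, A, hpA⟩, -⟩ := hX
    have e : ∀ f, cc b g₁ z z f = b z ((p : Matrix α α F) *ᵥ z) • ((A : Matrix β β F) *ᵥ f) := fun f => by
      rw [cc_apply, hpA, kr_ten, cu_ten]
    rw [e] at hker
    rcases smul_eq_zero.1 hker with h0 | h0
    · exact hne (by rw [e, h0, zero_smul])
    · exact hf₀ (by simpa using congrArg (fun w => ((A⁻¹ : GL β F) : Matrix β β F) *ᵥ w) h0)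
  set C := cc b g₁ z z with hCdef
  set G := s w w * s P P - s w P * s w P with hG
  have hCw : C w = c0 • (s w P • w - s w w • P) := by rw [hC, hT.ssym P w]
  have hCP : C P = c0 • (s P P • w - s w P • P) := hC P
  have hCCw : C (C w) = -G • w := by
    rw [hCw, map_smul, map_sub, map_smul, map_smul, hCw, hCP]
    match_scalars <;> first | grind | (rw [hG]; grind)
  have hCCP : C (C P) = -G • P := by
    rw [hCP, map_smul, map_sub, map_smul, map_smul, hCw, hCP]
    match_scalars <;> first | grind | (rw [hG]; grind)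
  have hca : ∀ f, ca b g₁ z z f = C f := fun f => hT.eq_of_s fun f' => by
    rw [ca_spec hT hM hg₁M, hskew, neg_neg]
  have hcc2 : ∀ c : F, c ≠ 0 → ∃ g' ∈ M, g' ∉ krs ⊓ iso B ∧ (∀ f, cc b g' z z f = c • C (C f)) ∧
      ∀ f f', s (cc b g' z z f) f' = s f (cc b g' z z f') := fun c hc => by
    obtain ⟨g', h1, h2, -, h3', h4⟩ := exists_derived hT hM h3 hab ho hg₁M hg₁X hz z hc
    exact ⟨g', h1, h2, fun f => by rw [h3', hca], h4⟩
  have hG0 : G ≠ 0 := fun hG0 => by
    obtain ⟨g', h1, h2, h3', h4⟩ := hcc2 1 one_ne_zero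
    refine cc_pow_ne hT hM h3 hab ho hz 1 h1 h2 h4 (LinearMap.ext fun f => ?_)
    rw [pow_one, pow_two, Module.End.mul_apply, h3', h3', one_smul, one_smul, hC f, map_smul, map_smul, map_sub,
      map_sub, map_smul, map_smul, map_smul, map_smul, map_smul, map_sub, map_smul, map_smul, hCCw, hCCP, hG0]
    simp
  obtain ⟨g', h1, h2, h3', h4⟩ := hcc2 (-G) (neg_ne_zero.2 hG0)
  have hG1 : G * G = 1 := sq_eq_one hcard hG0
  have hfw : cc b g' z z w = w := by rw [h3', hCCw, smul_smul, neg_mul_neg, hG1, one_smul]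
  have hfP : cc b g' z z P = P := by rw [h3', hCCP, smul_smul, neg_mul_neg, hG1, one_smul]
  have hspan : ∀ f, ∃ x x' : F, cc b g' z z f = x • w + x' • P := fun f =>
    ⟨-G * (c0 * s P (C f)), -(-G * (c0 * s w (C f))), by rw [h3', hC (C f)]; module⟩
  have hidem : ∀ f, cc b g' z z (cc b g' z z f) = cc b g' z z f := fun f => by
    obtain ⟨x, x', hx⟩ := hspan f
    rw [hx, map_add, map_smul, map_smul, hfw, hfP]
  refine ⟨hG0, g', ⟨h1, h2, h4, hidem, f₀, hf₀, by rw [h3', hker, map_zero, smul_zero]⟩, hfw, hfP,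
    fun h5 a₁ a₂ => ?_, hspan⟩
  obtain ⟨f, hf, hf'⟩ := exists_ne_zero_ker (((s w).prod (s P)).prod ((s a₁).prod (s a₂))) (by simp; omega)
  have d1 : s w f = 0 := congrArg (fun q => q.1.1) hf'
  have d2 : s P f = 0 := congrArg (fun q => q.1.2) hf'
  exact ⟨f, hf, by rw [h3', show C f = 0 by simp [hC, d1, d2], map_zero, smul_zero],
    congrArg (fun q => q.2.1) hf', congrArg (fun q => q.2.2) hf'⟩

omit hM h3 hab ho ha in
/-- Three orthogonal directions of the kernel represent every value. -/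
theorem represent {π : (β → F) →ₗ[F] (β → F)} (hsa : ∀ f f', s (π f) f' = s f (π f'))
    (hidem : ∀ f, π (π f) = π f) (hbig : Big s π) (t : F) : ∃ k, k ≠ 0 ∧ π k = 0 ∧ s k k = t := by
  have h30 := three_eq_zero hcard
  have aniso : ∀ a₁ a₂ : β → F, π a₁ = 0 → π a₂ = 0 → (a₁ = 0 ∨ s a₁ a₁ ≠ 0) → (a₂ = 0 ∨ s a₂ a₂ ≠ 0) →
      s a₁ a₂ = 0 → ∃ k, π k = 0 ∧ s a₁ k = 0 ∧ s a₂ k = 0 ∧ s k k ≠ 0 := by
    intro a₁ a₂ p1 p2 o1 o2 o12
    set P : (β → F) →ₗ[F] (β → F) := LinearMap.id - π - (s a₁ ∘ₗ (LinearMap.id - π)).smulRight ((s a₁ a₁)⁻¹ • a₁)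
      - (s a₂ ∘ₗ (LinearMap.id - π)).smulRight ((s a₂ a₂)⁻¹ • a₂) with hPdef
    have b1 : ∀ x, s a₁ (π x) = 0 := fun x => by rw [← hsa, p1, map_zero, LinearMap.zero_apply]
    have b2 : ∀ x, s a₂ (π x) = 0 := fun x => by rw [← hsa, p2, map_zero, LinearMap.zero_apply]
    have hP1 : ∀ f, s a₁ (P f) = 0 := fun f => by
      rcases o1 with h | h
      · simp [h]
      · simp [hPdef, b1, b2, o12, h]
    have hP2 : ∀ f, s a₂ (P f) = 0 := fun f => by
      rcases o2 with h | h
      · simp [h]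
      · simp [hPdef, b1, b2, hT.ssym a₂ a₁, o12, h]
    have hPπ : ∀ f, π (P f) = 0 := fun f => by simp [hPdef, hidem, p1, p2]
    obtain ⟨f₀, hf0, f1, f2, f3⟩ := hbig a₁ a₂
    have hPf : P f₀ = f₀ := by simp [hPdef, f1, f2, f3]
    have hP : ∀ f f', s (P f) f' = s (P f) (P f') := fun f f' => by
      rw [show P f' = f' - π f' - s a₁ (f' - π f') • (s a₁ a₁)⁻¹ • a₁ - s a₂ (f' - π f') • (s a₂ a₂)⁻¹ • a₂ from rfl]
      simp [hT.ssym (P f) a₁, hT.ssym (P f) a₂, hP1, hP2, show s (P f) (π f') = 0 by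
        rw [← hsa, hPπ, map_zero, LinearMap.zero_apply]]
    obtain ⟨f, hf⟩ := exists_aniso_in hT hP (f₀ := f₀) (by rw [hPf]; exact hf0)
    exact ⟨P f, hPπ f, hP1 f, hP2 f, hf⟩
  obtain ⟨x₁, a1, -, -, n1⟩ := aniso 0 0 (map_zero π) (map_zero π) (Or.inl rfl) (Or.inl rfl) (by simp)
  obtain ⟨x₂, a2, o12, -, n2⟩ := aniso x₁ 0 a1 (map_zero π) (Or.inr n1) (Or.inl rfl) (by simp)
  obtain ⟨x₃, a3, o13, o23, n3⟩ := aniso x₁ x₂ a1 a2 (Or.inr n1) (Or.inr n2) o12
  have nz : ∀ x : β → F, s x x ≠ 0 → x ≠ 0 := fun x h e => h (by rw [e]; simp)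
  have sum2 : ∀ x x' : β → F, s x x' = 0 → π x = 0 → π x' = 0 → s x x ≠ 0 →
      x + x' ≠ 0 ∧ π (x + x') = 0 ∧ s (x + x') (x + x') = s x x + s x' x' := fun x x' o p p' n => by
    refine ⟨fun e => n ?_, by rw [map_add, p, p', add_zero], by simp [o, hT.ssym x' x]⟩
    have := congrArg (s x) e
    simpa [o] using this
  have h01 : ∀ x : F, x = 0 ∨ x = 1 ∨ x = -1 := fun x => by
    rcases eq_or_ne x 0 with h | h
    · exact Or.inl h
    · exact Or.inr (mul_self_eq_one_iff.1 (sq_eq_one hcard h))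
  have hcases : ∀ x y : F, x ≠ 0 → y ≠ 0 → y = x ∨ y = -x := fun x y hx hy => by
    rcases (h01 x).resolve_left hx with rfl | rfl <;> rcases (h01 y).resolve_left hy with rfl | rfl <;> simp
  rcases eq_or_ne t 0 with rfl | ht
  · by_cases e12 : s x₂ x₂ = -s x₁ x₁
    · obtain ⟨q1, q2, q3⟩ := sum2 x₁ x₂ o12 a1 a2 n1
      exact ⟨_, q1, q2, by rw [q3, e12, add_neg_cancel]⟩
    have e2 := (hcases _ _ n1 n2).resolve_right e12
    by_cases e13 : s x₃ x₃ = -s x₁ x₁
    · obtain ⟨q1, q2, q3⟩ := sum2 x₁ x₃ o13 a1 a3 n1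
      exact ⟨_, q1, q2, by rw [q3, e13, add_neg_cancel]⟩
    have e3 := (hcases _ _ n1 n3).resolve_right e13
    obtain ⟨q1, q2, q3⟩ := sum2 x₁ (x₂ + x₃) (by simp [o12, o13]) a1 (by simp [a2, a3]) n1
    refine ⟨_, q1, q2, ?_⟩
    simp [q3, o12, o13, o23, hT.ssym x₃ x₂, hT.ssym x₂ x₁, hT.ssym x₃ x₁, e2, e3]
    linear_combination (s x₁ x₁) * h30
  · by_cases e1 : s x₁ x₁ = t
    · exact ⟨x₁, nz _ n1, a1, e1⟩
    by_cases e2 : s x₂ x₂ = t
    · exact ⟨x₂, nz _ n2, a2, e2⟩
    have f1 := (hcases t _ ht n1).resolve_left e1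
    have f2 := (hcases t _ ht n2).resolve_left e2
    obtain ⟨q1, q2, q3⟩ := sum2 x₁ x₂ o12 a1 a2 n1
    exact ⟨_, q1, q2, by rw [q3, f1, f2]; linear_combination -t * h30⟩

/-- No projection exists. -/
theorem no_pr (h5 : 5 ≤ Fintype.card β) {z : α → F} (hz : z ≠ 0) {g : GL (α × β) F} (hg : IsPr B b s M z g) :
    False := by
  obtain ⟨y, hy⟩ := hT.exists_b_one hz
  have h30 := three_eq_zero hcard
  have h2 := hT.two
  have sq : ∀ {x : F}, x ≠ 0 → x * x = 1 := fun hx => sq_eq_one hcard hx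
  -- a projection with kernel of dimension at least three
  obtain ⟨g₀, hg₀, hbig⟩ : ∃ g₀, IsPr B b s M z g₀ ∧ Big s (cc b g₀ z z) := by
    by_cases hbig : Big s (cc b g z z)
    · exact ⟨g, hg, hbig⟩
    obtain ⟨g', hg', π, E, hgX', hn, rfl⟩ := exists_nf hT hM h3 hab ho ha hcard hz hy hg
    obtain ⟨k₁, hk1, hk2⟩ := hg.sing
    set π := cc b g z z
    have hidm : ∀ f, π (π f) = π f := hn.idem
    have hsa' : ∀ f f', s (π f) f' = s f (π f') := hn.sa
    -- an anisotropic kernel vector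
    obtain ⟨k, hkπ, hk⟩ : ∃ k, π k = 0 ∧ s k k ≠ 0 := by
      obtain ⟨f, hf⟩ := exists_aniso_in hT (P := LinearMap.id - π) (fun f f' => by
        simp [hsa', hidm]) (f₀ := k₁) (by simpa [hk2] using hk1)
      exact ⟨f - π f, by rw [map_sub, hidm, sub_self], by simpa using hf⟩
    have hbig' : Big s (LinearMap.id - π) := by
      intro a₁ a₂
      by_contra hno
      apply hbig
      intro b₁ b₂
      by_contra hno'
      -- both kernels are at most two-dimensional
      obtain ⟨f, hf, hf'⟩ := exists_ne_zero_ker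
        ((((s a₁).prod (s a₂)) ∘ₗ π).prod (((s b₁).prod (s b₂)) ∘ₗ (LinearMap.id - π))) (by simp; omega)
      have c1 : s a₁ (π f) = 0 := congrArg (fun q => q.1.1) hf'
      have c2 : s a₂ (π f) = 0 := congrArg (fun q => q.1.2) hf'
      have c3 : s b₁ (f - π f) = 0 := congrArg (fun q => q.2.1) hf'
      have c4 : s b₂ (f - π f) = 0 := congrArg (fun q => q.2.2) hf'
      by_cases hπf : π f = 0
      · rw [hπf, sub_zero] at c3 c4
        exact hno' ⟨f, hf, hπf, c3, c4⟩
      · exact hno ⟨π f, hπf, by simp [hidm], c1, c2⟩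
    obtain ⟨w, hw0, hw1, hw2⟩ := represent hT hcard (π := LinearMap.id - π) (fun f f' => by
      simp [hsa']) (fun f => by simp [hidm]) hbig' (s k k)
    have hπw : π w = w := (sub_eq_zero.1 (by simpa using hw1)).symm
    have hkw : s k w = 0 := by rw [← hπw, ← hg.sa, hkπ, map_zero, LinearMap.zero_apply]
    obtain ⟨-, g₀, h1, -, -, h4, -⟩ := pair_step hT hM h3 hab ho ha hcard hz hy hg' hn hkπ hπw
      (fun e => hk (by rw [e]; simp)) hw0 (by
        simp [hkw, hT.ssym w k, hw2]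
        intro e
        exact hk ((mul_eq_zero.1 (show (2 : F) * s k k = 0 by linear_combination e)).resolve_left h2))
    exact ⟨g₀, h1, h4 h5⟩
  -- an anisotropic vector of the range either finishes or gives a hyperbolic range
  have fin : ∀ {g : GL (α × β) F}, IsPr B b s M z g → Big s (cc b g z z) → ∀ w, cc b g z z w = w → s w w ≠ 0 →
      ∃ g₁, IsPr B b s M z g₁ ∧ Big s (cc b g₁ z z) ∧ ∃ w x, cc b g₁ z z w = w ∧ cc b g₁ z z x = x ∧
        s w x = 0 ∧ s w w ≠ 0 ∧ s x x = -s w w ∧ ∀ f, ∃ a c : F, cc b g₁ z z f = a • w + c • x := by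
    intro g hg hbig w hw hQ
    obtain ⟨g', hg', π, E, hgX', hn, rfl⟩ := exists_nf hT hM h3 hab ho ha hcard hz hy hg
    set π := cc b g z z
    have hw0 : w ≠ 0 := fun e => hQ (by rw [e]; simp)
    set T := s w (E w) * s w (E w) * s w w - s (E w) (E w) with hTdef
    have hEwπ : π (E w) = E w := by rw [← hw]; exact hn.range w
    have key : ∀ k, π k = 0 → s w k = 0 ∧ s k (E w) = 0 ∧ s (k + w) (k + w) = s k k + s w w ∧
        s w w * s (k + E w) (k + E w) - s w (k + E w) * s w (k + E w) = s w w * (s k k - T) := fun k hk => by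
      have o1 : s k w = 0 := by rw [← hw, ← hn.sa, hk, map_zero, LinearMap.zero_apply]
      have o2 : s k (E w) = 0 := by rw [← hEwπ, ← hn.sa, hk, map_zero, LinearMap.zero_apply]
      have o3 : s w k = 0 := by rw [hT.ssym]; exact o1
      refine ⟨o3, o2, by simp [o1, o3], ?_⟩
      simp [o2, hT.ssym (E w) k, o3, hTdef]
      linear_combination (s w (E w) * s w (E w)) * sq hQ
    by_cases hfail : T = -s w w
    · obtain ⟨k, hk0, hkπ, hkQ⟩ := represent hT hcard hn.sa hn.idem hbig (s w w)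
      obtain ⟨o1, o2, o3, o4⟩ := key k hkπ
      obtain ⟨hG, g₁, h1, hfw, hfP, hb1, hspan⟩ := pair_step hT hM h3 hab ho ha hcard hz hy hg' hn hkπ hw hk0 hw0
        (by rw [o3, hkQ, ← two_mul]; exact mul_ne_zero h2 hQ)
      set P := k + E w
      have hGv : s w w * s P P - s w P * s w P = -1 := by
        rw [o4, hkQ, hfail]; linear_combination 2 * sq hQ + h30
      refine ⟨g₁, h1, hb1 h5, w, P - (s w w * s w P) • w, hfw, ?_, ?_, hQ, ?_, fun f => ?_⟩
      · rw [map_sub, map_smul, hfw, hfP]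
      · simp; linear_combination (-s w P) * sq hQ
      · simp [hT.ssym P w]
        linear_combination (s w w) * hGv + (-s P P + s w w * s w P * s w P) * sq hQ
      · obtain ⟨a, c, e⟩ := hspan f
        exact ⟨a + c * (s w w * s w P), c, by rw [e]; module⟩
    · obtain ⟨k, hk0, hkπ, hkQ⟩ := represent hT hcard hn.sa hn.idem hbig T
      obtain ⟨o1, o2, o3, o4⟩ := key k hkπ
      obtain ⟨hG, -⟩ := pair_step hT hM h3 hab ho ha hcard hz hy hg' hn hkπ hw hk0 hw0
        (by rw [o3, hkQ]; exact fun e => hfail (by linear_combination e))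
      exact absurd (by rw [o4, hkQ, sub_self, mul_zero]) hG
  obtain ⟨f, hf⟩ := cc_ne hT hM h3 hab ho hg₀.mem hg₀.notMem hz hz
  obtain ⟨v, hv⟩ := exists_aniso_in hT (P := cc b g₀ z z) (fun f f' => by
    rw [← hg₀.sa, hg₀.idem]) hf
  obtain ⟨g₁, hg₁, hbig₁, w, x, hw, hx, hwx, hQw, hQx, hspan⟩ := fin hg₀ hbig _ (hg₀.idem v) hv
  obtain ⟨g', hg', π, E, hgX', hn, rfl⟩ := exists_nf hT hM h3 hab ho ha hcard hz hy hg₁
  set π := cc b g₁ z z
  -- in a hyperbolic range a mixed reflection is nilpotent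
  set T := s w (E w) * s w (E w) * s w w - s (E w) (E w) with hTdef
  by_cases hfail : T = -s w w
  swap
  · have o : ∀ k, π k = 0 → s w k = 0 ∧ s k (E w) = 0 := fun k hk =>
      ⟨by rw [hT.ssym, ← hw, ← hn.sa, hk, map_zero, LinearMap.zero_apply],
        by rw [← hw, ← hn.range, ← hn.sa, hk, map_zero, LinearMap.zero_apply]⟩
    obtain ⟨k, hk0, hkπ, hkQ⟩ := represent hT hcard hn.sa hn.idem hbig₁ T
    obtain ⟨o1, o2⟩ := o k hkπ
    obtain ⟨hG, -⟩ := pair_step hT hM h3 hab ho ha hcard hz hy hg' hn hkπ hw hk0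
      (fun e => hQw (by rw [e]; simp)) (by
        simp [o1, hT.ssym k w, hkQ]; exact fun e => hfail (by linear_combination e))
    apply hG
    simp [o1, o2, hT.ssym (E w) k, hkQ, hTdef]
    linear_combination (s w (E w) * s w (E w)) * sq hQw
  have hEw : π (E w) = E w := by rw [← hw]; exact hn.range w
  obtain ⟨a, c, hac⟩ := hspan (E w)
  rw [hEw] at hac
  have e : c * c * s w w = -s w w := by
    rw [← hfail, hTdef, hac]
    simp [hwx, hT.ssym x w, hQx]
    linear_combination (-(a * a) * s w w) * sq hQw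
  have hc : c * c = -1 := mul_right_cancel₀ hQw (by linear_combination e)
  rcases eq_or_ne c 0 with rfl | hc0
  · exact one_ne_zero (α := F) (by linear_combination hc)
  · exact h2 (by linear_combination hc - sq hc0)

end out

end CfsgLib.Geo.TensorSp
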