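/-
`Sp(U) ⊗ O(W)` is maximal in `Sp(U ⊗ W)`, odd characteristic.
-/
import Cfsg.Agent.Geo.TensorSym.Three
import Mathlib.FieldTheory.Finite.Basic

set_option autoImplicit false
set_option linter.unusedSectionVars false

namespace CfsgLib.Geo.TensorSp

open Matrix CfsgLib.Geo CfsgLib.Geo.Tensor CfsgLib.Geo.TensorO

variable {α β : Type} [Fintype α] [DecidableEq α] [Fintype β] [DecidableEq β] {F : Type*} [Field F] [Fintype F]
variable {B : LinearMap.BilinForm F (α × β → F)} {b : LinearMap.BilinForm F (α → F)}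
  {s : LinearMap.BilinForm F (β → F)} {M : Subgroup (GL (α × β) F)}

variable (hT : IsTS B b s)
include hT

/-- A symmetric form in three variables over a finite field has a null vector. -/
theorem exists_null (h3 : 3 ≤ Fintype.card β) : ∃ ν : β → F, ν ≠ 0 ∧ s ν ν = 0 := by
  haveI : Nonempty β := Fintype.card_pos_iff.1 (by omega)
  obtain ⟨w, hw⟩ := exists_ne (0 : β → F)
  obtain ⟨x₁, h1⟩ := exists_aniso_in hT (P := LinearMap.id) (fun _ _ => rfl) (f₀ := w) hw
  change s x₁ x₁ ≠ 0 at h1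
  obtain ⟨x₂, n2, o2⟩ := exists_ne_zero_ker (s x₁) (by simp; omega)
  by_cases h2 : s x₂ x₂ = 0
  · exact ⟨x₂, n2, h2⟩
  obtain ⟨x₃, n3, o3⟩ := exists_ne_zero_ker ((s x₁).prod (s x₂)) (by simp; omega)
  have o13 : s x₁ x₃ = 0 := congrArg Prod.fst o3
  have o23 : s x₂ x₃ = 0 := congrArg Prod.snd o3
  by_cases h3' : s x₃ x₃ = 0
  · exact ⟨x₃, n3, h3'⟩
  have hodd : Fintype.card F % 2 = 1 := FiniteField.odd_card_of_char_ne_two fun e => by
    haveI : CharP F 2 := e ▸ ringChar.charP F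
    exact hT.two (CharP.ofNat_eq_zero F 2)
  obtain ⟨c, d, hcd⟩ := FiniteField.exists_root_sum_quadratic
    (f := Polynomial.C (s x₁ x₁) * Polynomial.X ^ 2 + Polynomial.C (s x₃ x₃))
    (g := Polynomial.C (s x₂ x₂) * Polynomial.X ^ 2)
    (Polynomial.degree_add_eq_left_of_degree_lt (by
      rw [Polynomial.degree_C_mul_X_pow 2 h1]
      exact lt_of_le_of_lt Polynomial.degree_C_le (by norm_num)) |>.trans (Polynomial.degree_C_mul_X_pow 2 h1))
    (Polynomial.degree_C_mul_X_pow 2 h2) hodd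
  simp at hcd
  refine ⟨x₃ + c • x₁ + d • x₂, fun e => h3' ?_, ?_⟩
  · have := congrArg (s x₃) e
    simpa [hT.ssym x₃ x₁, hT.ssym x₃ x₂, o13, o23] using this
  · simp [hT.ssym x₃ x₁, hT.ssym x₃ x₂, hT.ssym x₂ x₁, o13, o23, show s x₁ x₂ = 0 from o2]
    linear_combination hcd

/-- An overgroup is standard or has every transvection. -/
theorem full_or_le (hM : Over B M) (h3 : 3 ≤ Fintype.card β) (hab : Fintype.card α ≠ Fintype.card β)
    (hab₂ : Fintype.card α ≠ 2 ∨ 5 ≤ Fintype.card β ∨ Odd (Fintype.card β) ∨ NoPlane s)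
    (hq : (∃ e : F, e ≠ 0 ∧ e ≠ 1 ∧ e ≠ -1) ∨
      Fintype.card F = 3 ∧ Fintype.card α = 2 ∧ 5 ≤ Fintype.card β) :
    (∀ x, Full B M x) ∨ M ≤ krs ⊓ iso B := by
  have h4 : 4 ≤ Fintype.card β ∨ ∃ e : F, e ≠ 0 ∧ e ≠ 1 ∧ e ≠ -1 := by
    rcases hq with h | h
    · exact Or.inr h
    · exact Or.inl (by omega)
  rcases full_or_onlyScalar hT hM (exists_null hT h3) h3 h4 with h | ho
  · exact Or.inl h
  refine Or.inr fun g hg => ?_
  by_contra hgX
  by_cases hα : Nonempty α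
  swap
  · haveI : IsEmpty α := not_nonempty_iff.1 hα
    exact hgX (by
      have : g = 1 := gl_ext_mulVec fun x => Subsingleton.elim _ _
      rw [this]; exact one_mem _)
  obtain ⟨z, hz⟩ := exists_ne (0 : α → F)
  obtain ⟨u, g', hgood⟩ := exists_good hT hM h3 hab₂ ho hab hg hgX hz
  rcases hq with h5 | ⟨hF, ha, hβ⟩
  · exact no_good hT hM h3 hab₂ ho hgood (Or.inl h5)
  · obtain ⟨g'', hpr⟩ := exists_pr hT hM h3 hab₂ ho hF hgood
    exact no_pr hT hM h3 hab₂ ho ha hF hβ hgood.2.2.1 hpr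

/-- The stabiliser is a proper subgroup. -/
theorem iso_not_le {z : α → F} (hz : z ≠ 0) (h3 : 3 ≤ Fintype.card β) : ¬ iso B ≤ krs ⊓ iso B := by
  intro hle
  haveI : Nonempty β := Fintype.card_pos_iff.1 (by omega)
  obtain ⟨w, hw⟩ := exists_ne (0 : β → F)
  obtain ⟨f, hf⟩ := exists_aniso_in hT (P := LinearMap.id) (fun _ _ => rfl) (f₀ := w) hw
  change s f f ≠ 0 at hf
  obtain ⟨y, hy⟩ := hT.exists_b_one hz
  set v := ten z f with hv
  have self : B v v = 0 := by rw [hv, hT.pol, hT.balt z, zero_mul]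
  set t : (α × β → F) →ₗ[F] (α × β → F) := LinearMap.id + (B v).smulRight v with ht
  have hinj : Function.Injective t := (injective_iff_map_eq_zero t).2 fun x hx => by
    have h1 : B v x = 0 := by simpa [ht, self] using congrArg (B v) hx
    simpa [ht, h1] using hx
  obtain ⟨g, hg⟩ := exists_gl t hinj
  have hgi : g ∈ iso B := fun x x' => by
    rw [hg, hg]
    simp [ht, self, hT.swap v x]
    ring
  obtain ⟨⟨p, A, hpA⟩, -⟩ := hle hgi
  obtain ⟨x₂, n2, o2⟩ := exists_ne_zero_ker (s f) (by simp; omega)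
  have e1 := hg (ten y x₂)
  have e2 := hg (ten y f)
  rw [hpA, kr_ten] at e1 e2
  simp [ht, hv, hT.pol, hy, show s f x₂ = 0 from o2] at e1 e2
  rw [← ten_smul_left, ← ten_add_left] at e2
  have hA : (A : Matrix β β F) *ᵥ f ≠ 0 := fun h0 => hf (by
    have : f = 0 := by simpa using congrArg (fun w => ((A⁻¹ : GL β F) : Matrix β β F) *ᵥ w) h0
    rw [this]; simp)
  have hA₂ : (A : Matrix β β F) *ᵥ x₂ ≠ 0 := fun h0 => n2 (by
    simpa using congrArg (fun w => ((A⁻¹ : GL β F) : Matrix β β F) *ᵥ w) h0)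
  obtain ⟨k, hk⟩ := hT.exists_s_one hA
  obtain ⟨k₂, hk₂⟩ := hT.exists_s_one hA₂
  have d1 := congrArg (cw s k₂) e1
  have d2 := congrArg (cw s k) e2
  rw [cw_ten, cw_ten, hT.ssym k₂, hk₂, one_smul] at d1
  rw [cw_ten, cw_ten, hT.ssym k, hk, one_smul] at d2
  have d3 := congrArg (b y) (d1.symm.trans d2)
  simp [hT.balt y, hT.b_swap z y, hy] at d3
  rcases d3 with d3 | d3
  · rw [d3, zero_smul] at d2
    have hy0 : y = 0 := by simpa using congrArg (fun w => ((p⁻¹ : GL α F) : Matrix α α F) *ᵥ w) d2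
    simp [hy0] at hy
  · exact hf d3

end CfsgLib.Geo.TensorSp
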