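/-
Overgroups of `Sp(U) ⊗ O(W)`: elements trivial on the common kernel of two contractions.
-/
import Cfsg.Agent.Geo.TensorSym.Step

set_option autoImplicit false
set_option linter.unusedSectionVars false

namespace CfsgLib.Geo.TensorSp

open Matrix CfsgLib.Geo CfsgLib.Geo.Tensor CfsgLib.Geo.TensorO

variable {α β : Type} [Fintype α] [DecidableEq α] [Fintype β] [DecidableEq β] {F : Type*} [Field F]
variable {B : LinearMap.BilinForm F (α × β → F)} {b : LinearMap.BilinForm F (α → F)}
  {s : LinearMap.BilinForm F (β → F)} {M : Subgroup (GL (α × β) F)}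

variable (hT : IsTS B b s) (hM : Over B M)
include hT hM

/-- An isometry fixing the common kernel moves vectors inside the span of the two lines. -/
theorem moves {g : GL (α × β) F} (hg : g ∈ M) (z : α → F) {h : GL (α × β) F} (hh : h ∈ iso B)
    (hfix : ∀ v, cu b z (((g⁻¹ : GL (α × β) F) : Matrix (α × β) (α × β) F) *ᵥ v) = 0 → cu b z v = 0 →
      (h : Matrix (α × β) (α × β) F) *ᵥ v = v) (x : α × β → F) :
    ∃ m f', (h : Matrix (α × β) (α × β) F) *ᵥ x - x
      = ten z m + (g : Matrix (α × β) (α × β) F) *ᵥ ten z f' := by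
  set S : Submodule F (α × β → F) := LinearMap.range (tenL (F := F) (β := β) z) ⊔
    LinearMap.range (Matrix.mulVecLin (g : Matrix (α × β) (α × β) F) ∘ₗ tenL z) with hS
  by_contra hne
  have hx : (h : Matrix (α × β) (α × β) F) *ᵥ x - x ∉ S := fun hm => by
    obtain ⟨_, ⟨m, rfl⟩, _, ⟨f', rfl⟩, e⟩ := Submodule.mem_sup.1 hm
    exact hne ⟨m, f', e.symm⟩
  have hBn : B.Nondegenerate := ⟨fun v hv => hT.nondeg hv, fun v hv => hT.nondeg fun y => by
    rw [hT.swap y v, hv y, neg_zero]⟩
  obtain ⟨v, hv, hv1⟩ := exists_left_sep hBn S hx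
  have h1 : cu b z v = 0 := hT.eq_of_s fun f => by
    rw [← hT.ten_left, map_zero, hT.swap v]
    exact neg_eq_zero.2 (hv _ (Submodule.mem_sup_left ⟨f, rfl⟩))
  have h0 : cu b z (((g⁻¹ : GL (α × β) F) : Matrix (α × β) (α × β) F) *ᵥ v) = 0 := hT.eq_of_s fun f => by
    rw [← hT.ten_left, map_zero, ← hM.sub hg, mulVec_inv_mulVec, hT.swap v]
    exact neg_eq_zero.2 (hv _ (Submodule.mem_sup_right ⟨f, rfl⟩))
  rw [map_sub] at hv1
  conv_lhs at hv1 => enter [1, 1]; rw [← hfix v h0 h1]
  rw [hh, sub_self] at hv1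
  exact zero_ne_one hv1

variable (h3 : 3 ≤ Fintype.card β) (ha : 3 ≤ Fintype.card α) (ho : OnlyScalar b M)
include h3 ha ho

/-- A left factor trivial on the common kernel of a bijective pair is a transvection. -/
theorem left_shape {g : GL (α × β) F} (hg : g ∈ M) (hgX : g ∉ krs ⊓ iso B) {z : α → F} (hz : z ≠ 0)
    (hinj : ∀ f, cc b g z z f = 0 → f = 0) {h : GL (α × β) F} (hh : h ∈ iso B) {e : F} {a : (α → F) → (α → F)}
    (hha : ∀ u f, (h : Matrix (α × β) (α × β) F) *ᵥ ten u f = ten (a u) f) (haz : a z = e • z)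
    (hfix : ∀ v, cu b z (((g⁻¹ : GL (α × β) F) : Matrix (α × β) (α × β) F) *ᵥ v) = 0 → cu b z v = 0 →
      (h : Matrix (α × β) (α × β) F) *ᵥ v = v) :
    e = 1 ∧ ∃ c : F, ∀ x, (h : Matrix (α × β) (α × β) F) *ᵥ x = x + c • ten z (cu b z x) := by
  haveI : Nonempty β := Fintype.card_pos_iff.1 (by omega)
  obtain ⟨f₀, hf₀⟩ := exists_ne (0 : β → F)
  obtain ⟨k₀, hk₀⟩ := hT.exists_s_one hf₀
  have hline : ∀ u, ∃ d : F, a u = u + d • z := by
    intro u
    set u' := a u - u with hu'
    have hm : ∀ f, ∃ m f', ten u' f = ten z m + (g : Matrix (α × β) (α × β) F) *ᵥ ten z f' := fun f => by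
      obtain ⟨m, f', hmf⟩ := moves hT hM hg z hh hfix (ten u f)
      exact ⟨m, f', by rw [← hmf, hha, hu', ten_sub_left]⟩
    have hcu : ∀ {f m f'}, ten u' f = ten z m + (g : Matrix (α × β) (α × β) F) *ᵥ ten z f' →
        cc b g z z f' = b z u' • f := fun {f m f'} h => by
      have := congrArg (cu b z) h
      rw [map_add, cu_ten, cu_ten, hT.balt z, zero_smul, zero_add] at this
      exact this.symm
    by_cases hb : b z u' = 0
    · obtain ⟨m, f', h⟩ := hm f₀
      have hf' : f' = 0 := hinj _ (by rw [hcu h, hb, zero_smul])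
      rw [hf', ten_zero_right, Matrix.mulVec_zero, add_zero] at h
      have := congrArg (cw s k₀) h
      rw [cw_ten, cw_ten, hT.ssym k₀ f₀, hk₀, one_smul] at this
      exact ⟨s k₀ m, by rw [← this, hu']; abel⟩
    exfalso
    obtain ⟨w, hw0, hw⟩ := exists_ne_zero_ker ((b z).prod (b u')) (by simp; omega)
    have hw1 : b w z = 0 := alt_zero_swap hT.balt (congrArg Prod.fst hw)
    have hw2 : b w u' = 0 := alt_zero_swap hT.balt (congrArg Prod.snd hw)
    obtain ⟨f, hf⟩ := cc_ne hT hM h3 (Or.inl (by omega)) ho hg hgX hz hw0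
    apply hf
    obtain ⟨m, f', h⟩ := hm ((b z u')⁻¹ • cc b g z z f)
    have hff : f' = f := sub_eq_zero.1 (hinj _ (by
      rw [map_sub, hcu h, smul_smul, mul_inv_cancel₀ hb, one_smul, sub_self]))
    have := congrArg (cu b w) h
    rw [map_add, cu_ten, cu_ten, hw1, hw2, zero_smul, zero_smul, zero_add, hff] at this
    exact this.symm
  choose d hd using hline
  have hsymp : ∀ u v, b (a u) (a v) = b u v := fun u v => by
    have e0 := hh (ten u f₀) (ten v k₀)
    rwa [hha, hha, hT.pol, hT.pol, hk₀, mul_one, mul_one] at e0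
  obtain ⟨y, hy⟩ := hT.exists_b_one hz
  have he : e = 1 := by
    have := hsymp z y
    rw [haz, hd y] at this
    simpa [hT.balt z, hy] using this
  refine ⟨he, d y, fun x => ?_⟩
  have hdu : ∀ u, d u = d y * b z u := fun u => by
    have := hsymp u y
    rw [hd u, hd y] at this
    simp [hT.balt z, hy, hT.b_swap z u] at this
    linear_combination this
  have := Tensor.map_ext (S := Matrix.mulVecLin (h : Matrix (α × β) (α × β) F))
    (T := LinearMap.id + d y • (tenL z ∘ₗ cu b z)) fun u f => by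
      simp [hha, hd u, hdu u, ten_add_left, ten_smul_left, ten_smul_right, smul_smul]
  simpa using LinearMap.congr_fun this x

end CfsgLib.Geo.TensorSp
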