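/-
Overgroups of `Sp(U) ⊗ O(W)` with scalar root groups over three elements, `dim U ≥ 3`: no projection.
-/
import Cfsg.Agent.Geo.TensorSym.Shape
import Cfsg.Agent.Geo.TensorSym.Three

set_option autoImplicit false
set_option linter.unusedSectionVars false

namespace CfsgLib.Geo.TensorSp

open Matrix CfsgLib.Geo CfsgLib.Geo.Tensor CfsgLib.Geo.TensorO

variable {α β : Type} [Fintype α] [DecidableEq α] [Fintype β] [DecidableEq β] {F : Type*} [Field F] [Fintype F]
variable {B : LinearMap.BilinForm F (α × β → F)} {b : LinearMap.BilinForm F (α → F)}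
  {s : LinearMap.BilinForm F (β → F)} {M : Subgroup (GL (α × β) F)}

/-- A nilpotent endomorphism of a non-trivial space kills a non-zero vector. -/
theorem exists_ker_of_nilpotent [Nonempty β] {D : Module.End F (β → F)} {n : ℕ} (hn : D ^ n = 0) :
    ∃ f, f ≠ 0 ∧ D f = 0 := by
  obtain ⟨f, hf⟩ := exists_ne (0 : β → F)
  induction n with
  | zero => exact absurd (LinearMap.congr_fun hn f) (by simpa using hf)
  | succ n ih =>
    by_cases h : (D ^ n) = 0
    · exact ih h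
    obtain ⟨x, hx⟩ : ∃ x, (D ^ n) x ≠ 0 := by
      by_contra hc
      push Not at hc
      exact h (LinearMap.ext hc)
    exact ⟨_, hx, by rw [← Module.End.mul_apply, ← pow_succ', hn, LinearMap.zero_apply]⟩

variable (hT : IsTS B b s) (hM : Over B M)
include hT hM

variable (h3 : 3 ≤ Fintype.card β) (ha : 3 ≤ Fintype.card α) (ho : OnlyScalar b M) (hcard : Fintype.card F = 3)
include h3 ha ho hcard

/-- A self-adjoint contraction with eigenvalues `0, 1, 2` or fourth roots of unity gives an idempotent one. -/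
theorem exists_idem {z : α → F} {g : GL (α × β) F} (hgM : g ∈ M) (hgX : g ∉ krs ⊓ iso B) (hz : z ≠ 0)
    (hsa : ∀ f f', s (cc b g z z f) f' = s f (cc b g z z f'))
    (hnil : IsNilpotent ((cc b g z z : Module.End F (β → F)) ^ 5 - cc b g z z)) :
    ∃ g' ∈ M, g' ∉ krs ⊓ iso B ∧ (∀ f f', s (cc b g' z z f) f' = s f (cc b g' z z f')) ∧
      ∀ f, cc b g' z z (cc b g' z z f) = cc b g' z z f := by
  have hab : Fintype.card α ≠ 2 ∨ 5 ≤ Fintype.card β ∨ Odd (Fintype.card β) ∨ NoPlane s := Or.inl (by omega)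
  haveI : Nonempty β := Fintype.card_pos_iff.1 (by omega)
  have h30 := three_eq_zero hcard
  set C : Module.End F (β → F) := cc b g z z with hC
  obtain ⟨g₂, hg₂, hgX₂, -, hcc₂, hsa₂⟩ := exists_derived hT hM h3 hab ho hgM hgX hz z (neg_ne_zero.2 one_ne_zero)
  have hD : ∀ f, cc b g₂ z z f = C (C f) := fun f => by
    rw [hcc₂, ca_eq_neg hT hM hgM hsa, map_neg, neg_one_smul, neg_neg]
  set D : Module.End F (β → F) := cc b g₂ z z with hDdef
  obtain ⟨T, hT', hTx⟩ := hT.exists_T z 1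
  obtain ⟨T', hT'', hTx'⟩ := hT.exists_T z (-1)
  set Y := g₂ * T * g₂⁻¹ with hY
  have hYM : Y ∈ M := M.mul_mem (M.mul_mem hg₂ (hM.le hT')) (M.inv_mem hg₂)
  have hYx : ∀ v, (Y : Matrix (α × β) (α × β) F) *ᵥ v = v + (g₂ : Matrix (α × β) (α × β) F) *ᵥ
      ten z (cu b z (((g₂⁻¹ : GL (α × β) F) : Matrix (α × β) (α × β) F) *ᵥ v)) := fun v => by
    rw [hY, mul_mulVec, mul_mulVec, hTx, one_smul, Matrix.mulVec_add, mulVec_inv_mulVec]
  set h := Y * T' * Y with hh
  have hhM : h ∈ M := M.mul_mem (M.mul_mem hYM (hM.le hT'')) hYM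
  have hPz : ∀ f, cu b z (((g₂⁻¹ : GL (α × β) F) : Matrix (α × β) (α × β) F) *ᵥ ten z f) = -D f :=
    fun f => ca_eq_neg hT hM hg₂ hsa₂ f
  have hPg : ∀ f, cu b z (((g₂⁻¹ : GL (α × β) F) : Matrix (α × β) (α × β) F) *ᵥ
      ((g₂ : Matrix (α × β) (α × β) F) *ᵥ ten z f)) = 0 := fun f => by
    rw [inv_mulVec_mulVec, cu_ten, hT.balt z, zero_smul]
  have hcg : ∀ f, cu b z ((g₂ : Matrix (α × β) (α × β) F) *ᵥ ten z f) = D f := fun f => rfl
  have hch : ∀ f, cc b h z z f = D (D f) - D (D (D (D f))) := fun f => by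
    rw [cc_apply, hh, mul_mulVec, mul_mulVec, hYx (ten z f), hTx', hYx]
    simp [Matrix.mulVec_add, hPz, hPg, hcg, hT.balt z, ten_neg_right, Matrix.mulVec_neg, map_neg,
      Matrix.mulVec_smul, ten_smul_right, -Matrix.coe_units_inv]
    linear_combination (norm := module) -(congrArg (fun c : F => c • D (D f)) h30)
  have hsa' : ∀ f f', s (cc b h z z f) f' = s f (cc b h z z f') := fun f f' => by
    simp only [hch, map_sub, LinearMap.sub_apply, hsa₂]
  obtain ⟨n, hn⟩ := hnil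
  have hh0 : cc b h z z = 0 := by
    have e : (cc b h z z : Module.End F (β → F)) = -C ^ 3 * (C ^ 5 - C) := LinearMap.ext fun f => by
      simp [hch, hD, pow_succ, Module.End.mul_apply, map_sub]
      abel
    have hn' : (cc b h z z : Module.End F (β → F)) ^ n = 0 := by
      rw [e, (Commute.neg_left ((Commute.pow_pow_self C 3 5).sub_right (Commute.pow_self C 3))).mul_pow, hn,
        mul_zero]
    exact cc_eq_zero_of_nilpotent hT hM h3 hab ho hz hhM hsa' (exists_ker_of_nilpotent hn') hn'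
  obtain ⟨g₃, hg₃, hgX₃, -, hcc₃, hsa₃⟩ := exists_derived hT hM h3 hab ho hg₂ hgX₂ hz z (neg_ne_zero.2 one_ne_zero)
  have hE : ∀ f, cc b g₃ z z f = D (D f) := fun f => by
    rw [hcc₃, ca_eq_neg hT hM hg₂ hsa₂, map_neg, neg_one_smul, neg_neg]
  refine ⟨g₃, hg₃, hgX₃, hsa₃, fun f => ?_⟩
  have := LinearMap.congr_fun hh0 f
  rw [hch, LinearMap.zero_apply, sub_eq_zero] at this
  rw [hE, hE, ← this]

/-- No idempotent self-adjoint contraction. -/
theorem no_idem {z : α → F} {g₀ : GL (α × β) F} (hg₀ : g₀ ∈ M) (hgX₀ : g₀ ∉ krs ⊓ iso B) (hz : z ≠ 0)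
    (hsa₀ : ∀ f f', s (cc b g₀ z z f) f' = s f (cc b g₀ z z f'))
    (hidem₀ : ∀ f, cc b g₀ z z (cc b g₀ z z f) = cc b g₀ z z f) : False := by
  have hab : Fintype.card α ≠ 2 ∨ 5 ≤ Fintype.card β ∨ Odd (Fintype.card β) ∨ NoPlane s := Or.inl (by omega)
  haveI : Nonempty β := Fintype.card_pos_iff.1 (by omega)
  have h30 := three_eq_zero hcard
  obtain ⟨g, hg, hgX, hgz, hcc, hsa⟩ :=
    exists_derived hT hM h3 hab ho hg₀ hgX₀ hz z (neg_ne_zero.2 one_ne_zero)
  set π := cc b g z z with hπ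
  have hπ₀ : ∀ f, π f = cc b g₀ z z f := fun f => by
    rw [hcc, ca_eq_neg hT hM hg₀ hsa₀, map_neg, neg_one_smul, neg_neg, hidem₀]
  have hidem : ∀ f, π (π f) = π f := fun f => by rw [hπ₀, hπ₀, hidem₀]
  have hgk : ∀ f, π f = 0 → (g : Matrix (α × β) (α × β) F) *ᵥ ten z f = ten z f := fun f hf => by
    rw [hgz, ca_eq_neg hT hM hg₀ hsa₀, ← hπ₀, hf, neg_zero, ten_zero_right, Matrix.mulVec_zero, smul_zero,
      add_zero]
  obtain ⟨T, hT', hTx⟩ := hT.exists_T z 1
  obtain ⟨T', hT'', hTx'⟩ := hT.exists_T z (-1)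
  set Y := g * T * g⁻¹ with hY
  have hYx : ∀ v, (Y : Matrix (α × β) (α × β) F) *ᵥ v = v + (g : Matrix (α × β) (α × β) F) *ᵥ
      ten z (cu b z (((g⁻¹ : GL (α × β) F) : Matrix (α × β) (α × β) F) *ᵥ v)) := fun v => by
    rw [hY, mul_mulVec, mul_mulVec, hTx, one_smul, Matrix.mulVec_add, mulVec_inv_mulVec]
  have hYM : Y ∈ M := M.mul_mem (M.mul_mem hg (hM.le hT')) (M.inv_mem hg)
  set h := Y * T' * Y with hh
  have hhM : h ∈ M := M.mul_mem (M.mul_mem hYM (hM.le hT'')) hYM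
  have hfix : ∀ v, cu b z (((g⁻¹ : GL (α × β) F) : Matrix (α × β) (α × β) F) *ᵥ v) = 0 → cu b z v = 0 →
      (h : Matrix (α × β) (α × β) F) *ᵥ v = v := fun v h0 h1 => by
    have hY1 : (Y : Matrix (α × β) (α × β) F) *ᵥ v = v := by
      rw [hYx, h0, ten_zero_right, Matrix.mulVec_zero, add_zero]
    rw [hh, mul_mulVec, mul_mulVec, hY1, hTx', h1, ten_zero_right, smul_zero, add_zero, hY1]
  have hPz : ∀ f, cu b z (((g⁻¹ : GL (α × β) F) : Matrix (α × β) (α × β) F) *ᵥ ten z f) = -π f :=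
    fun f => ca_eq_neg hT hM hg hsa f
  have hPg : ∀ f, cu b z (((g⁻¹ : GL (α × β) F) : Matrix (α × β) (α × β) F) *ᵥ
      ((g : Matrix (α × β) (α × β) F) *ᵥ ten z f)) = 0 := fun f => by
    rw [inv_mulVec_mulVec, cu_ten, hT.balt z, zero_smul]
  have hcg : ∀ f, cu b z ((g : Matrix (α × β) (α × β) F) *ᵥ ten z f) = π f := fun f => rfl
  have hhz : ∀ f, (h : Matrix (α × β) (α × β) F) *ᵥ ten z f = ten z (f + π f) := fun f => by
    rw [hh, mul_mulVec, mul_mulVec, hYx (ten z f), hTx', hYx]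
    simp [Matrix.mulVec_add, hPz, hPg, hcg, hT.balt z, ten_neg_right, Matrix.mulVec_neg, map_neg,
      Matrix.mulVec_smul, ten_smul_right, ten_add_right, hidem, -Matrix.coe_units_inv]
    linear_combination (norm := module)
      -(congrArg (fun c : F => c • ((g : Matrix (α × β) (α × β) F) *ᵥ ten z (π f))) h30)
  obtain ⟨⟨p₁, A₁, hpA⟩, hiso⟩ := line_mem hT hM h3 ho hhM hz hz fun f => ⟨_, hhz f⟩
  obtain ⟨f₁, hf₁⟩ := exists_ne (0 : β → F)
  obtain ⟨y, hy⟩ := hT.exists_b_one hz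
  have hyz : b y z = -1 := by rw [hT.b_swap z y, hy]
  obtain ⟨l, hl⟩ : ∃ l : α → F, l ⬝ᵥ z = 1 := exists_dot_one hz
  set e₁ := l ⬝ᵥ ((p₁ : Matrix α α F) *ᵥ z) with he₁
  have hpz : (p₁ : Matrix α α F) *ᵥ z = e₁ • z := by
    have h1 := hhz f₁
    rw [hpA, kr_ten] at h1
    obtain ⟨k, hk⟩ := hT.exists_s_one (fun h0 : (A₁ : Matrix β β F) *ᵥ f₁ = 0 => hf₁ (by
      simpa using congrArg (fun w => ((A₁⁻¹ : GL β F) : Matrix β β F) *ᵥ w) h0))
    have h2' := congrArg (cw s k) h1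
    rw [cw_ten, cw_ten, hT.ssym, hk, one_smul] at h2'
    rw [he₁, h2', dotProduct_smul, hl, smul_eq_mul, mul_one]
  have he₁0 : e₁ ≠ 0 := fun h0 => hz (by
    rw [h0, zero_smul] at hpz
    simpa using congrArg (fun w => ((p₁⁻¹ : GL α F) : Matrix α α F) *ᵥ w) hpz)
  set a : (α → F) →ₗ[F] (α → F) := e₁⁻¹ • Matrix.mulVecLin (p₁ : Matrix α α F) with hadef
  have haz : a z = z := by simp [hadef, hpz, smul_smul, inv_mul_cancel₀ he₁0]
  have hha : ∀ u f, (h : Matrix (α × β) (α × β) F) *ᵥ ten u f = ten (a u) (f + π f) := fun u f => by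
    have e : ∀ u, (h : Matrix (α × β) (α × β) F) *ᵥ ten u f
        = ten (a u) (e₁ • ((A₁ : Matrix β β F) *ᵥ f)) := fun u => by
      rw [hpA, kr_ten]
      simp [hadef, ten_smul_left, ten_smul_right, smul_smul, inv_mul_cancel₀ he₁0, mul_inv_cancel₀ he₁0]
    have h1 := congrArg (cu b y) ((e z).symm.trans (hhz f))
    rw [haz, cu_ten, cu_ten, hyz] at h1
    rw [e, show e₁ • ((A₁ : Matrix β β F) *ᵥ f) = f + π f from smul_right_injective _ (neg_ne_zero.2 one_ne_zero) h1]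
  by_cases hk : ∃ k, k ≠ 0 ∧ π k = 0
  swap
  · -- `π = 1`
    push Not at hk
    have hone : ∀ f, π f = f := fun f => by
      by_contra hne
      exact hk _ (sub_ne_zero.2 hne) (by rw [map_sub, hidem, sub_self])
    have h2 : ∀ f : β → F, f + π f = (-1 : F) • f := fun f => by
      rw [hone]
      linear_combination (norm := module) congrArg (fun c : F => c • f) h30
    obtain ⟨e1, -⟩ := left_shape hT hM h3 ha ho hg hgX hz
      (fun f hf => by rwa [← hπ, hone] at hf) (hM.sub hhM) (a := fun u => (-1 : F) • a u)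
      (e := -1) (fun u f => by rw [hha, h2, ten_smul_right, ten_smul_left]) (by simp [haz]) hfix
    exact hT.two (by linear_combination -e1)
  obtain ⟨k, hk0, hk⟩ := hk
  obtain ⟨k', hk'⟩ := hT.exists_s_one hk0
  have inline : ∀ {u : α → F} {f m : β → F}, f ≠ 0 → ten u f = ten z m → ∃ d : F, u = d • z := by
    intro u f m hf h
    obtain ⟨q, hq⟩ := hT.exists_s_one hf
    have := congrArg (cw s q) h
    rw [cw_ten, cw_ten, hT.ssym q f, hq, one_smul] at this
    exact ⟨_, this⟩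
  have hline : ∀ u, ∃ d : F, a u = u + d • z := fun u => by
    obtain ⟨m, f', hm⟩ := moves hT hM hg z (hM.sub hhM) hfix (ten u k)
    rw [hha, hk, add_zero, ← ten_sub_left] at hm
    have e := congrArg (cu b z) hm
    rw [map_add, cu_ten, cu_ten, hT.balt z, zero_smul, zero_add, hcg] at e
    have e' := congrArg π e
    rw [map_smul, hk, smul_zero, hidem] at e'
    rw [hgk f' e'.symm, ← ten_add_right] at hm
    obtain ⟨d, hd⟩ := inline hk0 hm
    exact ⟨d, by rw [← hd]; abel⟩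
  obtain ⟨r₀, hr₀⟩ := cc_ne hT hM h3 hab ho hg hgX hz hz
  set r := π r₀
  obtain ⟨u, hu0, hu⟩ := exists_ne_zero_ker ((b z).prod (b y)) (by simp; omega)
  have huz : b z u = 0 := congrArg Prod.fst hu
  have huy : b y u = 0 := congrArg Prod.snd hu
  obtain ⟨d, hd⟩ := hline u
  obtain ⟨m, f', hm⟩ := moves hT hM hg z (hM.sub hhM) hfix (ten u r)
  have hr : r + π r = (-1 : F) • r := by
    rw [hidem]
    linear_combination (norm := module) congrArg (fun c : F => c • r) h30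
  rw [hha, hr, hd] at hm
  have hm2 : ten u r = ten z m + (g : Matrix (α × β) (α × β) F) *ᵥ ten z f' + ten z (d • r) := by
    rw [ten_add_left, ten_smul_right, ten_smul_right, ten_smul_left, smul_smul] at hm
    rw [ten_smul_right]
    linear_combination (norm := module) hm + congrArg (fun c : F => c • ten u r) h30
  have e := congrArg (cu b z) hm2
  rw [map_add, map_add, cu_ten, cu_ten, cu_ten, hT.balt z, huz, zero_smul, zero_smul, zero_smul, zero_add,
    add_zero, hcg] at e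
  rw [hgk f' e.symm, ← ten_add_right, ← ten_add_right] at hm2
  obtain ⟨d', hd'⟩ := inline hr₀ hm2
  refine hu0 ?_
  rw [hd', map_smul, hyz, smul_eq_mul] at huy
  rw [hd', show d' = 0 by linear_combination -huy, zero_smul]

end CfsgLib.Geo.TensorSp
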