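/-
Overgroups of `Sp(U) ⊗ O(W)` with scalar root groups: no bijective self-adjoint contraction.
-/
import Cfsg.Agent.Geo.TensorSym.Shape
import Cfsg.Agent.Geo.TensorSym.Pair
import Mathlib.GroupTheory.Transfer
import Mathlib.GroupTheory.Nilpotent

set_option autoImplicit false
set_option linter.unusedSectionVars false

namespace CfsgLib.Geo.TensorSp

open Matrix CfsgLib.Geo CfsgLib.Geo.Tensor CfsgLib.Geo.TensorO Polynomial

variable {α β : Type} [Fintype α] [DecidableEq α] [Fintype β] [DecidableEq β] {F : Type*} [Field F] [Fintype F]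
variable {B : LinearMap.BilinForm F (α × β → F)} {b : LinearMap.BilinForm F (α → F)}
  {s : LinearMap.BilinForm F (β → F)} {M : Subgroup (GL (α × β) F)}

/-- In a finite group, a `p`-subgroup whose normaliser squares into it and centralises it gives a normal
complement. -/
theorem not_dvd_commutator {G : Type*} [Group G] [Finite G] {p : ℕ} [hp : Fact p.Prime] (hp2 : p ≠ 2)
    (P : Subgroup G) (hP : IsPGroup p P)
    (hsq : ∀ j, (∀ x ∈ P, j * x * j⁻¹ ∈ P) → j ^ 2 ∈ P ∧ ∀ x ∈ P, j * x = x * j) :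
    ¬ p ∣ Nat.card (commutator G) := by
  obtain ⟨Q, hPQ⟩ := hP.exists_le_sylow
  have hQP : (Q : Subgroup G) = P := by
    refine (hPQ.lt_or_eq.resolve_left fun hlt => ?_).symm
    haveI := IsPGroup.isNilpotent Q.2
    have hlt' : P.subgroupOf Q < ⊤ := lt_top_iff_ne_top.2 fun e =>
      hlt.not_ge (Subgroup.subgroupOf_eq_top.1 e)
    obtain ⟨j, hjN, hjP⟩ := SetLike.exists_of_lt (Group.normalizerCondition_of_isNilpotent _ hlt')
    have hconj : ∀ x ∈ P, (j : G) * x * (j : G)⁻¹ ∈ P := fun x hx => by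
      have := (Subgroup.mem_normalizer_iff.1 hjN ⟨x, hPQ hx⟩).1 (Subgroup.mem_subgroupOf.2 hx)
      simpa [Subgroup.mem_subgroupOf] using this
    obtain ⟨k, hk⟩ := Q.2 j
    obtain ⟨r, hr⟩ := (hp.out.odd_of_ne_two hp2).pow (n := k)
    refine hjP (Subgroup.mem_subgroupOf.2 ?_)
    have e : ((j : G) ^ 2) ^ (r + 1) = (j : G) := by
      rw [← pow_mul, show 2 * (r + 1) = p ^ k + 1 by omega, pow_succ, ← SubgroupClass.coe_pow, hk,
        OneMemClass.coe_one, one_mul]
    rw [← e]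
    exact pow_mem (hsq _ hconj).1 _
  have hN : Subgroup.normalizer (Q : Set G) ≤ Subgroup.centralizer (Q : Set G) := fun j hj => by
    rw [Subgroup.mem_centralizer_iff]
    intro x hx
    have hx' : x ∈ P := hQP ▸ hx
    refine ((hsq j fun y hy => ?_).2 x hx').symm
    have hy' : y ∈ (Q : Subgroup G) := hPQ hy
    exact hQP ▸ (Subgroup.mem_normalizer_iff.1 hj y).1 hy'
  intro hdvd
  refine MonoidHom.not_dvd_card_ker_transferSylow Q hN (hdvd.trans (Subgroup.card_dvd_of_le ?_))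
  rw [commutator_def, Subgroup.commutator_le]
  intro x _ y _
  rw [MonoidHom.mem_ker, map_commutatorElement, commutatorElement_eq_one_iff_mul_comm]
  exact Subtype.ext (hN (Subgroup.le_normalizer (MonoidHom.transferSylow Q hN y).2) _
    (MonoidHom.transferSylow Q hN x).2)

variable (hT : IsTS B b s) (hM : Over B M)
include hT hM

/-- No bijective self-adjoint contraction with an eigenvalue in general position. -/
theorem no_torus (h3 : 3 ≤ Fintype.card β) (ha : 3 ≤ Fintype.card α) (ho : OnlyScalar b M)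
    {z : α → F} {g : GL (α × β) F} (hgM : g ∈ M) (hgX : g ∉ krs ⊓ iso B) (hz : z ≠ 0)
    (hsa : ∀ f f', s (cc b g z z f) f' = s f (cc b g z z f'))
    (hinj : ∀ f, cc b g z z f = 0 → f = 0)
    (h5 : (∃ e : F, e ≠ 0 ∧ e ≠ 1 ∧ e ≠ -1) ∨
      (3 : F) = 0 ∧ ¬ IsNilpotent ((cc b g z z : Module.End F (β → F)) ^ 5 - cc b g z z)) : False := by
  have hnn : ¬ IsNilpotent (cc b g z z : Module.End F (β → F)) := by
    rintro ⟨k, hk⟩
    haveI : Nonempty β := Fintype.card_pos_iff.1 (by omega)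
    obtain ⟨f, hf⟩ := exists_ne (0 : β → F)
    have : ∀ n, ((cc b g z z : Module.End F (β → F)) ^ n) f ≠ 0 := fun n => by
      induction n with
      | zero => simpa using hf
      | succ n ih =>
        rw [pow_succ', Module.End.mul_apply]
        exact fun e => ih (hinj _ e)
    exact this k (by rw [hk, LinearMap.zero_apply])
  obtain ⟨p, hp⟩ := CharP.exists F
  haveI := hp
  haveI : Fact p.Prime := ⟨CharP.char_is_prime F p⟩
  set C : Module.End F (β → F) := cc b g z z with hC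
  have hca : ∀ f, ca b g z z f = -C f := fun f => hT.eq_of_s fun f' => by
    rw [ca_spec hT hM hgM, hsa, map_neg]
  set Φ : Fin 2 → ((α × β → F) →ₗ[F] (β → F)) :=
    ![cu b z ∘ₗ Matrix.mulVecLin ((g⁻¹ : GL (α × β) F) : Matrix (α × β) (α × β) F), cu b z] with hΦ
  have hΦ0z : ∀ f, Φ 0 (ten z f) = -C f := fun f => hca f
  have hΦ1z : ∀ f, Φ 1 (ten z f) = 0 := fun f => by simp [hΦ, hT.balt z]
  have hΦ0g : ∀ f, Φ 0 ((g : Matrix (α × β) (α × β) F) *ᵥ ten z f) = 0 := fun f => by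
    simp [hΦ, hT.balt z]
  have hΦ1g : ∀ f, Φ 1 ((g : Matrix (α × β) (α × β) F) *ᵥ ten z f) = C f := fun f => rfl
  let Acts : GL (α × β) F → Matrix.SpecialLinearGroup (Fin 2) F[X] → Prop := fun h Mx =>
    ∀ v i, Φ i ((h : Matrix (α × β) (α × β) F) *ᵥ v) = ∑ j, aeval C (Mx.1 i j) (Φ j v)
  choose T hTm hTx using fun c => hT.exists_T z c
  let Y : F → GL (α × β) F := fun d => g * T d * g⁻¹
  have hYx : ∀ d v, (Y d : Matrix (α × β) (α × β) F) *ᵥ v
      = v + d • ((g : Matrix (α × β) (α × β) F) *ᵥ ten z (Φ 0 v)) := fun d v => by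
    simp only [Y, mul_mulVec, hTx, Matrix.mulVec_add, Matrix.mulVec_smul, mulVec_inv_mulVec]
    rfl
  have hTA : ∀ c, Acts (T c) (upM (-(Polynomial.C c * X))) := fun c v i => by
    fin_cases i
    · simp [hTx, upM, map_add, map_smul, hΦ0z, Fin.sum_univ_two]
      rfl
    · simp [hTx, upM, map_add, map_smul, hΦ1z, Fin.sum_univ_two]
  have hYA : ∀ d, Acts (Y d) (loM (Polynomial.C d * X)) := fun d v i => by
    fin_cases i
    · simp [hYx, loM, map_add, map_smul, hΦ0g, Fin.sum_univ_two]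
    · simp [hYx, loM, map_add, map_smul, hΦ1g, Fin.sum_univ_two, add_comm]
  set G : Subgroup (GL (α × β) F) := Subgroup.closure (Set.range T ∪ Set.range Y) with hG
  have hTG : ∀ c, T c ∈ G := fun c => Subgroup.subset_closure (Or.inl ⟨c, rfl⟩)
  have hYG : ∀ d, Y d ∈ G := fun d => Subgroup.subset_closure (Or.inr ⟨d, rfl⟩)
  have hGM : G ≤ M := (Subgroup.closure_le M).2 (by
    rintro _ (⟨c, rfl⟩ | ⟨c, rfl⟩)
    · exact hM.le (hTm c)
    · exact M.mul_mem (M.mul_mem hgM (hM.le (hTm c))) (M.inv_mem hgM))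
  have hAmul : ∀ {h h' Mx Mx'}, Acts h Mx → Acts h' Mx' → Acts (h * h') (Mx * Mx') := by
    intro h h' Mx Mx' hh hh' v i
    rw [mul_mulVec, hh, Matrix.SpecialLinearGroup.coe_mul]
    simp only [show ∀ v i, Φ i ((h' : Matrix (α × β) (α × β) F) *ᵥ v) = ∑ j, aeval C (Mx'.1 i j) (Φ j v) from hh',
      map_sum, Matrix.mul_apply, map_mul, LinearMap.sum_apply, Module.End.mul_apply]
    rw [Finset.sum_comm]
  have hAinv : ∀ {h Mx}, Acts h Mx → Acts h⁻¹ Mx⁻¹ := by
    intro h Mx hh v i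
    have key : ∀ w, ∑ j, aeval C ((Mx⁻¹).1 i j) (∑ l, aeval C (Mx.1 j l) (Φ l w)) = Φ i w := fun w => by
      simp only [map_sum, ← Module.End.mul_apply, ← map_mul]
      rw [Finset.sum_comm]
      simp only [← LinearMap.sum_apply, ← map_sum, ← Matrix.mul_apply]
      rw [← Matrix.SpecialLinearGroup.coe_mul, inv_mul_cancel, Matrix.SpecialLinearGroup.coe_one]
      fin_cases i <;> simp [Matrix.one_apply, Fin.sum_univ_two]
    conv_rhs => enter [2, j, 2]; rw [← mulVec_inv_mulVec h v, hh]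
    rw [key]
  have hGA : ∀ h ∈ G, ∃ Mx, Acts h Mx := fun h hh => by
    refine Subgroup.closure_induction (p := fun h _ => ∃ Mx, Acts h Mx) ?_ ?_ ?_ ?_ hh
    · rintro _ (⟨c, rfl⟩ | ⟨c, rfl⟩)
      exacts [⟨_, hTA c⟩, ⟨_, hYA c⟩]
    · exact ⟨1, fun v i => by fin_cases i <;> simp [Matrix.one_apply, Fin.sum_univ_two]⟩
    · rintro h h' - - ⟨Mx, h1⟩ ⟨Mx', h2⟩
      exact ⟨_, hAmul h1 h2⟩
    · rintro h - ⟨Mx, h1⟩
      exact ⟨_, hAinv h1⟩
  -- a non-zero eigenvalue
  obtain ⟨lam, hlam0, hlam, hlam4⟩ : ∃ lam : AlgebraicClosure F, lam ≠ 0 ∧ aeval lam (minpoly F C) = 0 ∧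
      ((∃ e : F, e ≠ 0 ∧ e ≠ 1 ∧ e ≠ -1) ∨ lam ^ 4 ≠ 16) := by
    rcases h5 with h5 | ⟨h30, h5⟩
    · obtain ⟨lam, h1, h2⟩ := exists_eigen (C := C) X (by rwa [aeval_X])
      exact ⟨lam, by simpa using h1, h2, Or.inl h5⟩
    · obtain ⟨lam, h1, h2⟩ := exists_eigen (C := C) (X ^ 5 - X) (by rwa [map_sub, map_pow, aeval_X])
      rw [map_sub, map_pow, aeval_X] at h1
      refine ⟨lam, fun e => h1 (by rw [e]; ring), h2, Or.inr fun e => h1 ?_⟩
      have h30' : (3 : AlgebraicClosure F) = 0 := by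
        rw [← map_ofNat (algebraMap F (AlgebraicClosure F)) 3, h30, map_zero]
      linear_combination lam * e + 5 * lam * h30'
  -- the representation of degree two
  have hev : ∀ r : F[X], (∀ f, aeval C r (C f) = 0) → aeval lam r = 0 := fun r hr => by
    have h : aeval C (r * X) = 0 := by rw [map_mul, aeval_X]; exact LinearMap.ext hr
    obtain ⟨t, ht⟩ := minpoly.dvd F C h
    have := congrArg (aeval lam) ht
    rw [map_mul, map_mul, hlam, zero_mul, aeval_X] at this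
    exact (mul_eq_zero.1 this).resolve_right hlam0
  have huniq : ∀ {h Mx Mx'}, Acts h Mx → Acts h Mx' → ∀ i j, aeval lam (Mx.1 i j) = aeval lam (Mx'.1 i j) := by
    intro h Mx Mx' hh hh' i j
    refine sub_eq_zero.1 ((map_sub _ _ _).symm.trans (hev _ fun f => ?_))
    rw [map_sub, LinearMap.sub_apply]
    fin_cases j
    · have := (hh (ten z f) i).symm.trans (hh' (ten z f) i)
      simp [Fin.sum_univ_two, hΦ0z, hΦ1z] at this
      simp [this]
    · have := (hh ((g : Matrix (α × β) (α × β) F) *ᵥ ten z f) i).symm.trans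
        (hh' ((g : Matrix (α × β) (α × β) F) *ᵥ ten z f) i)
      simp [Fin.sum_univ_two, hΦ0g, hΦ1g] at this
      simp [this]
  choose Mh hMh using fun h : G => hGA h.1 h.2
  let ev : F[X] →+* AlgebraicClosure F := (aeval lam).toRingHom
  have hev_eq : ∀ (h : G) {Mx}, Acts h.1 Mx →
      Matrix.SpecialLinearGroup.map ev (Mh h) = Matrix.SpecialLinearGroup.map ev Mx := fun h Mx hx => by
    ext i j
    exact huniq (hMh h) hx i j
  let ρ : G →* Matrix.SpecialLinearGroup (Fin 2) (AlgebraicClosure F) :=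
    MonoidHom.mk' (fun h => Matrix.SpecialLinearGroup.map ev (Mh h)) fun h h' => by
      rw [← map_mul]; exact hev_eq _ (hAmul (hMh h) (hMh h'))
  -- powers
  have hTT : ∀ c c', T c * T c' = T (c + c') := fun c c' => gl_ext_mulVec fun x => by
    rw [mul_mulVec, hTx, hTx, hTx, map_add, map_smul, cu_ten, hT.balt z, zero_smul, smul_zero, add_zero]
    module
  have hT0 : T 0 = 1 := gl_ext_mulVec fun x => by simp [hTx]
  have hTpow : ∀ (n : ℕ) c, T c ^ n = T (n * c) := fun n c => by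
    induction n with
    | zero => simp [hT0]
    | succ n ih => rw [pow_succ, ih, hTT]; congr 1; push_cast; ring
  have hTp : ∀ c, T c ^ p = 1 := fun c => by rw [hTpow, CharP.cast_eq_zero, zero_mul, hT0]
  have hYp : ∀ d, Y d ^ p = 1 := fun d => by simp only [Y, conj_pow, hTp, mul_one, mul_inv_cancel]
  have hab' : ∀ w : G, w ^ p ∈ commutator G := fun w => by
    rw [← Abelianization.ker_of, MonoidHom.mem_ker, map_pow]
    obtain ⟨w, hw⟩ := w
    refine Subgroup.closure_induction (p := fun w hw => (Abelianization.of (⟨w, hw⟩ : G)) ^ p = 1) ?_ ?_ ?_ ?_ hw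
    · rintro _ (⟨c, rfl⟩ | ⟨c, rfl⟩) <;> rw [← map_pow] <;>
        refine (congrArg _ (Subtype.ext ?_)).trans (map_one _)
      · exact hTp c
      · exact hYp c
    · exact (congrArg (fun a => a ^ p) (map_one Abelianization.of)).trans (one_pow p)
    · intro x y hx hy h1 h2
      rw [show (⟨x * y, Subgroup.mul_mem _ hx hy⟩ : G) = ⟨x, hx⟩ * ⟨y, hy⟩ from rfl, map_mul, mul_pow, h1, h2,
        mul_one]
    · intro x hx h1
      rw [show (⟨x⁻¹, Subgroup.inv_mem _ hx⟩ : G) = (⟨x, hx⟩ : G)⁻¹ from rfl, map_inv, inv_pow, h1, inv_one]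
  haveI : CharP (AlgebraicClosure F) p :=
    charP_of_injective_algebraMap (algebraMap F (AlgebraicClosure F)).injective p
  have h2K : (2 : AlgebraicClosure F) ≠ 0 := by
    rw [← map_ofNat (algebraMap F (AlgebraicClosure F)) 2]
    exact (_root_.map_ne_zero _).2 hT.two
  let φ := algebraMap F (AlgebraicClosure F)
  let mid : F → Prop := fun d => ρ ⟨Y d, hYG d⟩ ∈ (commutator G).map ρ
  have hρT : ∀ c, (ρ ⟨T c, hTG c⟩).1 = !![1, -(φ c * lam); 0, 1] := fun c => by
    show (Matrix.SpecialLinearGroup.map ev (Mh _)).1 = _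
    rw [hev_eq ⟨T c, hTG c⟩ (hTA c)]
    ext i j
    show ev ((upM (-(Polynomial.C c * X))).1 i j) = _
    fin_cases i <;> fin_cases j <;> simp [upM, ev, φ]
  have hρY : ∀ d, (ρ ⟨Y d, hYG d⟩).1 = !![1, 0; φ d * lam, 1] := fun d => by
    show (Matrix.SpecialLinearGroup.map ev (Mh _)).1 = _
    rw [hev_eq ⟨Y d, hYG d⟩ (hYA d)]
    ext i j
    show ev ((loM (Polynomial.C d * X)).1 i j) = _
    fin_cases i <;> fin_cases j <;> simp [loM, ev, φ]
  have hprod : ∀ d : F, d ≠ 0 → φ d * lam ^ 2 ≠ 4 →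
      ρ (⟨T 1, hTG 1⟩ * ⟨Y d, hYG d⟩) ∈ (commutator G).map ρ := by
    intro d hd hd4
    set w : G := ⟨T 1, hTG 1⟩ * ⟨Y d, hYG d⟩
    have hw : (ρ w).1 = !![1 - φ d * lam ^ 2, -lam; φ d * lam, 1] := by
      rw [map_mul, Matrix.SpecialLinearGroup.coe_mul, hρT, hρY]
      ext i j; fin_cases i <;> fin_cases j <;> simp [Matrix.mul_apply, φ]
      ring
    have hcop : Nat.Coprime p (orderOf (ρ w)) := orderOf_coprime (ρ w) (by rw [hw]; simpa using hlam0)
      (by
        rw [hw, Matrix.trace_fin_two]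
        simp
        intro e
        have : (φ d * lam ^ 2) * (φ d * lam ^ 2 - 4) = 0 := by linear_combination e
        rcases mul_eq_zero.1 this with h | h
        · exact (mul_ne_zero ((map_ne_zero φ).2 hd) (pow_ne_zero 2 hlam0)) h
        · exact hd4 (sub_eq_zero.1 h))
      h2K (ρ.isOfFinOrder (isOfFinOrder_of_finite w))
    obtain ⟨m, hm⟩ := exists_pow_eq_self_of_coprime hcop
    rw [← hm, ← map_pow, ← map_pow]
    exact Subgroup.mem_map_of_mem ρ (pow_mem (hab' w) m)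
  have hn1 : (1 : F) ≠ -1 := fun h => hT.two (by linear_combination h)
  obtain ⟨d, d', hd, hd', hdd, h4, h4'⟩ : ∃ d d' : F, d ≠ 0 ∧ d' ≠ 0 ∧ d ≠ d' ∧
      φ d * lam ^ 2 ≠ 4 ∧ φ d' * lam ^ 2 ≠ 4 := by
    have one : ∀ d d' : F, φ d * lam ^ 2 = 4 → φ d' * lam ^ 2 = 4 → d = d' := fun d d' h h' =>
      φ.injective (mul_right_cancel₀ (pow_ne_zero 2 hlam0) (h.trans h'.symm))
    have n0 : (-1 : F) ≠ 0 := neg_ne_zero.2 one_ne_zero
    rcases hlam4 with ⟨e, he0, he1, he2⟩ | h16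
    swap
    · refine ⟨1, -1, one_ne_zero, n0, hn1, fun h => h16 ?_, fun h => h16 ?_⟩
      · rw [map_one, one_mul] at h; linear_combination (lam ^ 2 + 4) * h
      · rw [map_neg, map_one, neg_one_mul] at h; linear_combination (-lam ^ 2 + 4) * -1 * h * -1
    by_cases ha : φ 1 * lam ^ 2 = 4
    · exact ⟨-1, e, n0, he0, he2.symm, fun h => hn1 (one _ _ ha h), fun h => he1 (one _ _ h ha)⟩
    by_cases hb : φ (-1) * lam ^ 2 = 4
    · exact ⟨1, e, one_ne_zero, he0, he1.symm, ha, fun h => he2 (one _ _ h hb)⟩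
    exact ⟨1, -1, one_ne_zero, n0, hn1, ha, hb⟩
  have hpdvd : p ∣ Nat.card (commutator G) := by
    have h1 := Subgroup.mul_mem _ (Subgroup.inv_mem _ (hprod d hd h4)) (hprod d' hd' h4')
    rw [← map_inv, ← map_mul] at h1
    obtain ⟨n, hn, hne⟩ := Subgroup.mem_map.1 h1
    set y : G := ⟨Y d, hYG d⟩⁻¹ * ⟨Y d', hYG d'⟩
    rw [show (⟨T 1, hTG 1⟩ * ⟨Y d, hYG d⟩)⁻¹ * (⟨T 1, hTG 1⟩ * ⟨Y d', hYG d'⟩) = y by rw [_root_.mul_inv_rev, mul_assoc, inv_mul_cancel_left]] at hne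
    have hyY : y = ⟨Y (d' - d), hYG _⟩ := by
      rw [inv_mul_eq_iff_eq_mul]
      refine Subtype.ext ?_
      show Y d' = Y d * Y (d' - d)
      simp only [Y]
      rw [show T d' = T d * T (d' - d) by rw [hTT, add_sub_cancel]]
      group
    rw [hyY] at hne
    have hp1 : (ρ ⟨Y (d' - d), hYG _⟩) ^ p = 1 := by
      rw [← map_pow, show (⟨Y (d' - d), hYG _⟩ : G) ^ p = 1 from Subtype.ext (hYp _), map_one]
    have hne1 : ρ ⟨Y (d' - d), hYG _⟩ ≠ 1 := fun h => by
      have e := congrFun (congrFun (congrArg Subtype.val h) 1) 0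
      rw [hρY] at e
      simp [hlam0, φ] at e
      exact hdd (φ.injective (sub_eq_zero.1 e)).symm
    have ho' := orderOf_eq_prime hp1 hne1
    rw [← hne] at ho'
    have hd1 : p ∣ orderOf n := ho' ▸ orderOf_map_dvd ρ n
    have hd2 : orderOf n ∣ Nat.card (commutator G) := by
      have := orderOf_dvd_natCard (⟨n, hn⟩ : commutator G)
      rwa [← Subgroup.orderOf_coe] at this
    exact hd1.trans hd2
  haveI : Nonempty β := Fintype.card_pos_iff.1 (by omega)
  obtain ⟨f₁, hf₁⟩ := exists_ne (0 : β → F)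
  obtain ⟨k₁, hk₁⟩ := hT.exists_s_one hf₁
  obtain ⟨y, hy⟩ := hT.exists_b_one hz
  have hfixG : ∀ x ∈ G, ∀ v, Φ 0 v = 0 → Φ 1 v = 0 →
      (x : Matrix (α × β) (α × β) F) *ᵥ v = v := fun x hx v h0 h1 => by
    refine Subgroup.closure_induction
      (p := fun (t : GL (α × β) F) _ => (t : Matrix (α × β) (α × β) F) *ᵥ v = v) ?_ ?_ ?_ ?_ hx
    · rintro _ (⟨c, rfl⟩ | ⟨c, rfl⟩)
      · rw [hTx, show cu b z v = 0 from h1, ten_zero_right, smul_zero, add_zero]
      · rw [hYx, h0, ten_zero_right, Matrix.mulVec_zero, smul_zero, add_zero]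
    · simp
    · intro x y _ _ e1 e2; rw [mul_mulVec, e2, e1]
    · intro x _ e1; conv_lhs => rw [← e1, inv_mulVec_mulVec]
  have hmC : ∀ r : F[X], ∀ f, aeval C r (C f) = C (aeval C r f) := fun r f => by
    rw [← Module.End.mul_apply, ← Module.End.mul_apply]
    congr 1
    conv_lhs => arg 2; rw [← aeval_X (R := F) C]
    conv_rhs => arg 1; rw [← aeval_X (R := F) C]
    rw [← map_mul, ← map_mul, mul_comm]
  have hsaC : ∀ r : F[X], ∀ f f', s (aeval C r f) f' = s f (aeval C r f') := by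
    intro r
    induction r using Polynomial.induction_on with
    | C c => intro f f'; simp
    | add p q hp hq => intro f f'; simp [hp, hq]
    | monomial n c ih =>
      intro f f'
      rw [pow_succ, ← mul_assoc, map_mul, aeval_X, Module.End.mul_apply, ih, hC, hsa, ← hC, Module.End.mul_apply,
        hmC]
  let P : Subgroup G :=
    { carrier := {x | ∃ c, (x : GL (α × β) F) = T c}
      one_mem' := ⟨0, hT0.symm⟩
      mul_mem' := fun {x y} ⟨c, hc⟩ ⟨c', hc'⟩ => ⟨c + c', by rw [Subgroup.coe_mul, hc, hc', hTT]⟩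
      inv_mem' := fun {x} ⟨c, hc⟩ => ⟨-c, by
        rw [Subgroup.coe_inv, hc, inv_eq_iff_mul_eq_one, hTT, add_neg_cancel, hT0]⟩ }
  have hP : IsPGroup p P := fun ⟨x, c, hc⟩ => ⟨1, Subtype.ext (Subtype.ext (by
    rw [pow_one]
    show (x : GL (α × β) F) ^ p = 1
    rw [hc, hTp]))⟩
  have hlamT : ∀ c c' : F, φ c * lam = φ c' * lam → c = c' := fun c c' h =>
    φ.injective (mul_right_cancel₀ hlam0 h)
  refine not_dvd_commutator ?_ P hP (fun j hj => ?_) hpdvd
  · rintro rfl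
    exact hT.two (by exact_mod_cast CharP.cast_eq_zero F 2)
  have hjc : ∀ c, ∃ c', (j : GL (α × β) F) * T c = T c' * j := fun c => by
    obtain ⟨c', hc'⟩ := hj ⟨T c, hTG c⟩ ⟨c, rfl⟩
    refine ⟨c', ?_⟩
    rw [← hc']
    simp
  -- `j` carries the line to itself
  obtain ⟨μ, hμ⟩ := hjc 1
  have hL : ∀ f, (j.1 : Matrix (α × β) (α × β) F) *ᵥ ten z f
      = ten z (μ • cu b z ((j.1 : Matrix (α × β) (α × β) F) *ᵥ ten y f)) := fun f => by
    have e := congrArg (fun (k : GL (α × β) F) => (k : Matrix (α × β) (α × β) F) *ᵥ ten y f) hμ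
    simp only [mul_mulVec, hTx, cu_ten, hy, one_smul, Matrix.mulVec_add] at e
    rw [ten_smul_right]
    exact add_left_cancel e
  obtain ⟨⟨p₁, A₁, hpA⟩, hiso⟩ := line_mem hT hM h3 ho (hGM j.2) hz hz fun f => ⟨_, hL f⟩
  obtain ⟨l, hl⟩ : ∃ l : α → F, l ⬝ᵥ z = 1 := exists_dot_one hz
  set e₁ := l ⬝ᵥ ((p₁ : Matrix α α F) *ᵥ z) with he₁
  have hAne : ∀ f, f ≠ 0 → (A₁ : Matrix β β F) *ᵥ f ≠ 0 := fun f hf h0 => hf (by
    simpa using congrArg (fun w => ((A₁⁻¹ : GL β F) : Matrix β β F) *ᵥ w) h0)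
  have hpz : (p₁ : Matrix α α F) *ᵥ z = e₁ • z := by
    have h1 := hL f₁
    rw [hpA, kr_ten] at h1
    obtain ⟨k, hk⟩ := hT.exists_s_one (hAne _ hf₁)
    have h2' := congrArg (cw s k) h1
    rw [cw_ten, cw_ten, hT.ssym, hk, one_smul] at h2'
    rw [he₁, h2', dotProduct_smul, hl, smul_eq_mul, mul_one]
  have he₁0 : e₁ ≠ 0 := fun h0 => hz (by
    rw [h0, zero_smul] at hpz
    simpa using congrArg (fun w => ((p₁⁻¹ : GL α F) : Matrix α α F) *ᵥ w) hpz)
  set a : (α → F) →ₗ[F] (α → F) := e₁⁻¹ • Matrix.mulVecLin (p₁ : Matrix α α F) with hadef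
  set A : (β → F) →ₗ[F] (β → F) := e₁ • Matrix.mulVecLin (A₁ : Matrix β β F) with hA
  have hjt : ∀ u f, (j.1 : Matrix (α × β) (α × β) F) *ᵥ ten u f = ten (a u) (A f) := fun u f => by
    rw [hpA, kr_ten]
    simp [hadef, hA, ten_smul_left, ten_smul_right, smul_smul, inv_mul_cancel₀ he₁0, mul_inv_cancel₀ he₁0]
  have haz : a z = z := by simp [hadef, hpz, smul_smul, inv_mul_cancel₀ he₁0]
  obtain ⟨Mx, hMx⟩ := hGA j.1 j.2
  have h10 : aeval lam (Mx.1 1 0) = 0 := hev _ fun f => by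
    have e := hMx (ten z f) 1
    rw [Fin.sum_univ_two, hΦ0z, hΦ1z, hjt, haz, hΦ1z, map_zero, add_zero, map_neg] at e
    exact neg_eq_zero.1 e.symm
  have hAm : ∀ f, A f = aeval C (Mx.1 0 0) f := fun f => by
    have e := hMx (ten z f) 0
    rw [Fin.sum_univ_two, hΦ0z, hΦ1z, hjt, haz, hΦ0z, map_zero, add_zero, map_neg, hmC, neg_inj] at e
    exact sub_eq_zero.1 (hinj _ (by rw [map_sub]; exact sub_eq_zero.2 e))
  have hAsim : ∀ f f', b z (a y) * s (A f) (A f') = s f f' := fun f f' => by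
    have e := hiso (ten z f) (ten y f')
    rwa [hjt, hjt, haz, hT.pol, hT.pol, hy, one_mul] at e
  have hν : b z (a y) ≠ 0 := fun e => by
    have := hAsim f₁ k₁
    rw [e, zero_mul, hk₁] at this
    exact zero_ne_one this
  have hAA : ∀ f, A (A f) = (b z (a y))⁻¹ • f := fun f => hT.eq_of_s fun f' => by
    rw [map_smul, smul_eq_mul, ← hAsim f' f]
    simp only [hAm]
    rw [← hsaC, ← mul_assoc, inv_mul_cancel₀ hν, one_mul]
  have hj2 : ∀ u f, (((j ^ 2 : G) : GL (α × β) F) : Matrix (α × β) (α × β) F) *ᵥ ten u f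
      = ten ((b z (a y))⁻¹ • a (a u)) f := fun u f => by
    rw [pow_two, Subgroup.coe_mul, mul_mulVec, hjt, hjt, hAA, ten_smul_right, ten_smul_left]
  obtain ⟨-, c₂, hc₂⟩ := left_shape hT hM h3 ha ho hgM hgX hz hinj (hM.sub (hGM (j ^ 2).2)) hj2
    (e := (b z (a y))⁻¹) (by rw [haz, haz]) fun v h0 h1 => hfixG _ (j ^ 2).2 v h0 h1
  have hj2P : ((j ^ 2 : G) : GL (α × β) F) = T c₂ := gl_ext_mulVec fun x => by rw [hc₂, hTx]
  refine ⟨⟨c₂, hj2P⟩, fun x ⟨c, hc⟩ => ?_⟩
  obtain ⟨c', hc'⟩ := hjc c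
  -- compare in degree two
  have hρ10 : (ρ j).1 1 0 = 0 := by
    show (Matrix.SpecialLinearGroup.map ev (Mh _)).1 1 0 = _
    rw [hev_eq j hMx]
    exact h10
  have hdet := (ρ j).2
  rw [Matrix.det_fin_two, hρ10, mul_zero, sub_zero] at hdet
  have hsq : (ρ j).1 * (ρ j).1 = !![1, -(φ c₂ * lam); 0, 1] := by
    rw [← Matrix.SpecialLinearGroup.coe_mul, ← map_mul, ← pow_two, ← hρT c₂]
    congr 2
    exact Subtype.ext hj2P
  have ht : (ρ j).1 1 1 * (ρ j).1 1 1 = 1 := by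
    have := congrFun (congrFun hsq 1) 1
    simpa [Matrix.mul_apply, hρ10] using this
  have hr : (ρ j).1 0 0 = (ρ j).1 1 1 := by
    linear_combination -(ρ j).1 0 0 * ht + (ρ j).1 1 1 * hdet
  have hcc : c' = c := by
    have e : (ρ j).1 * !![1, -(φ c * lam); 0, 1] = !![1, -(φ c' * lam); 0, 1] * (ρ j).1 := by
      rw [← hρT c, ← hρT c', ← Matrix.SpecialLinearGroup.coe_mul, ← Matrix.SpecialLinearGroup.coe_mul,
        ← map_mul, ← map_mul]
      congr 2
      exact Subtype.ext hc'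
    have := congrFun (congrFun e 0) 1
    simp [Matrix.mul_apply, Fin.sum_univ_two, hρ10, hr] at this
    refine hlamT _ _ (mul_right_cancel₀ (b := (ρ j).1 1 1) (fun e => ?_) ?_)
    · rw [e, zero_mul] at ht; exact zero_ne_one ht
    · linear_combination this
  refine Subtype.ext ?_
  rw [Subgroup.coe_mul, Subgroup.coe_mul, hc, hc', hcc]

end CfsgLib.Geo.TensorSp
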