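/-
`Sp(U) ⊗ O(W)` is maximal in `Sp(U ⊗ W)` for `dim U ≥ 3`, with no comparison of the dimensions.
-/
import Cfsg.Agent.Geo.TensorSym.Torus
import Cfsg.Agent.Geo.TensorSym.Proj
import Cfsg.Agent.Geo.TensorSym.Main

set_option autoImplicit false
set_option linter.unusedSectionVars false

namespace CfsgLib.Geo.TensorSp

open Matrix CfsgLib.Geo CfsgLib.Geo.Tensor CfsgLib.Geo.TensorO

variable {α β : Type} [Fintype α] [DecidableEq α] [Fintype β] [DecidableEq β] {F : Type*} [Field F] [Fintype F]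
variable {B : LinearMap.BilinForm F (α × β → F)} {b : LinearMap.BilinForm F (α → F)}
  {s : LinearMap.BilinForm F (β → F)} {M : Subgroup (GL (α × β) F)}

/-- An overgroup is standard or has every transvection. -/
theorem full_or_le_large (hT : IsTS B b s) (hM : Over B M) (h3 : 3 ≤ Fintype.card β) (ha : 3 ≤ Fintype.card α)
    (h4 : 4 ≤ Fintype.card β ∨ ∃ e : F, e ≠ 0 ∧ e ≠ 1 ∧ e ≠ -1)
    (hq : (∃ e : F, e ≠ 0 ∧ e ≠ 1 ∧ e ≠ -1) ∨ Fintype.card F = 3) :
    (∀ x, Full B M x) ∨ M ≤ krs ⊓ iso B := by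
  rcases full_or_onlyScalar hT hM (exists_null hT h3) h3 h4 with h | ho
  · exact Or.inl h
  refine Or.inr fun g₀ hg₀ => ?_
  by_contra hgX₀
  have hab : Fintype.card α ≠ 2 ∨ 5 ≤ Fintype.card β ∨ Odd (Fintype.card β) ∨ NoPlane s := Or.inl (by omega)
  haveI : Nonempty α := Fintype.card_pos_iff.1 (by omega)
  obtain ⟨z, hz⟩ := exists_ne (0 : α → F)
  obtain ⟨g, hg, hgX, -, -, hsa⟩ := exists_derived hT hM h3 hab ho hg₀ hgX₀ hz z one_ne_zero
  have three : ∀ {g : GL (α × β) F}, g ∈ M → g ∉ krs ⊓ iso B →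
      (∀ f f', s (cc b g z z f) f' = s f (cc b g z z f')) → Fintype.card F = 3 →
      IsNilpotent ((cc b g z z : Module.End F (β → F)) ^ 5 - cc b g z z) → False := by
    intro g hg hgX hsa hF hn
    obtain ⟨g', hg', hgX', hsa', hidem⟩ := exists_idem hT hM h3 ha ho hF hg hgX hz hsa hn
    exact no_idem hT hM h3 ha ho hF hg' hgX' hz hsa' hidem
  by_cases hsing : ∃ f, f ≠ 0 ∧ cc b g z z f = 0
  · obtain ⟨g', hgood⟩ := good_of_selfAdj hT hM h3 hab ho hz (Fintype.card β) g hg hgX hsa hsing (by omega)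
    rcases hq with h5 | hF
    · exact no_good hT hM h3 hab ho hgood (Or.inl h5)
    · exact three hgood.1 hgood.2.1 hgood.2.2.2.1 hF (by
        by_contra hn
        exact no_good hT hM h3 hab ho hgood (Or.inr ⟨three_eq_zero hF, hn⟩))
  · push Not at hsing
    have hinj : ∀ f, cc b g z z f = 0 → f = 0 := fun f hf => by
      by_contra hne
      exact hsing f hne hf
    rcases hq with h5 | hF
    · exact no_torus hT hM h3 ha ho hg hgX hz hsa hinj (Or.inl h5)
    · exact three hg hgX hsa hF (by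
        by_contra hn
        exact no_torus hT hM h3 ha ho hg hgX hz hsa hinj (Or.inr ⟨three_eq_zero hF, hn⟩))

end CfsgLib.Geo.TensorSp
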