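/-
Contractions of elements that act diagonally on an orthogonal frame of the symmetric factor.
-/
import Cfsg.Agent.Geo.TensorSym.Three

set_option autoImplicit false
set_option linter.unusedSectionVars false

namespace CfsgLib.Geo.TensorSp

open Matrix CfsgLib.Geo CfsgLib.Geo.Tensor CfsgLib.Geo.TensorO

variable {α β : Type} [Fintype α] [DecidableEq α] [Fintype β] [DecidableEq β] {F : Type*} [Field F] [Fintype F]
variable {B : LinearMap.BilinForm F (α × β → F)} {b : LinearMap.BilinForm F (α → F)}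
  {s : LinearMap.BilinForm F (β → F)} {M : Subgroup (GL (α × β) F)}

/-- An orthogonal basis indexed by four points. -/
structure IsFrame (s : LinearMap.BilinForm F (β → F)) (e : Fin 4 → β → F) : Prop where
  dim : Fintype.card β = 4
  orth : ∀ i j, i ≠ j → s (e i) (e j) = 0
  aniso : ∀ i, s (e i) (e i) ≠ 0

/-- Linear maps agreeing on a frame are equal. -/
theorem IsFrame.ext {e : Fin 4 → β → F} (he : IsFrame s e) {X : Type*} [AddCommGroup X] [Module F X]
    {S T : (β → F) →ₗ[F] X} (h : ∀ i, S (e i) = T (e i)) : S = T := by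
  have hli : LinearIndependent F e := by
    rw [Fintype.linearIndependent_iff]
    intro c hc i
    have h1 := congrArg (s (e i)) hc
    rw [map_sum, map_zero, Finset.sum_eq_single i (fun j _ hj => by rw [map_smul, he.orth i j (Ne.symm hj), smul_zero])
      (by simp), map_smul, smul_eq_mul] at h1
    exact (mul_eq_zero.1 h1).resolve_right (he.aniso i)
  exact (basisOfLinearIndependentOfCardEqFinrank hli (by simp [he.dim])).ext fun i => by
    simpa using h i

variable (hT : IsTS B b s)
include hT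

/-- Vectors pairing alike with a frame are equal. -/
theorem IsFrame.eq_of {e : Fin 4 → β → F} (he : IsFrame s e) {f f' : β → F}
    (h : ∀ i, s (e i) f = s (e i) f') : f = f' :=
  hT.eq_of_s fun z => by
    have := he.ext (S := s.flip f) (T := s.flip f') (fun i => h i)
    exact LinearMap.congr_fun this z

/-- A reflection of the second factor on pure tensors. -/
theorem exists_refl_ten {v : β → F} (hv : s v v ≠ 0) : ∃ r ∈ krs ⊓ iso B,
    (∀ u f, (r : Matrix (α × β) (α × β) F) *ᵥ ten u f = ten u (f - (2 / s v v * s v f) • v)) ∧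
    ∀ x, (r : Matrix (α × β) (α × β) F) *ᵥ ((r : Matrix (α × β) (α × β) F) *ᵥ x) = x := by
  obtain ⟨r, hr, hrx⟩ := hT.exists_refl hv
  have ht : ∀ u f, (r : Matrix (α × β) (α × β) F) *ᵥ ten u f = ten u (f - (2 / s v v * s v f) • v) := fun u f => by
    rw [hrx, cw_ten, ten_smul_left, ten_sub_right, ten_smul_right, smul_smul]
  refine ⟨r, hr, ht, fun x => ?_⟩
  have := Tensor.map_ext (S := Matrix.mulVecLin (r : Matrix (α × β) (α × β) F) ∘ₗ
      Matrix.mulVecLin (r : Matrix (α × β) (α × β) F)) (T := LinearMap.id) fun u f => by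
    simp only [LinearMap.comp_apply, Matrix.mulVecLin_apply, ht, LinearMap.id_apply]
    congr 1
    simp
    match_scalars <;> field_simp <;> ring
  exact LinearMap.congr_fun this x

variable (hM : Over B M)
include hM

variable (h3 : 3 ≤ Fintype.card β)
  (hab : Fintype.card α ≠ 2 ∨ 5 ≤ Fintype.card β ∨ Odd (Fintype.card β) ∨ NoPlane s) (ho : OnlyScalar b M)
include h3 hab ho

/-- The contraction of a reflection conjugated by an element of `M` is not degenerate. -/
theorem not_degenerate {z y : α → F} (hz : z ≠ 0) (hy : b z y = 1) {g : GL (α × β) F} (hg : g ∈ M)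
    {v a a' : β → F} (hv : s v v ≠ 0)
    (hξ : ∀ f, cw s v ((g : Matrix (α × β) (α × β) F) *ᵥ ten z f) = s a f • y + s a' f • z)
    (hind : ∀ x x' : F, x • a + x' • a' = 0 → x = 0 ∧ x' = 0)
    (hG : s a a * s a' a' = s a a' * s a a') : False := by
  obtain ⟨r, hr, hrx⟩ := hT.exists_refl hv
  set g₁ := g⁻¹ * r * g with hg₁
  have hg₁M : g₁ ∈ M := M.mul_mem (M.mul_mem (M.inv_mem hg) (hM.le hr)) hg
  set c0 := 2 / s v v with hc0
  have hc00 : c0 ≠ 0 := div_ne_zero hT.two hv
  have hC : ∀ f, cc b g₁ z z f = c0 • (s a' f • a - s a f • a') := fun f => hT.eq_of_s fun f' => by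
    rw [cc_apply, ← hT.ten_left, ← hM.sub hg, hg₁, mul_mulVec, mul_mulVec, mulVec_inv_mulVec, hrx, map_sub,
      hM.sub hg, hT.pol, hT.balt z, zero_mul, zero_sub, map_smul, hT.swap (ten (cw s v _) v),
      hT.ten_left', hξ, hξ]
    simp [hT.balt z, hT.balt y, hy, hT.b_swap z y, hT.ssym f' a, hT.ssym f' a']
    ring
  have hskew : ∀ f f', s (cc b g₁ z z f) f' = -s f (cc b g₁ z z f') := fun f f' => by
    simp [hC, hT.ssym f a, hT.ssym f a']
    ring
  obtain ⟨u, hu⟩ := hT.exists_s_one (show a ≠ 0 from fun e => one_ne_zero (hind 1 0 (by simp [e])).1)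
  have hne : cc b g₁ z z u ≠ 0 := by
    rw [hC, hu]
    intro e
    have := hind (s a' u) (-1) (by linear_combination (norm := module) (smul_eq_zero.1 e).resolve_left hc00)
    exact one_ne_zero (neg_eq_zero.1 this.2)
  obtain ⟨f₀, hf₀, hf₀'⟩ := exists_ne_zero_ker ((s a).prod (s a')) (by simp; omega)
  have hker : cc b g₁ z z f₀ = 0 := by
    simp [hC, show s a f₀ = 0 from congrArg Prod.fst hf₀', show s a' f₀ = 0 from congrArg Prod.snd hf₀']
  have hg₁X : g₁ ∉ krs ⊓ iso B := fun hX => by
    obtain ⟨⟨p, A, hpA⟩, -⟩ := hX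
    have e : ∀ f, cc b g₁ z z f = b z ((p : Matrix α α F) *ᵥ z) • ((A : Matrix β β F) *ᵥ f) := fun f => by
      rw [cc_apply, hpA, kr_ten, cu_ten]
    rw [e] at hker
    rcases smul_eq_zero.1 hker with h0 | h0
    · exact hne (by rw [e, h0, zero_smul])
    · exact hf₀ (by simpa using congrArg (fun w => ((A⁻¹ : GL β F) : Matrix β β F) *ᵥ w) h0)
  set C := cc b g₁ z z with hCdef
  have hC3 : ∀ f, C (C (C f)) = 0 := fun f => by
    have e2 : ∀ f, C (C f) = (c0 * c0) • ((s a' f * s a a' - s a f * s a' a') • a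
        - (s a' f * s a a - s a f * s a a') • a') := fun f => by
      rw [hC f, map_smul, map_sub, map_smul, map_smul, hC a, hC a', hT.ssym a' a]
      module
    rw [e2, hC f]
    simp only [map_smul, map_sub, hT.ssym a' a, smul_eq_mul]
    match_scalars <;> first | grind | linear_combination (0 : F)
  have hca : ∀ f, ca b g₁ z z f = C f := fun f => hT.eq_of_s fun f' => by
    rw [ca_spec hT hM hg₁M, hskew, neg_neg]
  obtain ⟨g', h1, h2, -, h3', h4⟩ := exists_derived hT hM h3 hab ho hg₁M hg₁X hz z one_ne_zero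
  refine cc_pow_ne hT hM h3 hab ho hz 1 h1 h2 h4 (LinearMap.ext fun f => ?_)
  rw [pow_one, pow_two, Module.End.mul_apply, h3', h3', one_smul, one_smul, hca, hca]
  exact hC3 _

/-- The previous statement for an element diagonal on a frame. -/
theorem not_degenerate_frame {z y : α → F} (hz : z ≠ 0) (hy : b z y = 1) {g : GL (α × β) F} (hg : g ∈ M)
    {e : Fin 4 → β → F} (he : IsFrame s e) {p q : Fin 4 → F}
    (hgz : ∀ i, (g : Matrix (α × β) (α × β) F) *ᵥ ten z (e i) = ten (p i • y + q i • z) (e i))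
    (l : Fin 4 → F) {i₀ i₁ : Fin 4} (h₀ : p i₀ * l i₀ ≠ 0) (h₁ : q i₁ * l i₁ ≠ 0) (hp : p i₁ = 0)
    (hv : ∑ i, l i * l i * s (e i) (e i) ≠ 0)
    (hG : (∑ i, p i * l i * (p i * l i) * s (e i) (e i)) * (∑ i, q i * l i * (q i * l i) * s (e i) (e i))
      = (∑ i, p i * l i * (q i * l i) * s (e i) (e i)) * (∑ i, p i * l i * (q i * l i) * s (e i) (e i))) :
    False := by
  have coord : ∀ (c : Fin 4 → F) i, s (e i) (∑ j, c j • e j) = c i * s (e i) (e i) := fun c i => by
    rw [map_sum, Finset.sum_eq_single i (fun j _ hj => by rw [map_smul, he.orth i j (Ne.symm hj), smul_zero])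
      (by simp), map_smul, smul_eq_mul]
  have gram : ∀ c c' : Fin 4 → F, s (∑ j, c j • e j) (∑ j, c' j • e j) = ∑ i, c i * c' i * s (e i) (e i) :=
    fun c c' => by
      rw [map_sum]
      exact Finset.sum_congr rfl fun i _ => by
        rw [map_smul, hT.ssym, coord, smul_eq_mul, ← mul_assoc, mul_comm (c' i)]
  refine not_degenerate hT hM h3 hab ho hz hy hg (v := ∑ i, l i • e i) (a := ∑ i, (p i * l i) • e i)
    (a' := ∑ i, (q i * l i) • e i) (by rw [gram]; exact hv) (fun f => ?_) (fun x x' h => ?_)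
    (by rw [gram, gram, gram]; exact hG)
  · have := he.ext (S := cw s (∑ i, l i • e i) ∘ₗ Matrix.mulVecLin (g : Matrix (α × β) (α × β) F) ∘ₗ tenL z)
      (T := (s (∑ i, (p i * l i) • e i)).smulRight y + (s (∑ i, (q i * l i) • e i)).smulRight z) fun i => by
      simp only [LinearMap.comp_apply, tenL_apply, Matrix.mulVecLin_apply, hgz, cw_ten, LinearMap.add_apply,
        LinearMap.smulRight_apply]
      rw [hT.ssym _ (e i), hT.ssym _ (e i), hT.ssym _ (e i), coord, coord, coord]
      module
    exact LinearMap.congr_fun this f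
  · have e1 := congrArg (s (e i₁)) h
    simp only [map_add, map_smul, map_zero, coord, hp, zero_mul, smul_eq_mul, mul_zero, zero_add] at e1
    have hx' : x' = 0 := (mul_eq_zero.1 e1).resolve_right (mul_ne_zero h₁ (he.aniso i₁))
    have e0 := congrArg (s (e i₀)) h
    simp only [hx', map_add, map_smul, map_zero, coord, zero_smul, smul_eq_mul, zero_mul, add_zero] at e0
    exact ⟨(mul_eq_zero.1 e0).resolve_right (mul_ne_zero h₀ (he.aniso i₀)), hx'⟩

/-- An element diagonal on a frame along `z` is diagonal along `y`. -/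
theorem diag_y (hα : Fintype.card α = 2) {z y : α → F} (hz : z ≠ 0) (hy : b z y = 1) {g : GL (α × β) F} (hg : g ∈ M)
    {e : Fin 4 → β → F} (he : IsFrame s e) {u : Fin 4 → α → F}
    (hgz : ∀ i, (g : Matrix (α × β) (α × β) F) *ᵥ ten z (e i) = ten (u i) (e i)) :
    ∃ u' : Fin 4 → α → F, ∀ i, (g : Matrix (α × β) (α × β) F) *ᵥ ten y (e i) = ten (u' i) (e i) ∧
      b (u i) (u' i) = 1 := by
  have horth : ∀ a i, a ≠ i → cw s (e a) ((g : Matrix (α × β) (α × β) F) *ᵥ ten y (e i)) = 0 := by
    intro a i hai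
    obtain ⟨r, hr, hrt, hrr⟩ := exists_refl_ten hT (he.aniso a)
    set c := 2 / s (e a) (e a) with hc
    have hri : ∀ v, (r : Matrix (α × β) (α × β) F) *ᵥ ten v (e i) = ten v (e i) := fun v => by
      rw [hrt, he.orth a i hai, mul_zero, zero_smul, sub_zero]
    have hcomm : ∀ f, (g : Matrix (α × β) (α × β) F) *ᵥ ((r : Matrix (α × β) (α × β) F) *ᵥ ten z f)
        = (r : Matrix (α × β) (α × β) F) *ᵥ ((g : Matrix (α × β) (α × β) F) *ᵥ ten z f) := fun f => by
      have := he.ext
        (S := Matrix.mulVecLin (g : Matrix (α × β) (α × β) F) ∘ₗ Matrix.mulVecLin (r : Matrix (α × β) (α × β) F) ∘ₗ tenL z)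
        (T := Matrix.mulVecLin (r : Matrix (α × β) (α × β) F) ∘ₗ Matrix.mulVecLin (g : Matrix (α × β) (α × β) F) ∘ₗ tenL z)
        fun j => by
          simp only [LinearMap.comp_apply, tenL_apply, Matrix.mulVecLin_apply, hgz, hrt]
          rcases eq_or_ne a j with rfl | hj
          · rw [ten_sub_right, ten_smul_right, Matrix.mulVec_sub, Matrix.mulVec_smul, hgz, ten_sub_right,
              ten_smul_right]
          · rw [he.orth a j hj, mul_zero, zero_smul, sub_zero, hgz]
      exact LinearMap.congr_fun this f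
    set h := r * g⁻¹ * r * g with hh
    have hhM : h ∈ M := M.mul_mem (M.mul_mem (M.mul_mem (hM.le hr) (M.inv_mem hg)) (hM.le hr)) hg
    have hhfix : ∀ f, (h : Matrix (α × β) (α × β) F) *ᵥ ten z f = ten z f := fun f => by
      rw [hh, mul_mulVec, mul_mulVec, mul_mulVec, ← hcomm, inv_mulVec_mulVec, hrr]
    obtain ⟨⟨p, A, hpA⟩, -⟩ := fix_line hT hM hz h3 ho hhM hhfix
    obtain ⟨l, hl⟩ : ∃ l : α → F, l ⬝ᵥ z = 1 := exists_dot_one hz
    have hAi : (l ⬝ᵥ ((p : Matrix α α F) *ᵥ z)) • ((A : Matrix β β F) *ᵥ e i) = e i := by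
      have := congrArg (cR l) (hhfix (e i))
      rwa [hpA, kr_ten, cR_ten, cR_ten, hl, one_smul] at this
    set d := l ⬝ᵥ ((p : Matrix α α F) *ᵥ z)
    have hd : d ≠ 0 := fun h0 => he.aniso i (by
      have : e i = 0 := by rw [← hAi, h0, zero_smul]
      rw [this]; simp)
    have hA : (A : Matrix β β F) *ᵥ e i = d⁻¹ • e i := by
      conv_rhs => rw [← hAi, smul_smul, inv_mul_cancel₀ hd, one_smul]
    set v := d⁻¹ • ((p : Matrix α α F) *ᵥ y)
    have hhy : (h : Matrix (α × β) (α × β) F) *ᵥ ten y (e i) = ten v (e i) := by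
      rw [hpA, kr_ten, hA, ten_smul_right, ← ten_smul_left]
    have hv : b z v = 1 := by
      have e1 := hM.sub hhM (ten z (e i)) (ten y (e i))
      rw [hhfix, hhy, hT.pol, hT.pol, hy] at e1
      exact mul_right_cancel₀ (he.aniso i) e1
    -- `g y = r g r v`
    have e1 : (r : Matrix (α × β) (α × β) F) *ᵥ ((g : Matrix (α × β) (α × β) F) *ᵥ ten y (e i))
        = (g : Matrix (α × β) (α × β) F) *ᵥ ten v (e i) := by
      conv_rhs => rw [← hri v, ← hhy, hh, mul_mulVec, mul_mulVec, mul_mulVec, hrr, mulVec_inv_mulVec]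
    have hdec : v = y + (-b y v) • z := by
      conv_lhs => rw [decomp_two hT hα hy v, hv]
      module
    rw [hdec, ten_add_left, ten_smul_left, Matrix.mulVec_add, Matrix.mulVec_smul] at e1
    have e2 : (r : Matrix (α × β) (α × β) F) *ᵥ ((r : Matrix (α × β) (α × β) F) *ᵥ
          ((g : Matrix (α × β) (α × β) F) *ᵥ ten y (e i)))
        = (r : Matrix (α × β) (α × β) F) *ᵥ ((g : Matrix (α × β) (α × β) F) *ᵥ ten y (e i)
          + -b y v • (g : Matrix (α × β) (α × β) F) *ᵥ ten z (e i)) := congrArg _ e1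
    rw [hrr, Matrix.mulVec_add, Matrix.mulVec_smul, e1, ← hcomm, hri] at e2
    have e3 : -b y v = 0 := by
      have h2 : (2 : F) • ((-b y v) • ((g : Matrix (α × β) (α × β) F) *ᵥ ten z (e i))) = 0 := by
        linear_combination (norm := module) -e2
      have h3' := congrArg (fun x => ((g⁻¹ : GL (α × β) F) : Matrix (α × β) (α × β) F) *ᵥ x)
        ((smul_eq_zero.1 h2).resolve_left hT.two)
      simp only [Matrix.mulVec_smul, inv_mulVec_mulVec, Matrix.mulVec_zero] at h3'
      have h4 := congrArg (cu b y) h3'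
      rw [map_smul, cu_ten, hT.b_swap z y, hy, map_zero, smul_smul] at h4
      have := (smul_eq_zero.1 h4).resolve_right (fun e0 => he.aniso i (by rw [e0]; simp))
      simpa using this
    rw [e3, zero_smul, add_zero] at e1
    -- the fixed space of the reflection
    set X := (g : Matrix (α × β) (α × β) F) *ᵥ ten y (e i)
    have e4 := congrArg (cw s (e a)) e1
    have : ∀ x, cw s (e a) ((r : Matrix (α × β) (α × β) F) *ᵥ x) = -cw s (e a) x := fun x => by
      have := Tensor.map_ext (S := cw s (e a) ∘ₗ Matrix.mulVecLin (r : Matrix (α × β) (α × β) F))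
        (T := -cw s (e a)) fun w f => by
          simp only [LinearMap.comp_apply, Matrix.mulVecLin_apply, hrt, cw_ten, LinearMap.neg_apply, map_sub,
            map_smul, smul_eq_mul]
          rw [show 2 / s (e a) (e a) * s (e a) f * s (e a) (e a) = 2 * s (e a) f by field_simp [he.aniso a]]
          module
      exact LinearMap.congr_fun this x
    rw [this] at e4
    exact (smul_eq_zero.1 (show (2 : F) • cw s (e a) X = 0 by linear_combination (norm := module) -e4)).resolve_left
      hT.two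
  refine ⟨fun i => (s (e i) (e i))⁻¹ • cw s (e i) ((g : Matrix (α × β) (α × β) F) *ᵥ ten y (e i)), fun i => ?_⟩
  set X := (g : Matrix (α × β) (α × β) F) *ᵥ ten y (e i) with hX
  have hXt : X = ten ((s (e i) (e i))⁻¹ • cw s (e i) X) (e i) := hT.ext fun v => he.eq_of hT fun a => by
    rw [← hT.ten_left, hT.ten_left', cu_ten, map_smul, map_smul, smul_eq_mul, smul_eq_mul]
    rcases eq_or_ne a i with rfl | hai
    · field_simp [he.aniso a]
    · rw [horth a i hai, he.orth a i hai, map_zero, mul_zero]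
  refine ⟨hXt, ?_⟩
  have e1 := hM.sub hg (ten z (e i)) (ten y (e i))
  rw [hgz, ← hX, hXt, hT.pol, hT.pol, hy] at e1
  exact mul_right_cancel₀ (he.aniso i) e1

end CfsgLib.Geo.TensorSp
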