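/-
`Sp(U) ⊗ O(W)` for `dim U = 2` and `W` four-dimensional of minus type.
-/
import Cfsg.Agent.Geo.TensorSym.Main
import Cfsg.Agent.Geo.TensorSym.Frame

set_option autoImplicit false
set_option linter.unusedSectionVars false

namespace CfsgLib.Geo.TensorSp

open Matrix CfsgLib.Geo CfsgLib.Geo.Tensor CfsgLib.Geo.TensorO

variable {α β : Type} [Fintype α] [DecidableEq α] [Fintype β] [DecidableEq β] {F : Type*} [Field F] [Fintype F]
variable {B : LinearMap.BilinForm F (α × β → F)} {b : LinearMap.BilinForm F (α → F)}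
  {s : LinearMap.BilinForm F (β → F)} {M : Subgroup (GL (α × β) F)}

theorem eq_or_neg (hcard : Fintype.card F = 3) {x y : F} (hx : x ≠ 0) (hy : y ≠ 0) : y = x ∨ y = -x := by
  have h : y * y = x * x := by rw [sq_eq_one hcard hx, sq_eq_one hcard hy]
  exact mul_self_eq_mul_self_iff.1 h

variable (hT : IsTS B b s) (hM : Over B M) (ho : OnlyScalar b M) (hcard : Fintype.card F = 3)
  (hα : Fintype.card α = 2) (hβ : Fintype.card β = 4) (hnp : NoPlane s)
include hT hM ho hcard hα hβ hnp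

omit hM ho hα hnp in
/-- In an anisotropic range of a self-adjoint projection with anisotropic kernel there are two orthogonal
directions. -/
theorem second {π : (β → F) →ₗ[F] (β → F)} (hsa : ∀ f f', s (π f) f' = s f (π f')) (hidm : ∀ f, π (π f) = π f)
    (hK : ∀ f, π f = 0 → s f f = 0 → f = 0) {p q : β → F} (hp : π p = p) (hq : π q = 0) (hq0 : q ≠ 0) :
    ∃ p', π p' = p' ∧ p' ≠ 0 ∧ s p p' = 0 := by
  by_contra hno
  push Not at hno
  have hin : ∀ f, s p f = 0 → π f = 0 := fun f hf => by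
    by_contra hne
    exact hno (π f) (hidm f) hne (by rw [← hsa, hp, hf])
  obtain ⟨q₂, n2, o2⟩ := exists_ne_zero_ker ((s p).prod (s q)) (by simp; omega)
  have o2p : s p q₂ = 0 := congrArg Prod.fst o2
  have o2q : s q q₂ = 0 := congrArg Prod.snd o2
  obtain ⟨q₃, n3, o3⟩ := exists_ne_zero_ker ((s p).prod ((s q).prod (s q₂))) (by simp; omega)
  have o3p : s p q₃ = 0 := congrArg Prod.fst o3
  have o3q : s q q₃ = 0 := congrArg (fun x => x.2.1) o3
  have o3q2 : s q₂ q₃ = 0 := congrArg (fun x => x.2.2) o3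
  have k2 := hin q₂ o2p
  have k3 := hin q₃ o3p
  have hQ : s q q ≠ 0 := fun e => hq0 (hK q hq e)
  have hQ2 : s q₂ q₂ ≠ 0 := fun e => n2 (hK q₂ k2 e)
  have hQ3 : s q₃ q₃ ≠ 0 := fun e => n3 (hK q₃ k3 e)
  have key : ∀ a a' : β → F, π a = 0 → π a' = 0 → s a a' = 0 → s a a ≠ 0 → s a' a' ≠ 0 → s a' a' = s a a := by
    intro a a' ha ha' ho' hA hA'
    refine (eq_or_neg hcard hA hA').resolve_right fun e => hA ?_
    have h0 := hK (a + a') (by rw [map_add, ha, ha', add_zero]) (by simp [ho', hT.ssym a' a, e])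
    have := congrArg (s a) h0
    simpa [ho'] using this
  have h0 := hK (q + q₂ + q₃) (by simp [hq, k2, k3]) (by
    simp [o2q, o3q, o3q2, hT.ssym q₂ q, hT.ssym q₃ q, hT.ssym q₃ q₂, key q q₂ hq k2 o2q hQ hQ2,
      key q q₃ hq k3 o3q hQ hQ3]
    linear_combination s q q * three_eq_zero hcard)
  have := congrArg (s q) h0
  simp [o2q, o3q] at this
  exact hQ this

/-- From a projection to one with hyperbolic range. -/
theorem hyp_range {z y : α → F} (hz : z ≠ 0) (hy : b z y = 1) {g : GL (α × β) F} (hg : IsPr B b s M z g) :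
    ∃ g', IsPr B b s M z g' ∧ ∃ w x, cc b g' z z w = w ∧ cc b g' z z x = x ∧ s w x = 0 ∧ s w w ≠ 0 ∧
      s x x = -s w w ∧ ∀ f, ∃ a c : F, cc b g' z z f = a • w + c • x := by
  have h3 : 3 ≤ Fintype.card β := by omega
  have hab : Fintype.card α ≠ 2 ∨ 5 ≤ Fintype.card β ∨ Odd (Fintype.card β) ∨ NoPlane s :=
    Or.inr (Or.inr (Or.inr hnp))
  have h30 := three_eq_zero hcard
  have h2 := hT.two
  have sq : ∀ {x : F}, x ≠ 0 → x * x = 1 := fun hx => sq_eq_one hcard hx
  obtain ⟨g', hg', π, E, hgX', hn, rfl⟩ := exists_nf hT hM h3 hab ho hα hcard hz hy hg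
  set π := cc b g z z
  have hidm : ∀ f, π (π f) = π f := hn.idem
  have hsa : ∀ f f', s (π f) f' = s f (π f') := hn.sa
  obtain ⟨k₀, hk₀, hπk₀⟩ := hg.sing
  have hres : ∀ {g₁ : GL (α × β) F} {a P : β → F}, IsPr B b s M z g₁ → cc b g₁ z z a = a → cc b g₁ z z P = P →
      (∀ f, ∃ x x' : F, cc b g₁ z z f = x • a + x' • P) → s a a * s P P - s a P * s a P = -1 →
      ∃ g', IsPr B b s M z g' ∧ ∃ w x, cc b g' z z w = w ∧ cc b g' z z x = x ∧ s w x = 0 ∧ s w w ≠ 0 ∧
        s x x = -s w w ∧ ∀ f, ∃ a c : F, cc b g' z z f = a • w + c • x := by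
    intro g₁ a P h1 ha hP hspan hG
    refine ⟨g₁, h1, ?_⟩
    by_cases hQa : s a a = 0
    · have hσ : s a P ≠ 0 := fun e => by
        rw [hQa, e] at hG; simp at hG
      set t := s P P / (2 * s a P)
      have ht : 2 * t * s a P = s P P := by simp only [t]; field_simp
      refine ⟨a + (P - t • a), a - (P - t • a), by simp [map_add, map_sub, map_smul, ha, hP],
        by simp [map_sub, map_smul, ha, hP], ?_, ?_, ?_, fun f => ?_⟩
      · simp [hQa, hT.ssym P a]
        linear_combination ht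
      · have : s (a + (P - t • a)) (a + (P - t • a)) = 2 * s a P := by
          simp [hQa, hT.ssym P a]
          linear_combination -ht
        rw [this]
        exact mul_ne_zero h2 hσ
      · simp [hQa, hT.ssym P a]
        linear_combination -2 * ht
      · obtain ⟨x, x', e⟩ := hspan f
        refine ⟨(x + x' * t) / 2 + x' / 2, (x + x' * t) / 2 - x' / 2, ?_⟩
        rw [e]
        match_scalars <;> field_simp <;> ring
    · refine ⟨a, P - (s a a * s a P) • a, ha, by simp [map_sub, map_smul, ha, hP], ?_, hQa, ?_, fun f => ?_⟩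
      · simp; linear_combination (-s a P) * sq hQa
      · simp [hT.ssym P a]
        linear_combination (s a a) * hG + (-s P P + s a a * s a P * s a P) * sq hQa
      · obtain ⟨x, x', e⟩ := hspan f
        exact ⟨x + x' * (s a a * s a P), x', by rw [e]; module⟩
  by_cases hR : ∃ a, π a = a ∧ a ≠ 0 ∧ s a a = 0
  · obtain ⟨a, haπ, ha0, hQa⟩ := hR
    obtain ⟨k, hkπ, hk⟩ : ∃ k, π k = 0 ∧ s k k ≠ 0 := by
      obtain ⟨f, hf⟩ := exists_aniso_in hT (P := LinearMap.id - π) (fun f f' => by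
        simp [hsa, hidm]) (f₀ := k₀) (by simpa [show π k₀ = 0 from hπk₀] using hk₀)
      exact ⟨f - π f, by rw [map_sub, hidm, sub_self], by simpa using hf⟩
    have o : s k a = 0 := by rw [← haπ, ← hsa, hkπ, map_zero, LinearMap.zero_apply]
    obtain ⟨hG, g₁, h1, hfa, hfP, -, hspan⟩ := pair_step hT hM h3 hab ho hα hcard hz hy hg' hn hkπ haπ
      (fun e => hk (by rw [e]; simp)) ha0 (by simpa [o, hT.ssym a k, hQa] using hk)
    refine hres h1 hfa hfP hspan ?_
    rw [hQa, zero_mul, zero_sub] at hG ⊢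
    rw [sq (fun e => hG (by rw [e]; simp))]
  push Not at hR
  have hRa : ∀ f, π f = f → s f f = 0 → f = 0 := fun f h1 h2' => by
    by_contra h; exact hR f h1 h h2'
  by_cases hK : ∃ k, π k = 0 ∧ k ≠ 0 ∧ s k k = 0
  · obtain ⟨k, hkπ, hk0, hQk⟩ := hK
    obtain ⟨f₁, hf₁⟩ := cc_ne hT hM h3 hab ho hg.mem hg.notMem hz hz
    set p := π f₁
    have hpπ : π p = p := hidm f₁
    have hQp : s p p ≠ 0 := fun e => hf₁ (hRa p hpπ e)
    have hEp : π (E p) = E p := by rw [← hpπ]; exact hn.range p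
    have o : ∀ k', π k' = 0 → s p k' = 0 ∧ s k' p = 0 ∧ s k' (E p) = 0 ∧ s (E p) k' = 0 := fun k' hk' => by
      have h1 : s k' p = 0 := by rw [← hpπ, ← hsa, hk', map_zero, LinearMap.zero_apply]
      have h2 : s k' (E p) = 0 := by rw [← hEp, ← hsa, hk', map_zero, LinearMap.zero_apply]
      exact ⟨by rw [hT.ssym]; exact h1, h1, h2, by rw [hT.ssym]; exact h2⟩
    obtain ⟨o1, o2, o3, o4⟩ := o k hkπ
    obtain ⟨hG, -⟩ := pair_step hT hM h3 hab ho hα hcard hz hy hg' hn hkπ hpπ hk0
      (fun e => hQp (by rw [e]; simp)) (by simpa [o1, o2, hQk] using hQp)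
    simp [o1, o3, o4, hQk] at hG
    set x := E p - (s p p * s p (E p)) • p with hx
    have hxπ : π x = x := by rw [hx, map_sub, map_smul, hEp, hpπ]
    have opx : s p x = 0 := by simp [hx]; linear_combination (-s p (E p)) * sq hQp
    have hQx : s x x ≠ 0 := fun e => hG (by
      have h0 := hRa x hxπ e
      rw [hx, sub_eq_zero] at h0
      rw [h0]
      simp
      ring)
    have hxx : s x x = s p p := (eq_or_neg hcard hQp hQx).resolve_right fun e => hQp (by
      have h0 := hRa (p + x) (by rw [map_add, hpπ, hxπ]) (by simp [opx, hT.ssym x p, e])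
      have := congrArg (s p) h0
      simpa [opx] using this)
    obtain ⟨t, ht⟩ := hT.exists_s_one hk0
    set k₁ := t - π t
    have hk₁π : π k₁ = 0 := by simp [k₁, hidm]
    have hkk₁ : s k k₁ = 1 := by simp [k₁, ← hsa, hkπ, ht]
    set c := (s p p - s k₁ k₁) / 2
    set k' := k₁ + c • k
    have hk'π : π k' = 0 := by simp [k', hk₁π, hkπ]
    have hQk' : s k' k' = s p p := by
      simp [k', hQk, hkk₁, hT.ssym k₁ k, c]
      field_simp
      ring
    obtain ⟨q1, q2, q3, q4⟩ := o k' hk'π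
    obtain ⟨-, g₁, h1, hfa, hfP, -, hspan⟩ := pair_step hT hM h3 hab ho hα hcard hz hy hg' hn hk'π hpπ
      (fun e => hQp (by rw [← hQk', e]; simp)) (fun e => hQp (by rw [e]; simp))
      (by simpa [q1, q2, hQk', ← two_mul] using mul_ne_zero h2 hQp)
    refine hres h1 hfa hfP hspan ?_
    have hxx' : s (E p) (E p) - s p p * (s p (E p) * s p (E p)) = s p p := by
      conv_rhs => rw [← hxx, hx]
      simp [hT.ssym (E p) p]
      linear_combination (-(s p p * s p (E p) * s p (E p))) * sq hQp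
    simp [q1, q3, q4, hQk']
    linear_combination (s p p) * hxx' + (2 + s p (E p) * s p (E p)) * sq hQp + h30
  push Not at hK
  exfalso
  have hKa : ∀ f, π f = 0 → s f f = 0 → f = 0 := fun f h1 h2' => by
    by_contra h; exact hK f h1 h h2'
  obtain ⟨ν, hν0, hν⟩ := exists_null hT h3
  set p := π ν
  set q := ν - π ν
  have hpπ : π p = p := hidm ν
  have hqπ : π q = 0 := by simp [q, hidm]
  have opq : s p q = 0 := by rw [← hpπ, hsa, hqπ, map_zero]
  have hνpq : ν = p + q := by simp [p, q]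
  have hp0 : p ≠ 0 := fun e => hν0 (hKa ν (show p = 0 from e) hν)
  have hq0 : q ≠ 0 := fun e => hν0 (hRa ν (sub_eq_zero.1 e).symm hν)
  have hQp : s p p ≠ 0 := fun e => hp0 (hRa p hpπ e)
  have hQq : s q q = -s p p := by
    rw [hνpq] at hν
    simp [opq, hT.ssym q p] at hν
    linear_combination hν
  obtain ⟨p', hp'π, hp'0, opp'⟩ := second hT hcard hβ hsa hidm hKa hpπ hqπ hq0
  obtain ⟨q', hq'π, hq'0, oqq'⟩ := second hT hcard hβ (π := LinearMap.id - π) (fun f f' => by simp [hsa])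
    (fun f => by simp [hidm]) (fun f hf => hRa f (sub_eq_zero.1 (by simpa using hf)).symm) (p := q) (q := p)
    (by simp [hqπ]) (by simp [hpπ]) hp0
  have hq'π : π q' = 0 := by simpa using hq'π
  have hQp' : s p' p' = s p p := (eq_or_neg hcard hQp (fun e => hp'0 (hRa p' hp'π e))).resolve_right fun e =>
    hQp (by
      have h0 := hRa (p + p') (by rw [map_add, hpπ, hp'π]) (by simp [opp', hT.ssym p' p, e])
      have := congrArg (s p) h0
      simpa [opp'] using this)
  have hQq0 : s q q ≠ 0 := fun e => hq0 (hKa q hqπ e)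
  have hQq' : s q' q' = s q q := (eq_or_neg hcard hQq0 (fun e => hq'0 (hKa q' hq'π e))).resolve_right fun e =>
    hQq0 (by
      have h0 := hKa (q + q') (by rw [map_add, hqπ, hq'π, add_zero]) (by simp [oqq', hT.ssym q' q, e])
      have := congrArg (s q) h0
      simpa [oqq'] using this)
  have o12 : s p q' = 0 := by rw [← hpπ, hsa, hq'π, map_zero]
  have o21 : s p' q = 0 := by rw [← hp'π, hsa, hqπ, map_zero]
  have o22 : s p' q' = 0 := by rw [← hp'π, hsa, hq'π, map_zero]
  obtain ⟨c, hc⟩ := hnp (p + q) (p' + q')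
    (by simp [opq, hT.ssym q p, hQq])
    (by simp [o22, hT.ssym q' p', hQp', hQq', hQq])
    (by simp [opp', o12, oqq', hT.ssym q p', o21])
    (fun e => hQp (by have := congrArg (s p) e; simpa [opq] using this))
  have h0 := congrArg (s p) hc
  simp [opp', o12, opq] at h0
  rcases h0 with h0 | h0
  · rw [h0, zero_smul] at hc
    exact hQp (by rw [← hQp']; have := congrArg (s p') hc; simpa [o22] using this)
  · exact hQp h0

/-- A projection with hyperbolic range is diagonal on a frame, with two different slopes. -/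
theorem exists_diag {z y : α → F} (hz : z ≠ 0) (hy : b z y = 1) {g : GL (α × β) F} (hg : IsPr B b s M z g) :
    ∃ g' ∈ M, ∃ e : Fin 4 → β → F, ∃ e₀ e₁ c : F, e₀ ≠ e₁ ∧ c ≠ 0 ∧ IsFrame s e ∧
      s (e 0) (e 0) = c ∧ s (e 1) (e 1) = -c ∧ s (e 2) (e 2) = c ∧ s (e 3) (e 3) = c ∧
      ∀ i, (g' : Matrix (α × β) (α × β) F) *ᵥ ten z (e i)
        = ten (![(1 : F), 1, 0, 0] i • y + ![e₀, e₁, 1, 1] i • z) (e i) := by
  have h3 : 3 ≤ Fintype.card β := by omega
  have hab : Fintype.card α ≠ 2 ∨ 5 ≤ Fintype.card β ∨ Odd (Fintype.card β) ∨ NoPlane s :=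
    Or.inr (Or.inr (Or.inr hnp))
  have h2 := hT.two
  have sq : ∀ {x : F}, x ≠ 0 → x * x = 1 := fun hx => sq_eq_one hcard hx
  obtain ⟨g₁, hg₁, w₀, x₀, hw₀, hx₀, hwx₀, hQw₀, hQx₀, hspan⟩ := hyp_range hT hM ho hcard hα hβ hnp hz hy hg
  obtain ⟨g', hg', π, E, hgX', hn, rfl⟩ := exists_nf hT hM h3 hab ho hα hcard hz hy hg₁
  set π := cc b g₁ z z
  have hidm : ∀ f, π (π f) = π f := hn.idem
  have hsa : ∀ f f', s (π f) f' = s f (π f') := hn.sa
  obtain ⟨k₀, hk₀, hπk₀⟩ := hg₁.sing
  obtain ⟨k, hkπ, hQk⟩ : ∃ k, π k = 0 ∧ s k k ≠ 0 := by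
    obtain ⟨f, hf⟩ := exists_aniso_in hT (P := LinearMap.id - π) (fun f f' => by
      simp [hsa, hidm]) (f₀ := k₀) (by simpa [show π k₀ = 0 from hπk₀] using hk₀)
    exact ⟨f - π f, by rw [map_sub, hidm, sub_self], by simpa using hf⟩
  -- orient the range
  obtain ⟨w, x, hw, hx, hwx, hQw, hQx, hspan⟩ : ∃ w x, π w = w ∧ π x = x ∧ s w x = 0 ∧ s w w = s k k ∧
      s x x = -s w w ∧ ∀ f, ∃ a c : F, π f = a • w + c • x := by
    rcases eq_or_neg hcard hQk hQw₀ with h | h
    · exact ⟨w₀, x₀, hw₀, hx₀, hwx₀, h, hQx₀, hspan⟩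
    · refine ⟨x₀, w₀, hx₀, hw₀, by rw [hT.ssym, hwx₀], by rw [hQx₀, h, neg_neg], by rw [hQx₀, neg_neg], fun f => ?_⟩
      obtain ⟨a, c, e⟩ := hspan f
      exact ⟨c, a, by rw [e, add_comm]⟩
  have okw : s k w = 0 := by rw [← hw, ← hsa, hkπ, map_zero, LinearMap.zero_apply]
  have okx : s k x = 0 := by rw [← hx, ← hsa, hkπ, map_zero, LinearMap.zero_apply]
  obtain ⟨k₂, hk₂0, hk₂'⟩ := exists_ne_zero_ker ((s w).prod ((s x).prod (s k))) (by simp; omega)
  have owk₂ : s w k₂ = 0 := congrArg Prod.fst hk₂'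
  have oxk₂ : s x k₂ = 0 := congrArg (fun q => q.2.1) hk₂'
  have okk₂ : s k k₂ = 0 := congrArg (fun q => q.2.2) hk₂'
  have hQw' : s w w ≠ 0 := by rw [hQw]; exact hQk
  have hk₂π : π k₂ = 0 := by
    obtain ⟨a, c, e⟩ := hspan k₂
    have e1 : s w (π k₂) = 0 := by rw [← hsa, hw, owk₂]
    have e2 : s x (π k₂) = 0 := by rw [← hsa, hx, oxk₂]
    rw [e] at e1 e2
    simp [hwx, hT.ssym x w, hQx, hQw'] at e1 e2
    rw [e, e1, e2]; simp
  have nullwx : s (w + x) (w + x) = 0 := by simp [hwx, hT.ssym x w, hQx]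
  have hwx0 : w + x ≠ 0 := fun e => hQw' (by have := congrArg (s w) e; simpa [hwx] using this)
  have noK : ∀ a, π a = 0 → a ≠ 0 → s a a ≠ 0 := fun a ha ha0 e => by
    have o : s (w + x) a = 0 := by
      rw [show w + x = π (w + x) by rw [map_add, hw, hx], hsa, ha, map_zero]
    obtain ⟨d, hd⟩ := hnp (w + x) a nullwx e o hwx0
    rw [hd, map_smul, map_add, hw, hx] at ha
    exact ha0 (hd.trans ha)
  have hQk₂ : s k₂ k₂ = s k k := (eq_or_neg hcard hQk (noK k₂ hk₂π hk₂0)).resolve_right fun e => by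
    refine noK (k + k₂) (by rw [map_add, hkπ, hk₂π, add_zero]) (fun h0 => hQk ?_) ?_
    · have := congrArg (s k) h0; simpa [okk₂] using this
    · simp [okk₂, hT.ssym k₂ k, e]
  set e : Fin 4 → β → F := ![w, x, k, k₂] with he'
  have he : IsFrame s e := by
    refine ⟨hβ, fun i j hij => ?_, fun i => ?_⟩
    · fin_cases i <;> fin_cases j <;> first | exact absurd rfl hij | skip
      all_goals simp [he', hwx, okw, okx, owk₂, oxk₂, okk₂, hT.ssym x w, hT.ssym w k, hT.ssym x k,
        hT.ssym k₂ w, hT.ssym k₂ x, hT.ssym k₂ k]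
    · fin_cases i <;> simp [he', hQw, hQx, hQk, hQk₂]
  have hEwπ : π (E w) = E w := by rw [← hw]; exact hn.range w
  have hExπ : π (E x) = E x := by rw [← hx]; exact hn.range x
  have osymm : s (E w) x = s w (E x) := by
    have := hn.symm w x
    rwa [hw, hx] at this
  have okE : ∀ k', π k' = 0 → s k' (E w) = 0 ∧ s k' (E x) = 0 := fun k' hk' =>
    ⟨by rw [← hEwπ, ← hsa, hk', map_zero, LinearMap.zero_apply],
      by rw [← hExπ, ← hsa, hk', map_zero, LinearMap.zero_apply]⟩
  obtain ⟨oa, ob⟩ := okE k hkπ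
  obtain ⟨oa₂, ob₂⟩ := okE k₂ hk₂π
  -- the mixed term vanishes
  have hzero : s x (E w) = 0 := by
    by_contra hne
    obtain ⟨hG, -⟩ := pair_step hT hM h3 hab ho hα hcard hz hy hg' hn hkπ hw
      (fun e => hQk (by rw [e]; simp)) (fun e => hQw' (by rw [e]; simp))
      (by simpa [okw, hT.ssym w k, hQw, ← two_mul] using mul_ne_zero h2 hQk)
    have hEw : E w = (s k k * s w (E w)) • w + (-(s k k) * s x (E w)) • x := he.eq_of hT fun i => by
      fin_cases i <;> simp [he', hwx, okw, okx, owk₂, oxk₂, oa, oa₂, hT.ssym x w, hT.ssym k₂ w, hT.ssym k₂ x,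
        hQw, hQx]
      · linear_combination (-s w (E w)) * sq hQk
      · linear_combination (-s x (E w)) * sq hQk
    apply hG
    rw [hEw]
    simp [hwx, okw, okx, hT.ssym x w, hT.ssym w k, hT.ssym x k, hQw, hQx]
    linear_combination (norm := ring1) (-(s k k * s k k * s x (E w) * s x (E w))) * sq hQk
      - (s x (E w) * s x (E w) - 1) * sq hQk - sq hne
  set e₀ := s k k * s w (E w)
  set e₁ := -(s k k) * s x (E x)
  have hEw : E w = e₀ • w := he.eq_of hT fun i => by
    fin_cases i <;> simp [he', hwx, okw, okx, owk₂, oxk₂, oa, oa₂, hT.ssym x w, hT.ssym k₂ w, hT.ssym k₂ x,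
      hQw, hQx, hzero, e₀]
    linear_combination (-s w (E w)) * sq hQk
  have hEx : E x = e₁ • x := he.eq_of hT fun i => by
    fin_cases i <;> simp [he', hwx, okw, okx, owk₂, oxk₂, ob, ob₂, hT.ssym k₂ w, hT.ssym k₂ x,
      hQw, hQx, e₁, ← osymm, hT.ssym (E w) x, hzero]
    linear_combination (-s x (E x)) * sq hQk
  have hne : e₀ ≠ e₁ := fun h => by
    obtain ⟨hG, -⟩ := pair_step hT hM h3 hab ho hα hcard hz hy hg' hn hkπ (show π (w + x) = w + x by
        rw [map_add, hw, hx]) (fun e => hQk (by rw [e]; simp)) hwx0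
      (by simpa [okw, okx, hwx, hT.ssym w k, hT.ssym x k, hT.ssym x w, hQx] using hQk)
    apply hG
    simp [hEw, hEx, okw, okx, hwx, hT.ssym w k, hT.ssym x k, hT.ssym x w, hQx, h]
  refine ⟨g', hg', e, e₀, e₁, s k k, hne, hQk, he, hQw, by simp [he', hQx, hQw], rfl, hQk₂, fun i => ?_⟩
  rw [hn.form]
  fin_cases i <;> simp [he', hw, hx, hkπ, hk₂π, hEw, hEx, hn.ker k hkπ, hn.ker k₂ hk₂π, ten_add_left,
    ten_smul_left, ten_smul_right, ten_zero_right, ten_zero_left]

/-- No projection exists. -/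
theorem no_pr_minus {z : α → F} (hz : z ≠ 0) {g : GL (α × β) F} (hg : IsPr B b s M z g) : False := by
  have h3 : 3 ≤ Fintype.card β := by omega
  have hab : Fintype.card α ≠ 2 ∨ 5 ≤ Fintype.card β ∨ Odd (Fintype.card β) ∨ NoPlane s :=
    Or.inr (Or.inr (Or.inr hnp))
  have h30 := three_eq_zero hcard
  have h2 := hT.two
  obtain ⟨y, hy⟩ := hT.exists_b_one hz
  obtain ⟨g', hg', e, e₀, e₁, c, hne, hc, he, q0, q1, q2, q3, hgz⟩ :=
    exists_diag hT hM ho hcard hα hβ hnp hz hy hg
  have hyz : b y z = -1 := by rw [hT.b_swap z y, hy]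
  have dec : ∀ u, u = b z u • y + (-b y u) • z := fun u => by
    conv_lhs => rw [decomp_two hT hα hy u]
    module
  obtain ⟨u, hu⟩ := diag_y hT hM h3 hab ho hα hz hy hg' he hgz
  -- the two kernel lines behave alike
  have h23 : u 2 = u 3 := by
    have o23 : s (e 2) (e 3) = 0 := he.orth 2 3 (by decide)
    have o32 : s (e 3) (e 2) = 0 := he.orth 3 2 (by decide)
    set e' : Fin 4 → β → F := ![e 0, e 1, e 2 + e 3, e 2 - e 3] with he'd
    have he' : IsFrame s e' := by
      refine ⟨hβ, fun i j hij => ?_, fun i => ?_⟩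
      · fin_cases i <;> fin_cases j <;> first | exact absurd rfl hij | skip
        all_goals simp [he'd, he.orth 0 1 (by decide), he.orth 1 0 (by decide), he.orth 0 2 (by decide),
          he.orth 2 0 (by decide), he.orth 0 3 (by decide), he.orth 3 0 (by decide), he.orth 1 2 (by decide),
          he.orth 2 1 (by decide), he.orth 1 3 (by decide), he.orth 3 1 (by decide), o23, o32, q2, q3]
      · fin_cases i <;> simp [he'd, o23, o32, q0, q1, q2, q3, hc]
        all_goals exact fun h => hc ((mul_eq_zero.1 (show (2 : F) * c = 0 by linear_combination h)).resolve_left h2)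
    obtain ⟨v, hv⟩ := diag_y hT hM h3 hab ho hα hz hy hg' he'
      (u := fun i => ![(1 : F), 1, 0, 0] i • y + ![e₀, e₁, 1, 1] i • z) fun i => by
        fin_cases i <;> simp only [he'd]
        · exact hgz 0
        · exact hgz 1
        · show (g' : Matrix (α × β) (α × β) F) *ᵥ ten z (e 2 + e 3) = _
          rw [ten_add_right, Matrix.mulVec_add, hgz, hgz]
          simp [ten_add_right]
        · show (g' : Matrix (α × β) (α × β) F) *ᵥ ten z (e 2 - e 3) = _
          rw [ten_sub_right, Matrix.mulVec_sub, hgz, hgz]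
          simp [ten_sub_right]
    have h := (hv 2).1
    simp only [he'd, Matrix.cons_val] at h
    rw [ten_add_right, Matrix.mulVec_add, (hu 2).1, (hu 3).1] at h
    have a := congrArg (cw s (e 2)) h
    have a' := congrArg (cw s (e 3)) h
    simp [o23, o32, q2, q3, ten_add_right] at a a'
    exact (smul_right_injective _ hc (show c • u 2 = c • v 2 from a)).trans
      (smul_right_injective _ hc (show c • u 3 = c • v 2 from a')).symm
  -- normalise
  set γ := -b y (u 2) with hγ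
  have hu2 : u 2 = y + γ • z := by
    have := (hu 2).2
    simp at this
    conv_lhs => rw [dec (u 2), this, one_smul]
  obtain ⟨Tn, hTn, hTnx⟩ := hT.exists_T z (-γ)
  set G := g' * Tn with hG
  have hGM : G ∈ M := M.mul_mem hg' (hM.le hTn)
  set γ₀ := b z (u 0) - γ
  set γ₁ := b z (u 1) - γ
  have Tten : ∀ {t : F} {T : GL (α × β) F}, (∀ x, (T : Matrix (α × β) (α × β) F) *ᵥ x = x + t • ten z (cu b z x)) →
      ∀ (a d : F) (f : β → F), (T : Matrix (α × β) (α × β) F) *ᵥ ten (a • y + d • z) f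
        = ten (a • y + (d + t * a) • z) f := fun {t T} hTx a d f => by
    rw [hTx, cu_ten, map_add, map_smul, map_smul, hy, hT.balt z, ten_smul_right, smul_smul]
    simp only [ten_add_left, ten_smul_left, smul_eq_mul, mul_zero, add_zero, mul_one, add_smul, add_assoc]
  have G0 : ∀ a d, (G : Matrix (α × β) (α × β) F) *ᵥ ten (a • y + d • z) (e 0)
      = ten ((a * γ₀ + d) • y + (a * (e₀ * γ₀ - 1) + d * e₀) • z) (e 0) := fun a d => by
    have hb := (hu 0).2
    simp [hy] at hb
    have hy' : b y (u 0) = 1 - e₀ * b z (u 0) := by linear_combination hb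
    rw [hG, mul_mulVec, Tten hTnx, ten_add_left, ten_smul_left, ten_smul_left, Matrix.mulVec_add,
      Matrix.mulVec_smul, Matrix.mulVec_smul, (hu 0).1, hgz, dec (u 0), hy']
    simp only [Matrix.cons_val_zero, one_smul, γ₀, ten_add_left, ten_smul_left]
    module
  have G1 : ∀ a d, (G : Matrix (α × β) (α × β) F) *ᵥ ten (a • y + d • z) (e 1)
      = ten ((a * γ₁ + d) • y + (a * (e₁ * γ₁ - 1) + d * e₁) • z) (e 1) := fun a d => by
    have hb := (hu 1).2
    simp [hy] at hb
    have hy' : b y (u 1) = 1 - e₁ * b z (u 1) := by linear_combination hb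
    rw [hG, mul_mulVec, Tten hTnx, ten_add_left, ten_smul_left, ten_smul_left, Matrix.mulVec_add,
      Matrix.mulVec_smul, Matrix.mulVec_smul, (hu 1).1, hgz, dec (u 1), hy']
    simp [γ₁, ten_add_left, ten_smul_left, -smul_add]
    module
  have GK : ∀ i, (i = 2 ∨ i = 3) → ∀ v, (G : Matrix (α × β) (α × β) F) *ᵥ ten v (e i) = ten v (e i) := by
    intro i hi v
    have hui : u i = y + γ • z := by rcases hi with rfl | rfl <;> [exact hu2; exact h23.symm.trans hu2]
    conv_lhs => rw [dec v, hG, mul_mulVec, Tten hTnx, ten_add_left, ten_smul_left, ten_smul_left, Matrix.mulVec_add,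
      Matrix.mulVec_smul, Matrix.mulVec_smul, (hu i).1, hgz, hui]
    conv_rhs => rw [dec v]
    rcases hi with rfl | rfl <;> simp only [Matrix.cons_val, ten_add_left, ten_smul_left, zero_smul, ten_zero_left, zero_add, one_smul] <;> module
  have Ginv : ∀ a d, ((G⁻¹ : GL (α × β) F) : Matrix (α × β) (α × β) F) *ᵥ ten (a • y + d • z) (e 0)
      = ten ((a * e₀ - d) • y + (γ₀ * d - a * (e₀ * γ₀ - 1)) • z) (e 0) := fun a d => by
    conv_rhs => rw [← inv_mulVec_mulVec G (ten ((a * e₀ - d) • y + (γ₀ * d - a * (e₀ * γ₀ - 1)) • z) (e 0))]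
    rw [G0]
    congr 2
    match_scalars <;> ring
  have Ginv1 : ∀ a d : F, ((G⁻¹ : GL (α × β) F) : Matrix (α × β) (α × β) F) *ᵥ
      ((G : Matrix (α × β) (α × β) F) *ᵥ ten (a • y + d • z) (e 1)) = ten (a • y + d • z) (e 1) :=
    fun a d => inv_mulVec_mulVec G _
  have GinvK : ∀ i, (i = 2 ∨ i = 3) → ∀ v,
      ((G⁻¹ : GL (α × β) F) : Matrix (α × β) (α × β) F) *ᵥ ten v (e i) = ten v (e i) := fun i hi v => by
    conv_rhs => rw [← inv_mulVec_mulVec G (ten v (e i)), GK i hi]
  -- exchanging lines of equal norm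
  have swap : ∀ i j : Fin 4, i ≠ j → s (e i) (e i) = c → s (e j) (e j) = c → ∃ r ∈ krs ⊓ iso B,
      (∀ v, (r : Matrix (α × β) (α × β) F) *ᵥ ten v (e i) = ten v (e j)) ∧
      (∀ v, (r : Matrix (α × β) (α × β) F) *ᵥ ten v (e j) = ten v (e i)) ∧
      ∀ k, k ≠ i → k ≠ j → ∀ v, (r : Matrix (α × β) (α × β) F) *ᵥ ten v (e k) = ten v (e k) := by
    intro i j hij hi hj
    have o := he.orth i j hij
    have hQ : s (e i - e j) (e i - e j) = 2 * c := by simp [o, hT.ssym (e j) (e i), hi, hj]; ring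
    obtain ⟨r, hr, hrt, -⟩ := exists_refl_ten hT (v := e i - e j) (by rw [hQ]; exact mul_ne_zero h2 hc)
    refine ⟨r, hr, fun v => ?_, fun v => ?_, fun k hki hkj v => ?_⟩
    · rw [hrt, hQ]
      congr 1
      simp [o, hT.ssym (e j) (e i), hi]
      match_scalars <;> field_simp <;> ring
    · rw [hrt, hQ]
      congr 1
      simp [o, hT.ssym (e j) (e i), hj]
      match_scalars <;> field_simp <;> ring
    · rw [hrt]
      congr 1
      simp [he.orth i k (Ne.symm hki), he.orth j k (Ne.symm hkj)]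
  obtain ⟨r, hr, r0, r2, rk⟩ := swap 0 2 (by decide) q0 q2
  obtain ⟨r', hr', r'0, r'3, r'k⟩ := swap 0 3 (by decide) q0 q3
  -- the commutator with the exchange
  set H := r * G⁻¹ * r * G with hH
  have hHM : H ∈ M := M.mul_mem (M.mul_mem (M.mul_mem (hM.le hr) (M.inv_mem hGM)) (hM.le hr)) hGM
  have H0 : ∀ a d, (H : Matrix (α × β) (α × β) F) *ᵥ ten (a • y + d • z) (e 0)
      = ten ((a * γ₀ + d) • y + (a * (e₀ * γ₀ - 1) + d * e₀) • z) (e 0) := fun a d => by
    rw [hH, mul_mulVec, mul_mulVec, mul_mulVec, G0, r0, GinvK 2 (Or.inl rfl), r2]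
  have H1 : ∀ a d, (H : Matrix (α × β) (α × β) F) *ᵥ ten (a • y + d • z) (e 1) = ten (a • y + d • z) (e 1) :=
    fun a d => by
      rw [hH, mul_mulVec, mul_mulVec, mul_mulVec, G1, rk 1 (by decide) (by decide), ← G1, Ginv1,
        rk 1 (by decide) (by decide)]
  have H2 : ∀ a d, (H : Matrix (α × β) (α × β) F) *ᵥ ten (a • y + d • z) (e 2)
      = ten ((a * e₀ - d) • y + (γ₀ * d - a * (e₀ * γ₀ - 1)) • z) (e 2) := fun a d => by
    rw [hH, mul_mulVec, mul_mulVec, mul_mulVec, GK 2 (Or.inl rfl), r2, Ginv, r0]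
  have H3 : ∀ v, (H : Matrix (α × β) (α × β) F) *ᵥ ten v (e 3) = ten v (e 3) := fun v => by
    rw [hH, mul_mulVec, mul_mulVec, mul_mulVec, GK 3 (Or.inr rfl), rk 3 (by decide) (by decide),
      GinvK 3 (Or.inr rfl), rk 3 (by decide) (by decide)]
  clear_value G H
  have hz01 : ∀ i, ten z (e i) = ten ((0 : F) • y + (1 : F) • z) (e i) := fun i => by simp
  have finish : ∀ {F' : GL (α × β) F}, F' ∈ M → ∀ (p q l : Fin 4 → F) (i₀ i₁ : Fin 4),
      (∀ i, (F' : Matrix (α × β) (α × β) F) *ᵥ ten z (e i) = ten (p i • y + q i • z) (e i)) →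
      p i₀ * l i₀ ≠ 0 → q i₁ * l i₁ ≠ 0 → p i₁ = 0 →
      ∑ i, l i * l i * s (e i) (e i) ≠ 0 →
      (∑ i, p i * l i * (p i * l i) * s (e i) (e i)) * (∑ i, q i * l i * (q i * l i) * s (e i) (e i))
        = (∑ i, p i * l i * (q i * l i) * s (e i) (e i)) * (∑ i, p i * l i * (q i * l i) * s (e i) (e i)) →
      False :=
    fun hF p q l i₀ i₁ h a1 a2 a3 a4 a5 => not_degenerate_frame hT hM h3 hab ho hz hy hF he h l a1 a2 a3 a4 a5
  by_cases htr : e₀ + γ₀ = e₁ + γ₁
  swap
  · obtain ⟨T, hT', hTx⟩ := hT.exists_T z (-(e₁ + γ₁))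
    refine finish (F' := G * T * G) (M.mul_mem (M.mul_mem hGM (hM.le hT')) hGM)
      ![e₀ + γ₀ - (e₁ + γ₁), 0, 0, 0] ![e₀ * γ₀ - 1 + (e₀ - (e₁ + γ₁)) * e₀, -1, 1, 1] ![1, 1, 1, 0] 0 1
      (fun i => ?_) ?_ ?_ ?_ ?_ ?_
    · rw [mul_mulVec, mul_mulVec, hz01]
      fin_cases i
      · simp only [Fin.zero_eta, G0, Tten hTx]
        simp only [Matrix.cons_val_zero]
        congr 1
        match_scalars <;> ring
      · simp only [Fin.mk_one, G1, Tten hTx]
        simp only [Matrix.cons_val_one, Matrix.cons_val_zero]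
        congr 1
        match_scalars <;> ring
      · simp only [Fin.reduceFinMk]
        rw [GK 2 (Or.inl rfl), Tten hTx, GK 2 (Or.inl rfl)]
        simp
      · simp only [Fin.reduceFinMk]
        rw [GK 3 (Or.inr rfl), Tten hTx, GK 3 (Or.inr rfl)]
        simp
    all_goals simp [Fin.sum_univ_four, q0, q1, q2, q3, hc, sub_ne_zero, htr] <;> ring
  by_cases ht0 : e₀ + γ₀ = 0
  swap
  · obtain ⟨T, hT', hTx⟩ := hT.exists_T z (e₀ + γ₀)
    refine finish (F' := H * T * H) (M.mul_mem (M.mul_mem hHM (hM.le hT')) hHM)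
      ![2 * (e₀ + γ₀), 0, 0, 0] ![e₀ * γ₀ - 1 + (e₀ + (e₀ + γ₀)) * e₀, 1, -1, 1] ![1, 1, 1, 0] 0 1
      (fun i => ?_) ?_ ?_ ?_ ?_ ?_
    · rw [mul_mulVec, mul_mulVec, hz01]
      fin_cases i
      · simp only [Fin.zero_eta, H0, Tten hTx]
        simp only [Matrix.cons_val_zero]
        congr 1
        match_scalars <;> ring
      · simp only [Fin.mk_one, H1, Tten hTx]
        simp
      · simp only [Fin.reduceFinMk, H2, Tten hTx]
        simp only [Matrix.cons_val]
        congr 1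
        match_scalars <;> ring
      · simp only [Fin.reduceFinMk]
        rw [H3, Tten hTx, H3]
        simp
    all_goals simp [Fin.sum_univ_four, q0, q1, q2, q3, hc, h2, ht0] <;> ring
  · obtain ⟨P, hP, hPt⟩ := hT.exists_left ((b z).smulRight (e₀ • y - (e₀ * γ₀ - 1) • z)
      + (b y).smulRight (y - γ₀ • z)) fun v v' => by
        conv_rhs => rw [dec v, dec v']
        simp [hy, hyz, hT.balt z, hT.balt y]
        ring
    have hPad : ∀ a d i, (P : Matrix (α × β) (α × β) F) *ᵥ ten (a • y + d • z) (e i)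
        = ten ((a * e₀ - d) • y + (γ₀ * d - a * (e₀ * γ₀ - 1)) • z) (e i) := fun a d i => by
      rw [hPt]
      congr 1
      simp [hy, hyz, hT.balt z, hT.balt y]
      module
    set H' := r' * H * r' with hH'
    have hH'M : H' ∈ M := M.mul_mem (M.mul_mem (hM.le hr') hHM) (hM.le hr')
    refine finish (F' := G * P * H') (M.mul_mem (M.mul_mem hGM (hM.le hP)) hH'M)
      ![0, e₁ - e₀, 0, 0] ![1, -(e₁ * γ₁ - 1) + γ₀ * e₁, -1, 1] ![1, 1, 1, 1] 1 0
      (fun i => ?_) ?_ ?_ ?_ ?_ ?_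
    · rw [mul_mulVec, mul_mulVec, hH', mul_mulVec, mul_mulVec, hz01]
      fin_cases i
      · simp only [Fin.zero_eta]
        rw [r'0, H3, r'3, hPad, G0]
        simp only [Matrix.cons_val_zero]
        congr 1
        match_scalars <;> ring
      · simp only [Fin.mk_one]
        rw [r'k 1 (by decide) (by decide), H1, r'k 1 (by decide) (by decide), hPad, G1]
        simp only [Matrix.cons_val_one, Matrix.cons_val_zero]
        congr 1
        match_scalars
        · linear_combination htr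
        · ring
      · simp only [Fin.reduceFinMk]
        rw [r'k 2 (by decide) (by decide), H2, r'k 2 (by decide) (by decide), hPad, GK 2 (Or.inl rfl)]
        simp only [Matrix.cons_val]
        congr 1
        match_scalars
        · linear_combination -ht0
        · linear_combination γ₀ * ht0
      · simp only [Fin.reduceFinMk]
        rw [r'3, H0, r'0, hPad, GK 3 (Or.inr rfl)]
        simp only [Matrix.cons_val]
        congr 1
        match_scalars <;> ring
    · simp [sub_ne_zero, Ne.symm hne]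
    · simp
    · simp
    · simp [Fin.sum_univ_four, q0, q1, q2, q3]
      exact fun h => hc ((mul_eq_zero.1 (show (2 : F) * c = 0 by linear_combination h)).resolve_left h2)
    · simp [Fin.sum_univ_four, q0, q1, q2, q3]
      linear_combination (-((e₁ - e₀) * (e₁ - e₀)) * c * c) * h30

end CfsgLib.Geo.TensorSp

namespace CfsgLib.Geo.TensorSp

open Matrix CfsgLib.Geo CfsgLib.Geo.Tensor CfsgLib.Geo.TensorO

variable {α β : Type} [Fintype α] [DecidableEq α] [Fintype β] [DecidableEq β] {F : Type*} [Field F] [Fintype F]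
variable {B : LinearMap.BilinForm F (α × β → F)} {b : LinearMap.BilinForm F (α → F)}
  {s : LinearMap.BilinForm F (β → F)} {M : Subgroup (GL (α × β) F)}

/-- An overgroup is standard or has every transvection. -/
theorem full_or_le_minus (hT : IsTS B b s) (hM : Over B M) (hα : Fintype.card α = 2) (hβ : Fintype.card β = 4)
    (hnp : NoPlane s) (hq : (∃ e : F, e ≠ 0 ∧ e ≠ 1 ∧ e ≠ -1) ∨ Fintype.card F = 3) :
    (∀ x, Full B M x) ∨ M ≤ krs ⊓ iso B := by
  have h3 : 3 ≤ Fintype.card β := by omega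
  have hab : Fintype.card α ≠ 2 ∨ 5 ≤ Fintype.card β ∨ Odd (Fintype.card β) ∨ NoPlane s :=
    Or.inr (Or.inr (Or.inr hnp))
  rcases hq with h5 | hF
  · exact full_or_le hT hM h3 (by omega) hab (Or.inl h5)
  rcases full_or_onlyScalar hT hM (exists_null hT h3) h3 (Or.inl (by omega)) with h | ho
  · exact Or.inl h
  refine Or.inr fun g hg => ?_
  by_contra hgX
  haveI : Nonempty α := Fintype.card_pos_iff.1 (by omega)
  obtain ⟨z, hz⟩ := exists_ne (0 : α → F)
  obtain ⟨u, g', hgood⟩ := exists_good hT hM h3 hab ho (by omega) hg hgX hz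
  obtain ⟨g'', hpr⟩ := exists_pr hT hM h3 hab ho hF hgood
  exact no_pr_minus hT hM ho hF hα hβ hnp hgood.2.2.1 hpr

end CfsgLib.Geo.TensorSp
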