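/-
The stabiliser of a symplectic-by-orthogonal tensor decomposition in `spGL`.
-/
import Cfsg.Agent.Geo.TensorSym.Main
import Cfsg.Agent.Geo.TensorSym.MainLarge
import Cfsg.Agent.Geo.TensorSym.Minus
import Cfsg.Agent.Geo.TensorLinearMaximal
import Cfsg.Agent.Geo.TensorOrthBridge
import Cfsg.Agent.Geo.SympTv

set_option autoImplicit false

namespace CfsgLib.Geo.TensorSp

open Matrix CfsgLib.Geo CfsgLib.Geo.Tensor

variable {F : Type*} [Field F] [Fintype F] {m n₁ n₂ : ℕ}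

/-- Maximality reduced to the dichotomy for overgroups. -/
theorem maximal_of_full_or_le (hm : 1 ≤ m) (hodd : Odd (Fintype.card F)) (h3 : 3 ≤ n₂)
    {f₁ : (Fin n₁ → F) → (Fin n₁ → F) → F} {f₂ : (Fin n₂ → F) → (Fin n₂ → F) → F}
    (H : ∀ (B : LinearMap.BilinForm F (Fin n₁ × Fin n₂ → F)) (b : LinearMap.BilinForm F (Fin n₁ → F))
      (s : LinearMap.BilinForm F (Fin n₂ → F)) (M : Subgroup (GL (Fin n₁ × Fin n₂) F)),
      (∀ f f', s f f' = f₂ f f') → IsTS B b s → Over B M → (∀ x, Full B M x) ∨ M ≤ krs ⊓ iso B)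
    (e : (Fin m ⊕ Fin m) ≃ Fin n₁ × Fin n₂) (P : GL (Fin m ⊕ Fin m) F)
    (hf₁ : Cfsg.Geo.IsSymplecticForm f₁) (hf₂ : Cfsg.Geo.IsSymmetricForm f₂)
    (hT : Cfsg.Geo.IsTensorFormStructure id (Cfsg.sympForm m F) f₁ f₂ e P) :
    Cfsg.Geo.IsMaximalIn (Cfsg.spGL m F) (Cfsg.Geo.tensorProductSubgroup n₁ n₂ e P ⊓ Cfsg.spGL m F) := by
  classical
  obtain ⟨c, hc, hform⟩ := hT
  have htwo : (2 : F) ≠ 0 := fun h => by
    haveI := CharTwo.of_one_ne_zero_of_two_eq_zero (one_ne_zero (α := F)) h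
    have := FiniteField.even_card_of_char_two (F := F) (ringChar.eq F 2)
    obtain ⟨k, hk⟩ := hodd
    omega
  let L : (Fin n₁ × Fin n₂ → F) ≃ₗ[F] (Fin m ⊕ Fin m → F) :=
    (LinearEquiv.funCongrLeft F F e).trans (CfsgLib.Geo.glEquiv P)
  have hL : ∀ x, L x = (P : Matrix (Fin m ⊕ Fin m) (Fin m ⊕ Fin m) F) *ᵥ (x ∘ e) :=
    fun x => CfsgLib.Geo.glEquiv_apply P (x ∘ e)
  set B : LinearMap.BilinForm F (Fin n₁ × Fin n₂ → F) :=
    (Matrix.toBilin' (Matrix.J (Fin m) F)).comp L.toLinearMap L.toLinearMap with hB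
  have hBx : ∀ x y, B x y = Cfsg.sympForm m F (L x) (L y) := fun x y => by
    rw [hB, LinearMap.BilinForm.comp_apply, Matrix.toBilin'_apply']
    rfl
  obtain ⟨hbn, hba⟩ := TensorO.nondeg_bilOfIs hf₁ hc
  set b := c • CfsgLib.Geo.OS.bilOfIs hf₁.bilinear with hb
  set s := CfsgLib.Geo.OS.bilOfIs hf₂.bilinear with hs
  have hTS : IsTS B b s := by
    refine ⟨hbn, hba, ⟨fun v hv => ?_, fun v hv => ?_⟩, fun f f' => hf₂.symm f f', htwo, fun u f u' f' => ?_⟩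
    · by_contra hv0
      obtain ⟨-, x, hx⟩ := hf₂.nondegenerate v hv0
      exact hx (hv x)
    · by_contra hv0
      obtain ⟨⟨x, hx⟩, -⟩ := hf₂.nondegenerate v hv0
      exact hx (hv x)
    · rw [hBx, hL, hL, hform, TensorO.formOfGram_ten hf₁.bilinear hf₂.bilinear]
      show c * (f₁ u u' * f₂ f f') = (c * f₁ u u') * f₂ f f'
      ring
  let ψ := glTransport e P
  have htr : ∀ (k : GL (Fin n₁ × Fin n₂) F) x, ((ψ k : GL (Fin m ⊕ Fin m) F) : Matrix _ _ F) *ᵥ L x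
      = L ((k : Matrix (Fin n₁ × Fin n₂) (Fin n₁ × Fin n₂) F) *ᵥ x) := by
    intro k x
    show (P * Cfsg.Geo.glReindex e.symm k * P⁻¹).val *ᵥ L x = _
    rw [hL, hL, CfsgLib.Geo.mul_mulVec, CfsgLib.Geo.mul_mulVec, CfsgLib.Geo.inv_mulVec_mulVec]
    congr 1
    show (Matrix.reindexAlgEquiv F F e.symm (k : Matrix (Fin n₁ × Fin n₂) (Fin n₁ × Fin n₂) F)) *ᵥ (x ∘ e) = _
    rw [Matrix.reindexAlgEquiv_apply, Matrix.reindex_apply, Matrix.submatrix_mulVec_equiv, Equiv.symm_symm]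
    congr 1
    rw [Function.comp_assoc, Equiv.self_comp_symm, Function.comp_id]
  have hG : (iso B).map ψ.toMonoidHom = Cfsg.spGL m F := by
    ext y
    constructor
    · rintro ⟨g, hg, rfl⟩
      refine SpTv.mem_spGL.2 fun u v => ?_
      obtain ⟨x, rfl⟩ := L.surjective u
      obtain ⟨x', rfl⟩ := L.surjective v
      show Cfsg.sympForm m F ((ψ g : GL (Fin m ⊕ Fin m) F).1 *ᵥ L x) ((ψ g : GL (Fin m ⊕ Fin m) F).1 *ᵥ L x') = Cfsg.sympForm m F (L x) (L x')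
      rw [htr, htr, ← hBx, ← hBx, hg]
    · intro hy
      obtain ⟨g, rfl⟩ := ψ.surjective y
      refine ⟨g, fun x x' => ?_, rfl⟩
      rw [hBx, hBx, ← htr, ← htr]
      exact SpTv.mem_spGL.1 hy _ _
  have hK : Cfsg.Geo.tensorProductSubgroup n₁ n₂ e P = krs.map ψ.toMonoidHom := by
    have : (krs : Subgroup (GL (Fin n₁ × Fin n₂) F)) = Cfsg.Geo.kroneckerSubgroup n₁ n₂ F := by
      ext g
      exact ⟨fun ⟨a, d, h⟩ => h ▸ kr_mem a d, fun h => exists_kr h⟩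
    rw [this, Cfsg.Geo.tensorProductSubgroup, Subgroup.map_map]
    rfl
  rw [hK, ← hG, ← Subgroup.map_inf _ _ _ ψ.injective]
  obtain ⟨i, -⟩ : ∃ i : Fin n₁, True := by
    rcases n₁ with - | n
    · exact (IsEmpty.false (e (Sum.inl ⟨0, hm⟩))).elim
    · exact ⟨0, trivial⟩
  have hz : (Pi.single i (1 : F) : Fin n₁ → F) ≠ 0 := fun h => by simpa using congrFun h i
  refine ⟨(Subgroup.map_lt_map_iff_of_injective ψ.injective).2
    (lt_of_le_not_ge inf_le_right (iso_not_le hTS hz (by simpa using h3))), fun M hM hMK => ?_⟩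
  have hM' : M = (M.comap ψ.toMonoidHom).map ψ.toMonoidHom :=
    (Subgroup.map_comap_eq_self_of_surjective ψ.surjective M).symm
  rw [hM'] at hM hMK
  have hle := (Subgroup.map_le_map_iff_of_injective ψ.injective).1 hM
  have hleB := (Subgroup.map_le_map_iff_of_injective ψ.injective).1 hMK
  have hover : Over B (M.comap ψ.toMonoidHom) := ⟨hle, hleB⟩
  rcases H B b s _ (fun f f' => rfl) hTS hover with h | h
  · right
    refine le_antisymm (hM'.le.trans hMK) ?_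
    rw [hG]
    refine SpTv.spGL_le_of_full fun v d => ?_
    obtain ⟨x, rfl⟩ := L.surjective v
    obtain ⟨g, hg, hgx⟩ := h x (-d)
    have : SpTv.stv (L x) d = ψ g := gl_ext_mulVec fun y => by
      obtain ⟨y, rfl⟩ := L.surjective y
      rw [SpTv.stv_mulVec, htr, hgx, map_add, map_smul, hBx]
      congr 2
      show d * Cfsg.sympForm m F (L y) (L x) = -d * Cfsg.sympForm m F (L x) (L y)
      rw [← hBx, ← hBx, hTS.swap x y]
      ring
    rw [this]
    exact hg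
  · left
    rw [hM']
    exact le_antisymm (Subgroup.map_mono h) (Subgroup.map_mono hle)

theorem exists_unit_ne (hodd : Odd (Fintype.card F)) (h5 : 5 ≤ Fintype.card F) :
    ∃ e : F, e ≠ 0 ∧ e ≠ 1 ∧ e ≠ -1 := by
  classical
  by_contra hcon
  push Not at hcon
  have : Fintype.card F ≤ ({0, 1, -1} : Finset F).card := by
    rw [← Finset.card_univ]
    refine Finset.card_le_card fun x _ => ?_
    simp only [Finset.mem_insert, Finset.mem_singleton]
    rcases eq_or_ne x 0 with h | h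
    · exact Or.inl h
    · rcases eq_or_ne x 1 with h' | h'
      · exact Or.inr (Or.inl h')
      · exact Or.inr (Or.inr (hcon x h h'))
  have := this.trans Finset.card_le_three
  omega

theorem card_eq_three (hodd : Odd (Fintype.card F)) (h5 : ¬ 5 ≤ Fintype.card F) : Fintype.card F = 3 := by
  have := Fintype.one_lt_card (α := F)
  obtain ⟨k, hk⟩ := hodd
  omega

theorem tensor_symp_orth_maximal (hm : 1 ≤ m) (hodd : Odd (Fintype.card F)) (h3 : 3 ≤ n₂) (hne : n₁ ≠ n₂)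
    (h2 : n₁ ≠ 2 ∨ 5 ≤ n₂) (hq : 5 ≤ Fintype.card F ∨ n₁ = 2)
    (e : (Fin m ⊕ Fin m) ≃ Fin n₁ × Fin n₂) (P : GL (Fin m ⊕ Fin m) F)
    {f₁ : (Fin n₁ → F) → (Fin n₁ → F) → F} {f₂ : (Fin n₂ → F) → (Fin n₂ → F) → F}
    (hf₁ : Cfsg.Geo.IsSymplecticForm f₁) (hf₂ : Cfsg.Geo.IsSymmetricForm f₂)
    (hT : Cfsg.Geo.IsTensorFormStructure id (Cfsg.sympForm m F) f₁ f₂ e P) :
    Cfsg.Geo.IsMaximalIn (Cfsg.spGL m F) (Cfsg.Geo.tensorProductSubgroup n₁ n₂ e P ⊓ Cfsg.spGL m F) := by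
  refine maximal_of_full_or_le hm hodd h3 (fun B b s M _ hTS hover => ?_) e P hf₁ hf₂ hT
  refine full_or_le hTS hover (by simpa using h3) (by simpa using hne)
    (by simpa using h2.imp_right (fun h => Or.inl h)) ?_
  by_cases h5 : 5 ≤ Fintype.card F
  · exact Or.inl (exists_unit_ne hodd h5)
  · exact Or.inr ⟨card_eq_three hodd h5, by simpa using hq.resolve_left h5,
      by simpa using h2.resolve_left (not_not.2 (hq.resolve_left h5))⟩

/-- For `q ≥ 5` an odd second dimension suffices. -/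
theorem tensor_symp_orth_maximal_odd (hm : 1 ≤ m) (hodd : Odd (Fintype.card F)) (h3 : 3 ≤ n₂) (hne : n₁ ≠ n₂)
    (h2 : Odd n₂) (hq : 5 ≤ Fintype.card F)
    (e : (Fin m ⊕ Fin m) ≃ Fin n₁ × Fin n₂) (P : GL (Fin m ⊕ Fin m) F)
    {f₁ : (Fin n₁ → F) → (Fin n₁ → F) → F} {f₂ : (Fin n₂ → F) → (Fin n₂ → F) → F}
    (hf₁ : Cfsg.Geo.IsSymplecticForm f₁) (hf₂ : Cfsg.Geo.IsSymmetricForm f₂)
    (hT : Cfsg.Geo.IsTensorFormStructure id (Cfsg.sympForm m F) f₁ f₂ e P) :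
    Cfsg.Geo.IsMaximalIn (Cfsg.spGL m F) (Cfsg.Geo.tensorProductSubgroup n₁ n₂ e P ⊓ Cfsg.spGL m F) := by
  refine maximal_of_full_or_le hm hodd h3 (fun B b s M _ hTS hover => ?_) e P hf₁ hf₂ hT
  exact full_or_le hTS hover (by simpa using h3) (by simpa using hne)
    (Or.inr (Or.inr (Or.inl (by simpa using h2)))) (Or.inl (exists_unit_ne hodd hq))

/-- No comparison of the dimensions is needed when the symplectic factor is large. -/
theorem tensor_symp_orth_maximal_large (hm : 1 ≤ m) (hodd : Odd (Fintype.card F)) (h1 : 3 ≤ n₁) (h3 : 3 ≤ n₂)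
    (h4 : 4 ≤ n₂ ∨ 5 ≤ Fintype.card F)
    (e : (Fin m ⊕ Fin m) ≃ Fin n₁ × Fin n₂) (P : GL (Fin m ⊕ Fin m) F)
    {f₁ : (Fin n₁ → F) → (Fin n₁ → F) → F} {f₂ : (Fin n₂ → F) → (Fin n₂ → F) → F}
    (hf₁ : Cfsg.Geo.IsSymplecticForm f₁) (hf₂ : Cfsg.Geo.IsSymmetricForm f₂)
    (hT : Cfsg.Geo.IsTensorFormStructure id (Cfsg.sympForm m F) f₁ f₂ e P) :
    Cfsg.Geo.IsMaximalIn (Cfsg.spGL m F) (Cfsg.Geo.tensorProductSubgroup n₁ n₂ e P ⊓ Cfsg.spGL m F) := by
  refine maximal_of_full_or_le hm hodd h3 (fun B b s M _ hTS hover => ?_) e P hf₁ hf₂ hT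
  refine full_or_le_large hTS hover (by simpa using h3) (by simpa using h1)
    (h4.imp (by simp) (exists_unit_ne hodd)) ?_
  by_cases h5 : 5 ≤ Fintype.card F
  · exact Or.inl (exists_unit_ne hodd h5)
  · exact Or.inr (card_eq_three hodd h5)

/-- The case of a plane and a four-space of minus type. -/
theorem tensor_symp_orth_maximal_minus (hm : 1 ≤ m) (hodd : Odd (Fintype.card F))
    (e : (Fin m ⊕ Fin m) ≃ Fin 2 × Fin 4) (P : GL (Fin m ⊕ Fin m) F)
    {f₁ : (Fin 2 → F) → (Fin 2 → F) → F} {f₂ : (Fin 4 → F) → (Fin 4 → F) → F}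
    (hf₁ : Cfsg.Geo.IsSymplecticForm f₁) (hf₂ : Cfsg.Geo.IsSymmetricForm f₂)
    (hminus : ¬ Cfsg.Geo.IsPlusTypeOn (fun v : Fin 4 → F => f₂ v v) ⊤)
    (hT : Cfsg.Geo.IsTensorFormStructure id (Cfsg.sympForm m F) f₁ f₂ e P) :
    Cfsg.Geo.IsMaximalIn (Cfsg.spGL m F) (Cfsg.Geo.tensorProductSubgroup 2 4 e P ⊓ Cfsg.spGL m F) := by
  refine maximal_of_full_or_le hm hodd (by norm_num) (fun B b s M hs hTS hover => ?_) e P hf₁ hf₂ hT
  have hnp : NoPlane s := fun x y hx hy hxy hx0 => by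
    by_contra hno
    push Not at hno
    refine hminus ⟨Submodule.span F {x, y}, le_top, fun w hw => ?_, ?_⟩
    · obtain ⟨a, c, rfl⟩ := Submodule.mem_span_pair.1 hw
      show f₂ _ _ = 0
      rw [← hs]
      simp [hx, hy, hxy, hTS.ssym y x]
    · have hli : LinearIndependent F ![x, y] := (LinearIndependent.pair_iff' hx0).2 fun a => Ne.symm (hno a)
      have hr : Set.range ![x, y] = {x, y} := by simp [Matrix.range_cons, Matrix.range_empty, Set.pair_comm]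
      rw [← hr, finrank_span_eq_card hli]
      simp
  refine full_or_le_minus hTS hover (by simp) (by simp) hnp ?_
  by_cases h5 : 5 ≤ Fintype.card F
  · exact Or.inl (exists_unit_ne hodd h5)
  · exact Or.inr (card_eq_three hodd h5)

end CfsgLib.Geo.TensorSp
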